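import Mathlib
import Groth.Agent.S4730

/-!
# The dimension formula: algebra side (helper73)

* `trdeg_eq_of_ringEquiv_square`: invariance of `Algebra.trdeg` under compatible ring isomorphisms.
* `trdeg_quotient_add`: tower additivity for residue domains.
* `mvPolynomial_height_add_trdeg`: for `R` Noetherian, `q ⊂ R[X₁..Xₙ]` prime over `p`,
  `ht q + trdeg_{R/p} (R[X]/q) = ht p + n`.
* `height_map_quotientMk_add_height_le`: `ht (q/Q) + ht Q ≤ ht q`.
-/

set_option autoImplicit false
universe u

open Polynomial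

namespace Groth.Agent.Lib.Helper73

/-- Transcendence degree only depends on the base ring up to isomorphism. -/
lemma trdeg_eq_of_ringEquiv_base {R R' S : Type u} [CommRing R] [CommRing R'] [CommRing S]
    [Algebra R S] [Algebra R' S] (e : R ≃+* R')
    (h : ∀ r, algebraMap R S r = algebraMap R' S (e r)) :
    Algebra.trdeg R S = Algebra.trdeg R' S := by
  have hcomp : (algebraMap R' S).comp (e : R →+* R') = (RingHom.id S).comp (algebraMap R S) := by
    ext r; exact (h r).symm
  have key : ∀ (s : Set S), AlgebraicIndepOn R' id s ↔ AlgebraicIndepOn R id s := by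
    intro s
    exact algebraicIndependent_ringHom_iff_of_comp_eq (x := fun x : s => (x : S)) e (RingHom.id S)
      Function.injective_id hcomp
  unfold Algebra.trdeg
  apply le_antisymm
  · exact ciSup_le' fun i => le_ciSup_of_le Cardinal.bddAbove_of_small ⟨i.1, (key _).2 i.2⟩ le_rfl
  · exact ciSup_le' fun i => le_ciSup_of_le Cardinal.bddAbove_of_small ⟨i.1, (key _).1 i.2⟩ le_rfl

/-- Transcendence degree is invariant under compatible ring isomorphisms of base and algebra. -/
lemma trdeg_eq_of_ringEquiv_square {R S R' S' : Type u} [CommRing R] [CommRing S] [CommRing R']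
    [CommRing S'] [Algebra R S] [Algebra R' S'] (e₁ : R ≃+* R') (e₂ : S ≃+* S')
    (h : ∀ r, e₂ (algebraMap R S r) = algebraMap R' S' (e₁ r)) :
    Algebra.trdeg R S = Algebra.trdeg R' S' := by
  let _ : Algebra R S' := ((algebraMap R' S').comp (e₁ : R →+* R')).toAlgebra
  let e' : S ≃ₐ[R] S' := AlgEquiv.ofRingEquiv (f := e₂) (fun r => h r)
  rw [e'.trdeg_eq]
  exact trdeg_eq_of_ringEquiv_base e₁ (fun r => rfl)

lemma quotient_isScalarTower_of_liesOver {R A B : Type*} [CommRing R] [CommRing A] [CommRing B]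
    [Algebra R A] [Algebra A B] [Algebra R B] [IsScalarTower R A B]
    (p : Ideal R) (P : Ideal A) (Q : Ideal B) [P.LiesOver p] [Q.LiesOver P] [Q.LiesOver p] :
    IsScalarTower (R ⧸ p) (A ⧸ P) (B ⧸ Q) := IsScalarTower.of_algebraMap_eq <| by
  rintro ⟨x⟩
  simp [Submodule.Quotient.quot_mk_eq_mk, IsScalarTower.algebraMap_apply R (A ⧸ P) (B ⧸ Q)]

/-- Tower additivity for transcendence degrees of residue domains. -/
lemma trdeg_quotient_add {R A B : Type u} [CommRing R] [CommRing A] [CommRing B]
    [Algebra R A] [Algebra A B] [Algebra R B] [IsScalarTower R A B]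
    (p : Ideal R) (P : Ideal A) (Q : Ideal B) [p.IsPrime] [P.IsPrime] [Q.IsPrime]
    [P.LiesOver p] [Q.LiesOver P] [Q.LiesOver p] :
    Algebra.trdeg (R ⧸ p) (A ⧸ P) + Algebra.trdeg (A ⧸ P) (B ⧸ Q) =
      Algebra.trdeg (R ⧸ p) (B ⧸ Q) := by
  have := quotient_isScalarTower_of_liesOver p P Q
  exact trdeg_add_eq _ _

/-- Transport of height and residual transcendence degree along an algebra isomorphism. -/
lemma height_add_trdeg_congr {R S S' : Type u} [CommRing R] [CommRing S] [CommRing S']
    [Algebra R S] [Algebra R S'] (e : S ≃ₐ[R] S') (p : Ideal R) (q : Ideal S) (q' : Ideal S')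
    [q.LiesOver p] [q'.LiesOver p] (h : q = q'.comap e) :
    (q.height : Cardinal.{u}) + Algebra.trdeg (R ⧸ p) (S ⧸ q) =
      (q'.height : Cardinal.{u}) + Algebra.trdeg (R ⧸ p) (S' ⧸ q') := by
  have h1 : q.height = q'.height := by
    rw [h]; exact RingEquiv.height_comap e.toRingEquiv q'
  rw [h1, (Ideal.Quotient.algEquivOfEqComap p e h).trdeg_eq]

/-- The dimension formula for polynomial rings in finitely many variables over a Noetherian
ring: equality always holds. -/
theorem mvPolynomial_height_add_trdeg (R : Type u) [CommRing R] [IsNoetherianRing R] (n : ℕ)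
    (p : Ideal R) [p.IsPrime] (q : Ideal (MvPolynomial (Fin n) R)) [q.IsPrime] [q.LiesOver p] :
    (q.height : Cardinal.{u}) + Algebra.trdeg (R ⧸ p) (MvPolynomial (Fin n) R ⧸ q) =
      (p.height : Cardinal.{u}) + n := by
  induction n with
  | zero =>
    let e := MvPolynomial.isEmptyAlgEquiv R (Fin 0)
    have hsymm : ∀ f : MvPolynomial (Fin 0) R, f = algebraMap R _ (e f) := by
      intro f
      have : e.symm (e f) = algebraMap R _ (e f) := by
        rw [MvPolynomial.isEmptyAlgEquiv_symm_apply, MvPolynomial.algebraMap_eq]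
      rw [← this, AlgEquiv.symm_apply_apply]
    have hq : q = p.comap e := by
      ext f
      rw [Ideal.mem_comap, Ideal.mem_of_liesOver q p (e f), ← hsymm f]
    have hp : p.LiesOver p := ⟨by simp [Ideal.under]⟩
    rw [height_add_trdeg_congr e p q p hq]
    have halg : @Algebra.IsAlgebraic (R ⧸ p) (R ⧸ p) _ _ (Ideal.Quotient.algebraOfLiesOver p p) := by
      have : @Algebra.IsIntegral (R ⧸ p) (R ⧸ p) _ _ (Ideal.Quotient.algebraOfLiesOver p p) :=
        @Algebra.isIntegral_of_surjective _ _ _ _ (Ideal.Quotient.algebraOfLiesOver p p) (by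
          rintro ⟨x⟩
          exact ⟨Ideal.Quotient.mk p x, rfl⟩)
      exact @Algebra.IsIntegral.isAlgebraic _ _ _ _ (Ideal.Quotient.algebraOfLiesOver p p) _ this
    have h0 := @trdeg_eq_zero (R ⧸ p) (R ⧸ p) _ _ (Ideal.Quotient.algebraOfLiesOver p p) halg
    rw [h0]
    simp
  | succ n ih =>
    let A := MvPolynomial (Fin n) R
    let e : MvPolynomial (Fin (n+1)) R ≃ₐ[R] A[X] := MvPolynomial.finSuccEquiv R n
    let q1 : Ideal A[X] := q.comap e.symm
    have hq1 : q1.IsPrime := Ideal.comap_isPrime _ _
    have hq1p : q1.LiesOver p := ⟨by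
      rw [q.over_def p]
      ext r
      simp only [Ideal.under, Ideal.mem_comap, q1]
      rw [AlgEquiv.commutes]⟩
    let q2 : Ideal A := q1.under A
    have hq2 : q2.IsPrime := inferInstance
    have hq12 : q1.LiesOver q2 := Ideal.over_under (A := A) q1
    have hq2p : q2.LiesOver p := Ideal.LiesOver.tower_bot q1 q2 p
    have hqq1 : q = q1.comap e := by
      ext x
      simp [q1, Ideal.mem_comap]
    rw [height_add_trdeg_congr e p q q1 hqq1]
    have h1 := Groth.Agent.S4730.result A q2 q1
    have h2 := ih q2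
    have h3 := trdeg_quotient_add p q2 q1
    rw [← h3]
    calc (q1.height : Cardinal.{u}) + (Algebra.trdeg (R ⧸ p) (A ⧸ q2) +
          Algebra.trdeg (A ⧸ q2) (A[X] ⧸ q1))
        = ((q1.height : Cardinal.{u}) + Algebra.trdeg (A ⧸ q2) (A[X] ⧸ q1)) +
          Algebra.trdeg (R ⧸ p) (A ⧸ q2) := by ring
      _ = ((q2.height : Cardinal.{u}) + 1) + Algebra.trdeg (R ⧸ p) (A ⧸ q2) := by rw [h1]
      _ = ((q2.height : Cardinal.{u}) + Algebra.trdeg (R ⧸ p) (A ⧸ q2)) + 1 := by ring
      _ = (p.height : Cardinal.{u}) + n + 1 := by rw [h2]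
      _ = (p.height : Cardinal.{u}) + (n + 1 : ℕ) := by push_cast; ring

end Groth.Agent.Lib.Helper73

namespace Groth.Agent.Lib.Helper73

/-- Along a strictly increasing chain the height grows at least by the length. -/
lemma height_head_add_length_le {β : Type*} [Preorder β] (s : LTSeries β) :
    Order.height s.head + s.length ≤ Order.height s.last := by
  have key : ∀ (i : ℕ) (hi : i < s.length + 1),
      Order.height s.head + i ≤ Order.height (s ⟨i, hi⟩) := by
    intro i
    induction i with
    | zero => intro hi; simp [RelSeries.head]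
    | succ i ih =>
      intro hi
      have h1 := ih (by omega)
      have hlt : s ⟨i, by omega⟩ < s ⟨i + 1, hi⟩ := s.strictMono (by simp [Fin.lt_def])
      have h2 := Order.height_add_one_le hlt
      calc Order.height s.head + ((i + 1 : ℕ) : ℕ∞) = (Order.height s.head + i) + 1 := by
            push_cast; ring
        _ ≤ Order.height (s ⟨i, by omega⟩) + 1 := by gcongr
        _ ≤ _ := h2
  exact key s.length (by omega)

/-- Heights add along a strictly monotone map whose image lies above a fixed element. -/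
lemma height_add_height_le_of_strictMono {α β : Type*} [Preorder α] [Preorder β] (φ : α → β)
    (hφ : StrictMono φ) (a : α) (b0 : β) (hb0 : ∀ x, b0 ≤ φ x) :
    Order.height a + Order.height b0 ≤ Order.height (φ a) := by
  by_cases htop : Order.height (φ a) = ⊤
  · rw [htop]; exact le_top
  obtain ⟨N, hN⟩ := ENat.ne_top_iff_exists.mp htop
  have h1 : Order.height a ≤ Order.height (φ a) := Order.height_le_height_apply_of_strictMono φ hφ a
  have ha : Order.height a ≠ ⊤ := fun h => htop (top_le_iff.mp (h ▸ h1))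
  obtain ⟨n, hn⟩ := ENat.ne_top_iff_exists.mp ha
  obtain ⟨p, hp1, hp2⟩ := Order.exists_series_of_height_eq_coe a hn.symm
  have h3 := height_head_add_length_le (p.map φ hφ)
  have h4 : Order.height b0 ≤ Order.height (p.map φ hφ).head := Order.height_mono (hb0 _)
  have h5 : (p.map φ hφ).last = φ a := by rw [LTSeries.last_map, hp1]
  rw [h5] at h3
  calc Order.height a + Order.height b0 = Order.height b0 + (p.map φ hφ).length := by
        rw [← hn, LTSeries.map_length, hp2, add_comm]
    _ ≤ Order.height (p.map φ hφ).head + (p.map φ hφ).length := by gcongr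
    _ ≤ _ := h3

end Groth.Agent.Lib.Helper73

namespace Groth.Agent.Lib.Helper73

lemma comap_map_quotientMk_of_le {A : Type*} [CommRing A] (Q q : Ideal A) (h : Q ≤ q) :
    (q.map (Ideal.Quotient.mk Q)).comap (Ideal.Quotient.mk Q) = q := by
  rw [Ideal.comap_map_of_surjective _ Ideal.Quotient.mk_surjective,
    ← RingHom.ker_eq_comap_bot, Ideal.mk_ker]
  exact sup_eq_left.mpr h

/-- `ht (q/Q) + ht Q ≤ ht q`. -/
lemma height_map_quotientMk_add_height_le {A : Type*} [CommRing A] (Q q : Ideal A) [hQ : Q.IsPrime]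
    [hq : q.IsPrime] (h : Q ≤ q) :
    (q.map (Ideal.Quotient.mk Q)).height + Q.height ≤ q.height := by
  have hq' : (q.map (Ideal.Quotient.mk Q)).IsPrime := Ideal.isPrime_map_quotientMk_of_isPrime h
  let φ : PrimeSpectrum (A ⧸ Q) → PrimeSpectrum A := PrimeSpectrum.comap (Ideal.Quotient.mk Q)
  have hφ : StrictMono φ := by
    intro x y hxy
    refine lt_of_le_of_ne (Ideal.comap_mono hxy.le) ?_
    intro heq
    exact hxy.ne ((PrimeSpectrum.comap_injective_of_surjective _ Ideal.Quotient.mk_surjective) heq)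
  have h1 := height_add_height_le_of_strictMono φ hφ ⟨q.map (Ideal.Quotient.mk Q), hq'⟩ ⟨Q, hQ⟩
    (fun x => by
      change Q ≤ x.asIdeal.comap (Ideal.Quotient.mk Q)
      conv_lhs => rw [← Ideal.mk_ker (I := Q)]
      exact Ideal.ker_le_comap _)
  have h2 : φ ⟨q.map (Ideal.Quotient.mk Q), hq'⟩ = ⟨q, hq⟩ :=
    PrimeSpectrum.ext (comap_map_quotientMk_of_le Q q h)
  rw [h2, ← PrimeSpectrum.height_eq_orderHeight, ← PrimeSpectrum.height_eq_orderHeight,
    ← PrimeSpectrum.height_eq_orderHeight] at h1
  exact h1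

end Groth.Agent.Lib.Helper73

namespace Groth.Agent.Lib.Helper73

/-- Data extracted from a presentation of a finite type extension of domains. -/
theorem dimFormula_aux (R : Type u) [CommRing R] [IsDomain R]
    [IsNoetherianRing R] (S : Type u) [CommRing S] [IsDomain S] [Algebra R S]
    [FaithfulSMul R S] [Algebra.FiniteType R S] (p : Ideal R) [p.IsPrime] (q : Ideal S) [q.IsPrime]
    [q.LiesOver p] :
    ∃ (n : ℕ) (Q q' : Ideal (MvPolynomial (Fin n) R)) (_ : Q.IsPrime) (_ : q'.IsPrime)
      (_ : Q ≤ q'),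
      (Q.height : Cardinal.{u}) + Algebra.trdeg R S = n ∧
      (q'.height : Cardinal.{u}) + Algebra.trdeg (R ⧸ p) (S ⧸ q) = p.height + n ∧
      (q'.map (Ideal.Quotient.mk Q)).height = q.height := by
  obtain ⟨n, f, hf⟩ := Algebra.FiniteType.iff_quotient_mvPolynomial''.mp
    (inferInstance : Algebra.FiniteType R S)
  let A := MvPolynomial (Fin n) R
  let Q : Ideal A := RingHom.ker f.toRingHom
  let q' : Ideal A := q.comap f.toRingHom
  have hQ : Q.IsPrime := RingHom.ker_isPrime f.toRingHom
  have hq' : q'.IsPrime := Ideal.comap_isPrime _ _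
  have hQq' : Q ≤ q' := Ideal.ker_le_comap _
  have hQbot : Q.LiesOver (⊥ : Ideal R) := ⟨by
    ext r
    simp only [Ideal.under, Ideal.mem_comap, Ideal.mem_bot, Q, RingHom.mem_ker]
    change r = 0 ↔ f (algebraMap R A r) = 0
    rw [AlgHom.commutes]
    constructor
    · rintro rfl; simp
    · intro h
      exact (FaithfulSMul.algebraMap_injective R S) (by rw [h, map_zero])⟩
  have hq'p : q'.LiesOver p := ⟨by
    rw [q.over_def p]
    ext r
    simp only [Ideal.under, Ideal.mem_comap, q']
    change _ ↔ f (algebraMap R A r) ∈ q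
    rw [AlgHom.commutes]⟩
  have hbot : (⊥ : Ideal R).IsPrime := Ideal.isPrime_bot
  refine ⟨n, Q, q', hQ, hq', hQq', ?_, ?_, ?_⟩
  · have h1 := mvPolynomial_height_add_trdeg R n ⊥ Q
    rw [Ideal.height_bot] at h1
    have h2 : Algebra.trdeg (R ⧸ (⊥ : Ideal R)) (A ⧸ Q) = Algebra.trdeg R S := by
      refine trdeg_eq_of_ringEquiv_square (RingEquiv.quotientBot R)
        (RingHom.quotientKerEquivOfSurjective (f := f.toRingHom) hf) ?_
      rintro ⟨r⟩
      change f (algebraMap R A r) = algebraMap R S r
      rw [AlgHom.commutes]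
    rw [h2] at h1
    simpa using h1
  · have h1 := mvPolynomial_height_add_trdeg R n p q'
    have h2 : Algebra.trdeg (R ⧸ p) (A ⧸ q') = Algebra.trdeg (R ⧸ p) (S ⧸ q) := by
      let g : A →+* S ⧸ q := (Ideal.Quotient.mk q).comp f.toRingHom
      have hg : Function.Surjective g := Ideal.Quotient.mk_surjective.comp hf
      have hker : RingHom.ker g = q' := by
        rw [RingHom.ker_eq_comap_bot, ← Ideal.comap_comap, ← RingHom.ker_eq_comap_bot,
          Ideal.mk_ker]
      refine trdeg_eq_of_ringEquiv_square (RingEquiv.refl _)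
        ((Ideal.quotEquivOfEq hker.symm).trans (RingHom.quotientKerEquivOfSurjective hg)) ?_
      rintro ⟨r⟩
      change Ideal.Quotient.mk q (f (algebraMap R A r)) = Ideal.Quotient.mk q (algebraMap R S r)
      rw [AlgHom.commutes]
    rw [h2] at h1
    exact h1
  · let e : (A ⧸ Q) ≃+* S := RingHom.quotientKerEquivOfSurjective (f := f.toRingHom) hf
    have : q'.map (Ideal.Quotient.mk Q) = q.comap (e : (A ⧸ Q) →+* S) := by
      ext x
      obtain ⟨a, rfl⟩ := Ideal.Quotient.mk_surjective x
      rw [Ideal.mem_comap]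
      change _ ↔ f a ∈ q
      rw [Ideal.mem_map_iff_of_surjective _ Ideal.Quotient.mk_surjective]
      constructor
      · rintro ⟨b, hb, hba⟩
        have : b - a ∈ Q := by
          rw [← Ideal.Quotient.eq]; exact hba
        have hfab : f b = f a := by
          have : f (b - a) = 0 := this
          rwa [map_sub, sub_eq_zero] at this
        rw [← hfab]; exact hb
      · intro ha
        exact ⟨a, ha, rfl⟩
    rw [this]
    exact RingEquiv.height_comap e q

end Groth.Agent.Lib.Helper73

namespace Groth.Agent.Lib.Helper73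

theorem dimFormula_le (R : Type u) [CommRing R] [IsDomain R]
    [IsNoetherianRing R] (S : Type u) [CommRing S] [IsDomain S] [Algebra R S]
    [FaithfulSMul R S] [Algebra.FiniteType R S] (p : Ideal R) [p.IsPrime] (q : Ideal S) [q.IsPrime]
    [q.LiesOver p] :
    (q.height : Cardinal.{u}) + Algebra.trdeg (R ⧸ p) (S ⧸ q) ≤
      (p.height : Cardinal.{u}) + Algebra.trdeg R S := by
  obtain ⟨n, Q, q', hQ, hq', hQq', h1, h2, h3⟩ := dimFormula_aux R S p q
  have h4 := height_map_quotientMk_add_height_le Q q' hQq'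
  rw [h3] at h4
  have h5 : (q.height : Cardinal.{u}) + Q.height ≤ q'.height := by
    have := Cardinal.ofENat_le_ofENat.mpr h4
    simpa using this
  have hn : (n : Cardinal.{u}) < Cardinal.aleph0 := Cardinal.natCast_lt_aleph0
  rw [← Cardinal.add_le_add_iff_of_lt_aleph0 hn]
  calc (q.height : Cardinal.{u}) + Algebra.trdeg (R ⧸ p) (S ⧸ q) + n
      = ((q.height : Cardinal.{u}) + Q.height) + Algebra.trdeg (R ⧸ p) (S ⧸ q) +
          Algebra.trdeg R S := by rw [← h1]; ring
    _ ≤ (q'.height : Cardinal.{u}) + Algebra.trdeg (R ⧸ p) (S ⧸ q) + Algebra.trdeg R S := by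
        gcongr
    _ = (p.height : Cardinal.{u}) + Algebra.trdeg R S + n := by rw [h2]; ring

end Groth.Agent.Lib.Helper73
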