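import Mathlib
import Groth.Agent.Lib.Helper44.CatSpace
import Groth.Agent.S9125
import Groth.Agent.Lib.Helper73.DimFormula.Algebra

/-!
# The dimension formula over a universally catenary base (helper73)

* `PosetCat.exists_saturated_of_series`, `PosetCat.height_eq_length_of_saturated`,
  `PosetCat.exists_saturated_bot`: saturated chains in catenary posets (helper70's `PosetCat`).
* `height_map_quotientMk_add_height_eq`: in a catenary domain `ht (q/Q) + ht Q = ht q`.
* `dimFormula_eq`: the dimension formula with equality.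
-/

set_option autoImplicit false
universe u

namespace Groth.Agent.Lib.Helper73

open Groth.Agent.Lib.Helper70 Groth.Agent.Lib.Helper44

/-- In a catenary poset any chain can be refined to a saturated chain with the same endpoints. -/
theorem PosetCat.exists_saturated_of_series {P : Type u} [PartialOrder P] (hP : PosetCat P)
    (c : LTSeries P) :
    ∃ s : LTSeries P, s.head = c.head ∧ s.last = c.last ∧ c.length ≤ s.length ∧
      ∀ i : Fin s.length, s (Fin.castSucc i) ⋖ s (Fin.succ i) := by
  obtain ⟨n, hn⟩ := hP.1 c.head c.last c.head_le_last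
  have key : ∀ k : ℕ, ∀ d : LTSeries P, d.head = c.head → d.last = c.last → c.length ≤ d.length →
      n ≤ d.length + k → ∃ s : LTSeries P, s.head = c.head ∧ s.last = c.last ∧
        c.length ≤ s.length ∧ ∀ i : Fin s.length, s (Fin.castSucc i) ⋖ s (Fin.succ i) := by
    intro k
    induction k with
    | zero =>
      intro d h1 h2 h3 hk
      by_cases hd : ∀ i : Fin d.length, d (Fin.castSucc i) ⋖ d (Fin.succ i)
      · exact ⟨d, h1, h2, h3, hd⟩
      · exfalso
        push Not at hd
        obtain ⟨i, hi⟩ := hd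
        have hlt : d (Fin.castSucc i) < d (Fin.succ i) := d.strictMono (Fin.castSucc_lt_succ)
        obtain ⟨x, hx1, hx2⟩ := (not_covBy_iff hlt).1 hi
        have := hn (d.insertNth i x hx1 hx2) ((head_insertNth d i x hx1 hx2).trans h1)
          ((last_insertNth d i x hx1 hx2).trans h2)
        simp only [RelSeries.insertNth_length] at this
        omega
    | succ k ih =>
      intro d h1 h2 h3 hk
      by_cases hd : ∀ i : Fin d.length, d (Fin.castSucc i) ⋖ d (Fin.succ i)
      · exact ⟨d, h1, h2, h3, hd⟩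
      · push Not at hd
        obtain ⟨i, hi⟩ := hd
        have hlt : d (Fin.castSucc i) < d (Fin.succ i) := d.strictMono (Fin.castSucc_lt_succ)
        obtain ⟨x, hx1, hx2⟩ := (not_covBy_iff hlt).1 hi
        exact ih (d.insertNth i x hx1 hx2) ((head_insertNth d i x hx1 hx2).trans h1)
          ((last_insertNth d i x hx1 hx2).trans h2)
          (by simp only [RelSeries.insertNth_length]; omega)
          (by simp only [RelSeries.insertNth_length]; omega)
  exact key n c rfl rfl le_rfl (by omega)

/-- In a catenary poset with a bottom element, the height of the end point of a saturated chain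
starting at the bottom is the length of the chain. -/
theorem PosetCat.height_eq_length_of_saturated {P : Type u} [PartialOrder P] [OrderBot P]
    (hP : PosetCat P) (t : LTSeries P) (h0 : t.head = ⊥)
    (hsat : ∀ i : Fin t.length, t (Fin.castSucc i) ⋖ t (Fin.succ i)) :
    Order.height t.last = t.length := by
  apply le_antisymm
  · apply Order.height_le
    intro p hp
    by_cases hp0 : p.head = ⊥
    · exact_mod_cast PosetCat.length_le_of_saturated hP t hsat p (hp0.trans h0.symm) hp
    · have hlt : (⊥ : P) < p.head := bot_lt_iff_ne_bot.mpr hp0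
      have := PosetCat.length_le_of_saturated hP t hsat (p.cons ⊥ hlt)
        (by rw [RelSeries.head_cons, h0]) (by rw [RelSeries.last_cons, hp])
      rw [RelSeries.cons_length] at this
      exact_mod_cast (by omega : p.length ≤ t.length)
  · exact Order.length_le_height_last

/-- In a catenary poset with bottom element, heights are finite and there is a saturated chain
from the bottom realising the height. -/
theorem PosetCat.exists_saturated_bot {P : Type u} [PartialOrder P] [OrderBot P]
    (hP : PosetCat P) (x : P) :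
    ∃ t : LTSeries P, t.head = ⊥ ∧ t.last = x ∧
      (∀ i : Fin t.length, t (Fin.castSucc i) ⋖ t (Fin.succ i)) ∧ Order.height x = t.length := by
  rcases eq_or_ne x ⊥ with rfl | hx
  · refine ⟨RelSeries.singleton _ ⊥, rfl, rfl, fun i => i.elim0, ?_⟩
    simp
  · have hlt : (⊥ : P) < x := bot_lt_iff_ne_bot.mpr hx
    let c0 : LTSeries P := RelSeries.cons (RelSeries.singleton _ x) ⊥ hlt
    have hc0h : c0.head = ⊥ := RelSeries.head_cons _ _ _
    have hc0l : c0.last = x := (RelSeries.last_cons _ _ _).trans rfl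
    obtain ⟨s, h1, h2, -, h4⟩ := PosetCat.exists_saturated_of_series hP c0
    rw [hc0h] at h1
    rw [hc0l] at h2
    refine ⟨s, h1, h2, h4, ?_⟩
    rw [← h2]
    exact PosetCat.height_eq_length_of_saturated hP s h1 h4

end Groth.Agent.Lib.Helper73

namespace Groth.Agent.Lib.Helper73

open Groth.Agent.Lib.Helper70 Groth.Agent.Lib.Helper44

/-- Saturatedness of a concatenation. -/
lemma smash_saturated {P : Type u} [PartialOrder P] (s t : LTSeries P) (h : s.last = t.head)
    (hs : ∀ i : Fin s.length, s (Fin.castSucc i) ⋖ s (Fin.succ i))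
    (ht : ∀ i : Fin t.length, t (Fin.castSucc i) ⋖ t (Fin.succ i)) :
    ∀ i : Fin (s.smash t h).length, (s.smash t h) (Fin.castSucc i) ⋖ (s.smash t h) (Fin.succ i) := by
  intro i
  change Fin (s.length + t.length) at i
  induction i using Fin.addCases with
  | left i =>
    have h1 := RelSeries.smash_castAdd h i
    have h2 := RelSeries.smash_succ_castAdd h i
    have h3 := hs i
    rw [← h1, ← h2] at h3
    exact h3
  | right i =>
    have h1 := RelSeries.smash_natAdd h i
    have h2 := RelSeries.smash_succ_natAdd h i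
    have h3 := ht i
    rw [← h1, ← h2] at h3
    exact h3

/-- In a catenary domain, `ht (q/Q) + ht Q = ht q`. -/
theorem height_map_quotientMk_add_height_eq {A : Type u} [CommRing A] [IsDomain A]
    (hA : CAlg.IsCatenary A) (Q q : Ideal A) [hQ : Q.IsPrime] [hq : q.IsPrime] (h : Q ≤ q) :
    (q.map (Ideal.Quotient.mk Q)).height + Q.height = q.height := by
  have hq' : (q.map (Ideal.Quotient.mk Q)).IsPrime := Ideal.isPrime_map_quotientMk_of_isPrime h
  have hA' : PosetCat (PrimeSpectrum A) := hA
  have hB : PosetCat (PrimeSpectrum (A ⧸ Q)) := Groth.Agent.S9125.result A Q hA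
  have hdom : IsDomain (A ⧸ Q) := Ideal.Quotient.isDomain Q
  obtain ⟨t1, h10, h1l, h1s, h1h⟩ := PosetCat.exists_saturated_bot hA' ⟨Q, hQ⟩
  obtain ⟨t2, h20, h2l, h2s, h2h⟩ := PosetCat.exists_saturated_bot hB
    ⟨q.map (Ideal.Quotient.mk Q), hq'⟩
  let φ : PrimeSpectrum (A ⧸ Q) → PrimeSpectrum A := PrimeSpectrum.comap (Ideal.Quotient.mk Q)
  have hφle : ∀ x y, φ x ≤ φ y ↔ x ≤ y := by
    intro x y
    change x.asIdeal.comap _ ≤ y.asIdeal.comap _ ↔ x ≤ y
    rw [← Ideal.map_le_iff_le_comap, Ideal.map_comap_of_surjective _ Ideal.Quotient.mk_surjective,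
      PrimeSpectrum.asIdeal_le_asIdeal]
  have hφlt : ∀ x y, φ x < φ y ↔ x < y := by
    intro x y
    rw [lt_iff_le_not_ge, lt_iff_le_not_ge, hφle, hφle]
  have hφ : StrictMono φ := fun x y hxy => (hφlt x y).2 hxy
  have hφQ : ∀ x, (⟨Q, hQ⟩ : PrimeSpectrum A) ≤ φ x := by
    intro x
    change Q ≤ x.asIdeal.comap (Ideal.Quotient.mk Q)
    conv_lhs => rw [← Ideal.mk_ker (I := Q)]
    exact Ideal.ker_le_comap _
  have hφsurj : ∀ z : PrimeSpectrum A, (⟨Q, hQ⟩ : PrimeSpectrum A) ≤ z → ∃ z', φ z' = z := by
    intro z hz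
    have hz' : (z.asIdeal.map (Ideal.Quotient.mk Q)).IsPrime :=
      Ideal.isPrime_map_quotientMk_of_isPrime hz
    exact ⟨⟨z.asIdeal.map (Ideal.Quotient.mk Q), hz'⟩,
      PrimeSpectrum.ext (comap_map_quotientMk_of_le Q z.asIdeal hz)⟩
  have hφcov : ∀ x y, x ⋖ y → φ x ⋖ φ y := by
    intro x y hxy
    refine ⟨hφ hxy.lt, ?_⟩
    intro z hz1 hz2
    obtain ⟨z', rfl⟩ := hφsurj z ((hφQ x).trans hz1.le)
    exact hxy.2 ((hφlt _ _).1 hz1) ((hφlt _ _).1 hz2)
  let t2' : LTSeries (PrimeSpectrum A) := t2.map φ hφ
  have h20' : t2'.head = ⟨Q, hQ⟩ := by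
    rw [LTSeries.head_map, h20]
    apply PrimeSpectrum.ext
    change (⊥ : Ideal (A ⧸ Q)).comap (Ideal.Quotient.mk Q) = Q
    rw [← RingHom.ker_eq_comap_bot, Ideal.mk_ker]
  have h2l' : t2'.last = ⟨q, hq⟩ := by
    rw [LTSeries.last_map, h2l]
    exact PrimeSpectrum.ext (comap_map_quotientMk_of_le Q q h)
  have h2s' : ∀ i : Fin t2'.length, t2' (Fin.castSucc i) ⋖ t2' (Fin.succ i) := fun i =>
    hφcov _ _ (h2s i)
  have hconn : t1.last = t2'.head := h1l.trans h20'.symm
  have hsat := smash_saturated t1 t2' hconn h1s h2s'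
  have hfin := PosetCat.height_eq_length_of_saturated hA' (t1.smash t2' hconn)
    (by rw [RelSeries.head_smash, h10]) hsat
  rw [RelSeries.last_smash, h2l'] at hfin
  rw [PrimeSpectrum.height_eq_orderHeight ⟨q, hq⟩, hfin,
    PrimeSpectrum.height_eq_orderHeight ⟨Q, hQ⟩, h1h]
  have : (q.map (Ideal.Quotient.mk Q)).height = t2.length := by
    rw [← h2h]
    exact PrimeSpectrum.height_eq_orderHeight ⟨q.map (Ideal.Quotient.mk Q), hq'⟩
  rw [this]
  change _ = ((t1.length + t2.length : ℕ) : ℕ∞)
  push_cast
  ring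

end Groth.Agent.Lib.Helper73

namespace Groth.Agent.Lib.Helper73

/-- The dimension formula with equality over a universally catenary base. -/
theorem dimFormula_eq (R : Type u) [CommRing R] [IsDomain R]
    (hR : CAlg.IsUniversallyCatenary R) (S : Type u) [CommRing S] [IsDomain S] [Algebra R S]
    [FaithfulSMul R S] [Algebra.FiniteType R S] (p : Ideal R) [p.IsPrime] (q : Ideal S) [q.IsPrime]
    [q.LiesOver p] :
    (q.height : Cardinal.{u}) + Algebra.trdeg (R ⧸ p) (S ⧸ q) =
      (p.height : Cardinal.{u}) + Algebra.trdeg R S := by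
  have : IsNoetherianRing R := hR.1
  obtain ⟨n, Q, q', hQ, hq', hQq', h1, h2, h3⟩ := dimFormula_aux R S p q
  have hcat : CAlg.IsCatenary (MvPolynomial (Fin n) R) := hR.2 _ inferInstance
  have h4 := height_map_quotientMk_add_height_eq hcat Q q' hQq'
  rw [h3] at h4
  have h5 : (q.height : Cardinal.{u}) + Q.height = q'.height := by
    have := congrArg (fun x : ℕ∞ => (x : Cardinal.{u})) h4
    simpa using this
  have hn : (n : Cardinal.{u}) < Cardinal.aleph0 := Cardinal.natCast_lt_aleph0
  have key : (q.height : Cardinal.{u}) + Algebra.trdeg (R ⧸ p) (S ⧸ q) + n =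
      (p.height : Cardinal.{u}) + Algebra.trdeg R S + n := by
    calc (q.height : Cardinal.{u}) + Algebra.trdeg (R ⧸ p) (S ⧸ q) + n
        = ((q.height : Cardinal.{u}) + Q.height) + Algebra.trdeg (R ⧸ p) (S ⧸ q) +
            Algebra.trdeg R S := by rw [← h1]; ring
      _ = (q'.height : Cardinal.{u}) + Algebra.trdeg (R ⧸ p) (S ⧸ q) + Algebra.trdeg R S := by
          rw [h5]
      _ = (p.height : Cardinal.{u}) + Algebra.trdeg R S + n := by rw [h2]; ring
  exact le_antisymm ((Cardinal.add_le_add_iff_of_lt_aleph0 hn).mp key.le)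
    ((Cardinal.add_le_add_iff_of_lt_aleph0 hn).mp key.ge)

end Groth.Agent.Lib.Helper73

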