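import Mathlib
import Groth.Agent.Lib.Helper73.DimFormula.Catenary

/-!
# Krull dimension of intervals (helper73)

* `krullDim_Icc_eq_of_monotone`, `krullDim_Icc_eq_of_antitone`: transport along order-reflecting
  maps with convex image.
* `PosetCat.krullDim_Icc_eq_length`, `PosetCat.krullDim_Icc_add`: in a catenary poset the Krull
  dimension of intervals is additive.
* `krullDim_Icc_primeSpectrum`: `krullDim [q, q'] = ht (q'/q)`.
-/

set_option autoImplicit false
universe u

open AlgebraicGeometry CategoryTheory TopologicalSpace Opposite Order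

namespace Groth.Agent.Lib.Helper73

open Groth.Agent.Lib.Helper70 Groth.Agent.Lib.Helper44

section KrullDimIcc

variable {α β : Type*} [Preorder α] [Preorder β]

/-- Transport of the Krull dimension of intervals along an order-reflecting map with convex
image. -/
lemma krullDim_Icc_eq_of_monotone (e : α → β) (he : ∀ a a', e a ≤ e a' ↔ a ≤ a') (a b : α)
    (hsurj : ∀ t, e a ≤ t → t ≤ e b → ∃ w, e w = t) :
    Order.krullDim (Set.Icc (e a) (e b)) = Order.krullDim (Set.Icc a b) := by
  apply le_antisymm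
  · have hch : ∀ t : Set.Icc (e a) (e b), ∃ w, e w = t.1 := fun t => hsurj t.1 t.2.1 t.2.2
    choose g hg using hch
    have hgmem : ∀ t, g t ∈ Set.Icc a b := fun t =>
      ⟨(he _ _).1 (by rw [hg]; exact t.2.1), (he _ _).1 (by rw [hg]; exact t.2.2)⟩
    refine Order.krullDim_le_of_strictMono (fun t => (⟨g t, hgmem t⟩ : Set.Icc a b)) ?_
    intro t t' htt'
    rw [lt_iff_le_not_ge] at htt' ⊢
    refine ⟨?_, fun h => htt'.2 ?_⟩
    · change g t ≤ g t'
      rw [← he, hg, hg]; exact htt'.1
    · change g t' ≤ g t at h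
      rw [← he, hg, hg] at h; exact h
  · refine Order.krullDim_le_of_strictMono
      (fun w : Set.Icc a b => (⟨e w.1, (he _ _).2 w.2.1, (he _ _).2 w.2.2⟩ : Set.Icc (e a) (e b))) ?_
    intro w w' hww'
    rw [lt_iff_le_not_ge] at hww' ⊢
    exact ⟨(he _ _).2 hww'.1, fun h => hww'.2 ((he _ _).1 h)⟩

/-- Transport of the Krull dimension of intervals along an order-reversing, order-reflecting map
with convex image. -/
lemma krullDim_Icc_eq_of_antitone (e : α → β) (he : ∀ a a', e a ≤ e a' ↔ a' ≤ a) (a b : α)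
    (hsurj : ∀ t, e b ≤ t → t ≤ e a → ∃ w, e w = t) :
    Order.krullDim (Set.Icc (e b) (e a)) = Order.krullDim (Set.Icc a b) := by
  rw [← Order.krullDim_orderDual (α := Set.Icc a b)]
  apply le_antisymm
  · have hch : ∀ t : Set.Icc (e b) (e a), ∃ w, e w = t.1 := fun t => hsurj t.1 t.2.1 t.2.2
    choose g hg using hch
    have hgmem : ∀ t, g t ∈ Set.Icc a b := fun t =>
      ⟨(he _ _).1 (by rw [hg]; exact t.2.2), (he _ _).1 (by rw [hg]; exact t.2.1)⟩
    refine Order.krullDim_le_of_strictMono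
      (fun t => OrderDual.toDual (⟨g t, hgmem t⟩ : Set.Icc a b)) ?_
    intro t t' htt'
    rw [lt_iff_le_not_ge] at htt'
    rw [OrderDual.toDual_lt_toDual, lt_iff_le_not_ge]
    refine ⟨?_, fun h => htt'.2 ?_⟩
    · change g t' ≤ g t
      rw [← he, hg, hg]; exact htt'.1
    · change g t ≤ g t' at h
      rw [← he, hg, hg] at h; exact h
  · refine Order.krullDim_le_of_strictMono
      (fun w : (Set.Icc a b)ᵒᵈ => (⟨e (OrderDual.ofDual w).1, (he _ _).2 (OrderDual.ofDual w).2.2,
        (he _ _).2 (OrderDual.ofDual w).2.1⟩ : Set.Icc (e b) (e a))) ?_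
    intro w w' hww'
    have h1 : OrderDual.ofDual w' < OrderDual.ofDual w := hww'
    rw [lt_iff_le_not_ge] at h1 ⊢
    exact ⟨(he _ _).2 h1.1, fun h => h1.2 ((he _ _).1 h)⟩

end KrullDimIcc

section PosetCatIcc

variable {P : Type u} [PartialOrder P]

/-- In a catenary poset, the Krull dimension of an interval is the length of any saturated chain
joining its endpoints. -/
theorem PosetCat.krullDim_Icc_eq_length (hP : PosetCat P) (s : LTSeries P)
    (hsat : ∀ i : Fin s.length, s (Fin.castSucc i) ⋖ s (Fin.succ i)) :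
    Order.krullDim (Set.Icc s.head s.last) = s.length := by
  have hab : s.head ≤ s.last := s.head_le_last
  have : Fact (s.head ≤ s.last) := ⟨hab⟩
  have hP' : PosetCat (Set.Icc s.head s.last) := by
    refine PosetCat.of_embedding (OrderEmbedding.subtype _) ?_ hP
    intro a b r har hrb
    exact ⟨⟨r, a.2.1.trans har, hrb.trans b.2.2⟩, rfl⟩
  let s' : LTSeries (Set.Icc s.head s.last) :=
    LTSeries.mk s.length (fun i => ⟨s i, LTSeries.head_le s i, s.monotone (Fin.le_last i)⟩)
      (fun i j hij => s.strictMono hij)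
  have h0 : s'.head = ⊥ := Subtype.ext rfl
  have hl : s'.last = ⊤ := Subtype.ext rfl
  have hsat' : ∀ i : Fin s'.length, s' (Fin.castSucc i) ⋖ s' (Fin.succ i) := by
    intro i
    have h := hsat i
    refine ⟨h.lt, ?_⟩
    intro c hc1 hc2
    exact h.2 (c := c.1) hc1 hc2
  have := PosetCat.height_eq_length_of_saturated hP' s' h0 hsat'
  rw [hl] at this
  rw [← Order.height_top_eq_krullDim, this]
  rfl

/-- Additivity of the Krull dimension of intervals in a catenary poset. -/
theorem PosetCat.krullDim_Icc_add (hP : PosetCat P) {a b c : P} (hab : a ≤ b) (hbc : b ≤ c) :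
    Order.krullDim (Set.Icc a c) = Order.krullDim (Set.Icc a b) + Order.krullDim (Set.Icc b c) := by
  have hex : ∀ x y : P, x ≤ y → ∃ s : LTSeries P, s.head = x ∧ s.last = y ∧
      ∀ i : Fin s.length, s (Fin.castSucc i) ⋖ s (Fin.succ i) := by
    intro x y hxy
    rcases hxy.eq_or_lt with rfl | hlt
    · exact ⟨RelSeries.singleton _ x, rfl, rfl, fun i => i.elim0⟩
    · obtain ⟨s, h1, h2, -, h4⟩ := PosetCat.exists_saturated_of_series hP
        (RelSeries.fromListIsChain [x, y] (by simp) (by simp [hlt]))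
      refine ⟨s, ?_, ?_, h4⟩
      · rw [h1]; rfl
      · rw [h2]; rfl
  obtain ⟨s1, h1a, h1b, h1s⟩ := hex a b hab
  obtain ⟨s2, h2a, h2b, h2s⟩ := hex b c hbc
  have hconn : s1.last = s2.head := h1b.trans h2a.symm
  have hsat := smash_saturated s1 s2 hconn h1s h2s
  have e := PosetCat.krullDim_Icc_eq_length hP (s1.smash s2 hconn) hsat
  have e1 := PosetCat.krullDim_Icc_eq_length hP s1 h1s
  have e2 := PosetCat.krullDim_Icc_eq_length hP s2 h2s
  rw [RelSeries.head_smash, RelSeries.last_smash, h1a, h2b] at e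
  rw [h1a, h1b] at e1
  rw [h2a, h2b] at e2
  rw [e, e1, e2]
  change ((s1.length + s2.length : ℕ) : WithBot ℕ∞) = _
  push_cast
  rfl

end PosetCatIcc

/-- The Krull dimension of the interval between two primes is the height of the bigger one modulo
the smaller one. -/
theorem krullDim_Icc_primeSpectrum {R : Type*} [CommRing R] (q q' : PrimeSpectrum R) (h : q ≤ q') :
    Order.krullDim (Set.Icc q q') =
      ((q'.asIdeal.map (Ideal.Quotient.mk q.asIdeal)).height : WithBot ℕ∞) := by
  have hdom : IsDomain (R ⧸ q.asIdeal) := Ideal.Quotient.isDomain q.asIdeal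
  have hq' : (q'.asIdeal.map (Ideal.Quotient.mk q.asIdeal)).IsPrime :=
    Ideal.isPrime_map_quotientMk_of_isPrime h
  let φ : PrimeSpectrum (R ⧸ q.asIdeal) → PrimeSpectrum R :=
    PrimeSpectrum.comap (Ideal.Quotient.mk q.asIdeal)
  have hφle : ∀ x y, φ x ≤ φ y ↔ x ≤ y := by
    intro x y
    change x.asIdeal.comap _ ≤ y.asIdeal.comap _ ↔ x ≤ y
    rw [← Ideal.map_le_iff_le_comap, Ideal.map_comap_of_surjective _ Ideal.Quotient.mk_surjective,
      PrimeSpectrum.asIdeal_le_asIdeal]
  let b : PrimeSpectrum (R ⧸ q.asIdeal) := ⟨q'.asIdeal.map (Ideal.Quotient.mk q.asIdeal), hq'⟩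
  have hbot : φ ⊥ = q := by
    apply PrimeSpectrum.ext
    change (⊥ : Ideal (R ⧸ q.asIdeal)).comap (Ideal.Quotient.mk q.asIdeal) = q.asIdeal
    rw [← RingHom.ker_eq_comap_bot, Ideal.mk_ker]
  have hb : φ b = q' := PrimeSpectrum.ext (comap_map_quotientMk_of_le q.asIdeal q'.asIdeal h)
  have key := krullDim_Icc_eq_of_monotone φ hφle ⊥ b (by
    intro t h1 h2
    rw [hbot] at h1
    have ht : (t.asIdeal.map (Ideal.Quotient.mk q.asIdeal)).IsPrime :=
      Ideal.isPrime_map_quotientMk_of_isPrime h1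
    exact ⟨⟨t.asIdeal.map (Ideal.Quotient.mk q.asIdeal), ht⟩,
      PrimeSpectrum.ext (comap_map_quotientMk_of_le q.asIdeal t.asIdeal h1)⟩)
  rw [hbot, hb] at key
  rw [key, Set.Icc_bot, ← Order.height_eq_krullDim_Iic, ← PrimeSpectrum.height_eq_orderHeight]

end Groth.Agent.Lib.Helper73
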