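import Mathlib
import Groth.Agent.Lib.Helper73.DimFormula.Algebra

/-!
# Residue field extensions of a morphism of schemes in affine charts (helper73)

* `trdeg_eq_trdeg_quotient_of_ratio`: abstract comparison of `trdeg K L` with the transcendence
  degree of residue domains.
* `ker_evaluation_eq`, `exists_ratio_evaluation`: the residue field at a point of an affine open
  is the field of ratios of values of sections.
* `trdeg_residueFieldMap_eq_chart`: `trdeg κ(f x) κ(x) = trdeg (A/p) (B/q)` in affine charts.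
-/

set_option autoImplicit false
universe u

open AlgebraicGeometry CategoryTheory TopologicalSpace Opposite

namespace Groth.Agent.Lib.Helper73

/-- A field all of whose elements are ratios of elements in the image of `D` is algebraic over
`D`. -/
lemma isAlgebraic_of_forall_exists_ratio {D K : Type*} [CommRing D] [Field K] [Algebra D K]
    (h : ∀ z : K, ∃ a b : D, algebraMap D K b ≠ 0 ∧ z * algebraMap D K b = algebraMap D K a) :
    Algebra.IsAlgebraic D K := by
  refine ⟨fun z => ?_⟩
  obtain ⟨a, b, hb, hz⟩ := h z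
  refine ⟨Polynomial.C b * Polynomial.X - Polynomial.C a, ?_, ?_⟩
  · intro h0
    have := congrArg (fun p => Polynomial.coeff p 1) h0
    simp only [Polynomial.coeff_sub, Polynomial.coeff_C_mul, Polynomial.coeff_X_one, mul_one,
      Polynomial.coeff_C_succ, sub_zero, Polynomial.coeff_zero] at this
    exact hb (by rw [this, map_zero])
  · simp only [map_sub, map_mul, Polynomial.aeval_C, Polynomial.aeval_X]
    rw [mul_comm, hz, sub_self]

/-- Transcendence degree of an extension of fields computed on "models": if `K` and `L` are the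
fields of ratios of the images of `D` and `E`, compatibly, then `trdeg K L` is the transcendence
degree of the residue domains. -/
theorem trdeg_eq_trdeg_quotient_of_ratio {D E K L : Type u} [CommRing D] [CommRing E] [Field K]
    [Field L] [Algebra D E] [Algebra K L] (α : D →+* K) (β : E →+* L)
    (hcomm : ∀ d, algebraMap K L (α d) = β (algebraMap D E d))
    (hα : ∀ z : K, ∃ a b : D, α b ≠ 0 ∧ z * α b = α a)
    (hβ : ∀ z : L, ∃ a b : E, β b ≠ 0 ∧ z * β b = β a)
    (p : Ideal D) (q : Ideal E) [p.IsPrime] [q.IsPrime] [q.LiesOver p]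
    (hp : p = RingHom.ker α) (hq : q = RingHom.ker β) :
    Algebra.trdeg K L = Algebra.trdeg (D ⧸ p) (E ⧸ q) := by
  let α' : D ⧸ p →+* K := Ideal.Quotient.lift p α (fun a ha => by rw [hp] at ha; exact ha)
  let β' : E ⧸ q →+* L := Ideal.Quotient.lift q β (fun a ha => by rw [hq] at ha; exact ha)
  have hα'inj : Function.Injective α' := by
    rw [injective_iff_map_eq_zero]
    rintro ⟨a⟩ ha
    have : a ∈ p := by rw [hp]; exact ha
    exact Ideal.Quotient.eq_zero_iff_mem.mpr this
  have hβ'inj : Function.Injective β' := by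
    rw [injective_iff_map_eq_zero]
    rintro ⟨a⟩ ha
    have : a ∈ q := by rw [hq]; exact ha
    exact Ideal.Quotient.eq_zero_iff_mem.mpr this
  let _ : Algebra (D ⧸ p) K := α'.toAlgebra
  let _ : Algebra (E ⧸ q) L := β'.toAlgebra
  let _ : Algebra (D ⧸ p) L := ((algebraMap K L).comp α').toAlgebra
  have t1 : IsScalarTower (D ⧸ p) K L := IsScalarTower.of_algebraMap_eq (fun x => rfl)
  have t2 : IsScalarTower (D ⧸ p) (E ⧸ q) L := IsScalarTower.of_algebraMap_eq (by
    rintro ⟨d⟩
    exact hcomm d)
  have f1 : FaithfulSMul (D ⧸ p) K := (faithfulSMul_iff_algebraMap_injective _ _).mpr hα'inj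
  have f2 : FaithfulSMul (E ⧸ q) L := (faithfulSMul_iff_algebraMap_injective _ _).mpr hβ'inj
  have a1 : Algebra.IsAlgebraic (D ⧸ p) K := isAlgebraic_of_forall_exists_ratio (fun z => by
    obtain ⟨a, b, hb, hz⟩ := hα z
    exact ⟨Ideal.Quotient.mk p a, Ideal.Quotient.mk p b, hb, hz⟩)
  have a2 : Algebra.IsAlgebraic (E ⧸ q) L := isAlgebraic_of_forall_exists_ratio (fun z => by
    obtain ⟨a, b, hb, hz⟩ := hβ z
    exact ⟨Ideal.Quotient.mk q a, Ideal.Quotient.mk q b, hb, hz⟩)
  have e1 := trdeg_add_eq (D ⧸ p) K (A := L)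
  have e2 := trdeg_add_eq (D ⧸ p) (E ⧸ q) (A := L)
  rw [trdeg_eq_zero (R := D ⧸ p) (A := K), zero_add] at e1
  rw [trdeg_eq_zero (R := E ⧸ q) (A := L), add_zero] at e2
  rw [e1, e2]

end Groth.Agent.Lib.Helper73

namespace Groth.Agent.Lib.Helper73

section Chart

variable {X : Scheme.{u}} {U : X.Opens} (hU : IsAffineOpen U) (x : X) (hx : x ∈ U)

set_option backward.isDefEq.respectTransparency.types false in
/-- The kernel of evaluation at a point of an affine open is the corresponding prime. -/
lemma ker_evaluation_eq :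
    RingHom.ker (X.evaluation U x hx).hom = (hU.primeIdealOf ⟨x, hx⟩).asIdeal := by
  ext a
  rw [RingHom.mem_ker]
  change X.evaluation U x hx a = 0 ↔ _
  rw [Scheme.evaluation_eq_zero_iff_notMem_basicOpen]
  have h1 : hU.fromSpec (hU.primeIdealOf ⟨x, hx⟩) = x := hU.fromSpec_primeIdealOf ⟨x, hx⟩
  have h2 : hU.primeIdealOf ⟨x, hx⟩ ∈ hU.fromSpec ⁻¹ᵁ X.basicOpen a ↔ x ∈ X.basicOpen a := by
    change hU.fromSpec (hU.primeIdealOf ⟨x, hx⟩) ∈ X.basicOpen a ↔ _
    rw [h1]
  rw [hU.fromSpec_preimage_basicOpen] at h2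
  rw [← h2]
  exact not_not

include hU in
set_option backward.isDefEq.respectTransparency.types false in
/-- Every element of the residue field at a point of an affine open is a ratio of values of
sections. -/
lemma exists_ratio_evaluation (z : X.residueField x) :
    ∃ a b : Γ(X, U), X.evaluation U x hx b ≠ 0 ∧
      z * X.evaluation U x hx b = X.evaluation U x hx a := by
  obtain ⟨w, rfl⟩ := X.residue_surjective x z
  let _ : Algebra Γ(X, U) (X.presheaf.stalk x) := X.presheaf.algebra_section_stalk ⟨x, hx⟩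
  have hloc := hU.isLocalization_stalk ⟨x, hx⟩
  obtain ⟨⟨a, b⟩, hab⟩ := IsLocalization.surj (hU.primeIdealOf ⟨x, hx⟩).asIdeal.primeCompl w
  refine ⟨a, b.1, ?_, ?_⟩
  · intro h0
    have : b.1 ∈ RingHom.ker (X.evaluation U x hx).hom := h0
    rw [ker_evaluation_eq hU x hx] at this
    exact b.2 this
  · have := congrArg (X.residue x) hab
    rw [map_mul] at this
    exact this

end Chart

end Groth.Agent.Lib.Helper73

namespace Groth.Agent.Lib.Helper73

section Chart

variable {X S : Scheme.{u}} (f : X ⟶ S) {U : X.Opens} (hU : IsAffineOpen U) {V : S.Opens}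
  (hV : IsAffineOpen V) (e : U ≤ f ⁻¹ᵁ V) (x : X) (hx : x ∈ U) (hfx : f x ∈ V)

lemma residueFieldMap_evaluation (d : Γ(S, V)) :
    f.residueFieldMap x (S.evaluation V (f x) hfx d) =
      X.evaluation U x hx (f.appLE V U e d) := by
  rw [Scheme.evaluation_naturality_apply]
  change (X.presheaf.germ (f ⁻¹ᵁ V) x hfx ≫ X.residue x) (f.app V d) =
    (X.presheaf.germ U x hx ≫ X.residue x) ((f.app V ≫ X.presheaf.map (homOfLE e).op) d)
  simp only [CommRingCat.comp_apply]
  rw [X.presheaf.germ_res_apply (homOfLE e) x hx]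

/-- In affine charts, the transcendence degree of the residue field extension of a morphism of
schemes is that of the residue domains. -/
theorem trdeg_residueFieldMap_eq_chart [Algebra Γ(S, V) Γ(X, U)]
    (halg : algebraMap Γ(S, V) Γ(X, U) = (f.appLE V U e).hom)
    (p : Ideal Γ(S, V)) (q : Ideal Γ(X, U)) [p.IsPrime] [q.IsPrime] [q.LiesOver p]
    (hp : p = (hV.primeIdealOf ⟨f x, hfx⟩).asIdeal) (hq : q = (hU.primeIdealOf ⟨x, hx⟩).asIdeal) :
    @Algebra.trdeg (S.residueField (f x)) (X.residueField x) _ _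
      (f.residueFieldMap x).hom.toAlgebra = Algebra.trdeg (Γ(S, V) ⧸ p) (Γ(X, U) ⧸ q) := by
  let _ : Algebra (S.residueField (f x)) (X.residueField x) := (f.residueFieldMap x).hom.toAlgebra
  refine trdeg_eq_trdeg_quotient_of_ratio (S.evaluation V (f x) hfx).hom
    (X.evaluation U x hx).hom ?_ (exists_ratio_evaluation hV (f x) hfx)
    (exists_ratio_evaluation hU x hx) p q ?_ ?_
  · intro d
    rw [halg]
    exact residueFieldMap_evaluation f e x hx hfx d
  · rw [hp, ker_evaluation_eq hV]
  · rw [hq, ker_evaluation_eq hU]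

end Chart

end Groth.Agent.Lib.Helper73
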