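import Mathlib
import Groth.Agent.Lib.Helper73.DimFormula.Algebra

/-!
# The dimension formula for general finite type algebras (helper73)

* `exists_minimalPrime_height_quotient_eq`
* `trdeg_doubleQuot`
* `dimFormula_le_general`: `A` Noetherian, `B` f.t. `A`-algebra, `q` over `p`: there is a minimal
  prime `q0 ≤ q` with `ht q + trdeg (A/p) (B/q) ≤ ht p + trdeg (A/(q0 ∩ A)) (B/q0)`.
-/

set_option autoImplicit false
universe u

namespace Groth.Agent.Lib.Helper73

/-- A prime of finite height contains a minimal prime modulo which it has the same height. -/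
lemma exists_minimalPrime_height_quotient_eq {B : Type*} [CommRing B] (q : Ideal B) [hq : q.IsPrime]
    (hfin : q.height ≠ ⊤) :
    ∃ q0 : Ideal B, q0 ∈ minimalPrimes B ∧ q0 ≤ q ∧ q0.IsPrime ∧
      (q.map (Ideal.Quotient.mk q0)).height = q.height := by
  obtain ⟨m, hm⟩ := ENat.ne_top_iff_exists.mp hfin
  have hm' : Order.height (⟨q, hq⟩ : PrimeSpectrum B) = m := by
    rw [← PrimeSpectrum.height_eq_orderHeight]; exact hm.symm
  obtain ⟨c, hc1, hc2⟩ := Order.exists_series_of_height_eq_coe _ hm'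
  obtain ⟨q0, hq0min, hq0le⟩ := Ideal.exists_minimalPrimes_le (I := ⊥) (J := c.head.asIdeal) bot_le
  have hq0p : q0.IsPrime := hq0min.1.1
  have hhead : c.head.asIdeal = q0 := by
    by_contra hne
    have hlt : (⟨q0, hq0p⟩ : PrimeSpectrum B) < c.head :=
      lt_of_le_of_ne hq0le (fun h => hne (by rw [← h]))
    have h1 : ((c.cons ⟨q0, hq0p⟩ hlt).length : ℕ∞) ≤ Order.height (c.cons ⟨q0, hq0p⟩ hlt).last :=
      Order.length_le_height_last
    rw [RelSeries.last_cons, hc1, hm', RelSeries.cons_length, hc2] at h1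
    have : m + 1 ≤ m := by exact_mod_cast h1
    omega
  have hle : ∀ i, q0 ≤ (c i).asIdeal := by
    intro i
    rw [← hhead]
    exact c.head_le i
  have hq0q : q0 ≤ q := by
    have := hle (Fin.last _)
    have h2 : c (Fin.last _) = ⟨q, hq⟩ := hc1
    rw [h2] at this
    exact this
  refine ⟨q0, hq0min, hq0q, hq0p, ?_⟩
  apply le_antisymm
  · have := height_map_quotientMk_add_height_le q0 q hq0q
    exact le_trans (le_add_right le_rfl) this
  · have hq' : (q.map (Ideal.Quotient.mk q0)).IsPrime :=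
      Ideal.isPrime_map_quotientMk_of_isPrime hq0q
    let c' : LTSeries (PrimeSpectrum (B ⧸ q0)) :=
      { length := c.length
        toFun := fun i => ⟨(c i).asIdeal.map (Ideal.Quotient.mk q0),
          Ideal.isPrime_map_quotientMk_of_isPrime (hle i)⟩
        step := fun i => by
          have hlt : c i.castSucc < c i.succ := c.step i
          refine lt_of_le_of_ne (Ideal.map_mono hlt.le) ?_
          intro heq
          have h1 := congrArg (fun P : Ideal (B ⧸ q0) => P.comap (Ideal.Quotient.mk q0)) heq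
          simp only [comap_map_quotientMk_of_le q0 _ (hle _)] at h1
          exact hlt.ne (PrimeSpectrum.ext h1) }
    have hlast : c'.last = ⟨q.map (Ideal.Quotient.mk q0), hq'⟩ := by
      apply PrimeSpectrum.ext
      change (c (Fin.last _)).asIdeal.map _ = _
      have h2 : c (Fin.last _) = ⟨q, hq⟩ := hc1
      rw [h2]
    have h3 : (c'.length : ℕ∞) ≤ Order.height c'.last := Order.length_le_height_last
    rw [hlast, ← PrimeSpectrum.height_eq_orderHeight] at h3
    rw [← hm]
    have : c'.length = m := hc2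
    rw [← this]
    exact h3

end Groth.Agent.Lib.Helper73

namespace Groth.Agent.Lib.Helper73

lemma mem_map_quotientMk_iff_of_le {B : Type*} [CommRing B] (q0 q : Ideal B) (h : q0 ≤ q) (b : B) :
    Ideal.Quotient.mk q0 b ∈ q.map (Ideal.Quotient.mk q0) ↔ b ∈ q := by
  conv_rhs => rw [← comap_map_quotientMk_of_le q0 q h]
  rfl

lemma liesOver_map_quotientMk {A B : Type*} [CommRing A] [CommRing B] [Algebra A B]
    (p0 p : Ideal A) (q0 q : Ideal B) [q0.LiesOver p0] [q.LiesOver p] (hp : p0 ≤ p) (hq : q0 ≤ q) :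
    (q.map (Ideal.Quotient.mk q0)).LiesOver (p.map (Ideal.Quotient.mk p0)) := by
  constructor
  ext x
  obtain ⟨a, rfl⟩ := Ideal.Quotient.mk_surjective x
  rw [mem_map_quotientMk_iff_of_le p0 p hp, Ideal.under, Ideal.mem_comap,
    Ideal.Quotient.algebraMap_mk_of_liesOver, mem_map_quotientMk_iff_of_le q0 q hq]
  exact Ideal.mem_of_liesOver q p a

/-- Third isomorphism theorem for residual transcendence degrees. -/
lemma trdeg_doubleQuot {A B : Type u} [CommRing A] [CommRing B] [Algebra A B]
    (p0 p : Ideal A) (q0 q : Ideal B) [q0.LiesOver p0] [q.LiesOver p] (hp : p0 ≤ p) (hq : q0 ≤ q)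
    [(q.map (Ideal.Quotient.mk q0)).LiesOver (p.map (Ideal.Quotient.mk p0))] :
    Algebra.trdeg ((A ⧸ p0) ⧸ p.map (Ideal.Quotient.mk p0))
        ((B ⧸ q0) ⧸ q.map (Ideal.Quotient.mk q0)) =
      Algebra.trdeg (A ⧸ p) (B ⧸ q) := by
  refine trdeg_eq_of_ringEquiv_square (DoubleQuot.quotQuotEquivQuotOfLE hp)
    (DoubleQuot.quotQuotEquivQuotOfLE hq) ?_
  intro r
  obtain ⟨r', rfl⟩ := Ideal.Quotient.mk_surjective r
  obtain ⟨a, rfl⟩ := Ideal.Quotient.mk_surjective r'
  rfl

end Groth.Agent.Lib.Helper73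

namespace Groth.Agent.Lib.Helper73

/-- The dimension formula (inequality) for an arbitrary finite type algebra over a Noetherian
ring: the "generic" transcendence degree is computed at a suitable minimal prime. -/
theorem dimFormula_le_general {A B : Type u} [CommRing A] [CommRing B] [Algebra A B]
    [IsNoetherianRing A] [Algebra.FiniteType A B] (p : Ideal A) [p.IsPrime] (q : Ideal B)
    [q.IsPrime] [q.LiesOver p] :
    ∃ q0 : Ideal B, q0 ∈ minimalPrimes B ∧ q0 ≤ q ∧ ∃ (_ : q0.IsPrime),
      (q.height : Cardinal.{u}) + Algebra.trdeg (A ⧸ p) (B ⧸ q) ≤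
        (p.height : Cardinal.{u}) + Algebra.trdeg (A ⧸ q0.under A) (B ⧸ q0) := by
  have hB : IsNoetherianRing B := Algebra.FiniteType.isNoetherianRing A B
  obtain ⟨q0, hq0min, hq0q, hq0p, hht⟩ :=
    exists_minimalPrime_height_quotient_eq q Ideal.height_ne_top_of_isPrime
  refine ⟨q0, hq0min, hq0q, hq0p, ?_⟩
  let p0 : Ideal A := q0.under A
  have hp0p : p0.IsPrime := inferInstance
  have hp0p' : p0 ≤ p := by
    rw [q.over_def p]
    exact Ideal.comap_mono hq0q
  have hp' : (p.map (Ideal.Quotient.mk p0)).IsPrime :=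
    Ideal.isPrime_map_quotientMk_of_isPrime hp0p'
  have hq' : (q.map (Ideal.Quotient.mk q0)).IsPrime :=
    Ideal.isPrime_map_quotientMk_of_isPrime hq0q
  have hlo : (q.map (Ideal.Quotient.mk q0)).LiesOver (p.map (Ideal.Quotient.mk p0)) :=
    liesOver_map_quotientMk p0 p q0 q hp0p' hq0q
  have hd1 : IsDomain (A ⧸ p0) := Ideal.Quotient.isDomain p0
  have hd2 : IsDomain (B ⧸ q0) := Ideal.Quotient.isDomain q0
  have hft : Algebra.FiniteType (A ⧸ p0) (B ⧸ q0) := by
    have h1 : Algebra.FiniteType A (B ⧸ q0) :=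
      Algebra.FiniteType.of_surjective (Ideal.Quotient.mkₐ A q0) Ideal.Quotient.mk_surjective
    exact Algebra.FiniteType.of_restrictScalars_finiteType A (A ⧸ p0) (B ⧸ q0)
  have h := dimFormula_le (A ⧸ p0) (B ⧸ q0) (p.map (Ideal.Quotient.mk p0))
    (q.map (Ideal.Quotient.mk q0))
  rw [trdeg_doubleQuot p0 p q0 q hp0p' hq0q, hht] at h
  refine h.trans ?_
  gcongr
  have := height_map_quotientMk_add_height_le p0 p hp0p'
  exact le_trans (le_add_right le_rfl) this

end Groth.Agent.Lib.Helper73
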