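import Mathlib
import Groth.Agent.Lib.Helper73.DimFormula.General
import Groth.Agent.Lib.Helper73.DimFormula.Chart

/-!
# The dimension formula for morphisms of schemes, local form (helper73)

* `closure_fromSpec_mem_irreducibleComponents`: minimal primes of an affine open give generic
  points of irreducible components.
* `primeIdealOf_fromSpec`, `ringKrullDim_stalk_eq_height`.
* `exists_generic_stalk_dim_add_trdeg_le`: for `f : X ⟶ S` locally of finite type, `S` locally
  Noetherian and `x : X` there is a generic point `ξ ⤳ x` of an irreducible component of `X` with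
  `dim O_{X,x} + trdeg κ(x)/κ(f x) ≤ dim O_{S,f x} + trdeg κ(ξ)/κ(f ξ)`.
-/

set_option autoImplicit false
universe u

open AlgebraicGeometry CategoryTheory TopologicalSpace Opposite Order

namespace Groth.Agent.Lib.Helper73

section

variable {X : Scheme.{u}} {U : X.Opens} (hU : IsAffineOpen U)

set_option backward.isDefEq.respectTransparency.types false in
/-- The point of an affine open corresponding to a minimal prime is the generic point of an
irreducible component of the ambient scheme. -/
lemma closure_fromSpec_mem_irreducibleComponents (q0 : Spec Γ(X, U))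
    (hq0 : q0.asIdeal ∈ minimalPrimes Γ(X, U)) :
    closure {hU.fromSpec q0} ∈ irreducibleComponents X := by
  refine ⟨isIrreducible_singleton.closure, ?_⟩
  intro t ht hsub
  have ht' : IsIrreducible (closure t) := ht.closure
  obtain ⟨η, hη⟩ := QuasiSober.sober ht' isClosed_closure
  have hξt : hU.fromSpec q0 ∈ closure t := subset_closure (hsub (subset_closure rfl))
  have hspec : η ⤳ hU.fromSpec q0 := by
    rw [specializes_iff_mem_closure, hη.def]
    exact hξt
  have hξU : hU.fromSpec q0 ∈ (U : Set X) := by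
    rw [← hU.range_fromSpec]; exact ⟨q0, rfl⟩
  have hηU : η ∈ (U : Set X) := hspec.mem_open U.isOpen hξU
  rw [← hU.range_fromSpec] at hηU
  obtain ⟨q1, rfl⟩ := hηU
  have hspec' : q1 ⤳ q0 := hU.fromSpec.isOpenEmbedding.isInducing.specializes_iff.mp hspec
  have hle : q1.asIdeal ≤ q0.asIdeal := by
    let q1' : PrimeSpectrum Γ(X, U) := q1
    let q0' : PrimeSpectrum Γ(X, U) := q0
    exact (PrimeSpectrum.le_iff_specializes q1' q0').mpr hspec'
  have heq : q1.asIdeal = q0.asIdeal :=
    le_antisymm hle (hq0.2 ⟨q1.isPrime, bot_le⟩ hle)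
  have : q1 = q0 := PrimeSpectrum.ext heq
  subst this
  calc t ⊆ closure t := subset_closure
    _ = closure {hU.fromSpec q1} := hη.def.symm

end

end Groth.Agent.Lib.Helper73

namespace Groth.Agent.Lib.Helper73

section

variable {X : Scheme.{u}} {U : X.Opens} (hU : IsAffineOpen U)

lemma fromSpec_mem (y : Spec Γ(X, U)) : hU.fromSpec y ∈ U := by
  have : hU.fromSpec y ∈ (U : Set X) := by
    rw [← hU.range_fromSpec]; exact ⟨y, rfl⟩
  exact this

lemma primeIdealOf_fromSpec (y : Spec Γ(X, U)) :
    hU.primeIdealOf ⟨hU.fromSpec y, fromSpec_mem hU y⟩ = y := by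
  apply hU.fromSpec.isOpenEmbedding.injective
  exact hU.fromSpec_primeIdealOf ⟨hU.fromSpec y, fromSpec_mem hU y⟩

set_option backward.isDefEq.respectTransparency.types false in
lemma ringKrullDim_stalk_eq_height (x : X) (hx : x ∈ U) :
    ringKrullDim (X.presheaf.stalk x) = (hU.primeIdealOf ⟨x, hx⟩).asIdeal.height := by
  let _ : Algebra Γ(X, U) (X.presheaf.stalk x) := X.presheaf.algebra_section_stalk ⟨x, hx⟩
  have := hU.isLocalization_stalk ⟨x, hx⟩
  exact IsLocalization.AtPrime.ringKrullDim_eq_height (hU.primeIdealOf ⟨x, hx⟩).asIdeal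
    (X.presheaf.stalk x)

end

end Groth.Agent.Lib.Helper73

namespace Groth.Agent.Lib.Helper73

set_option backward.isDefEq.respectTransparency.types false in
/-- The dimension formula (inequality) for a morphism locally of finite type to a locally
Noetherian scheme, at a point `x`: there is a generic point `ξ` of an irreducible component
through `x` with `dim O_{X,x} + trdeg κ(x)/κ(f x) ≤ dim O_{S,f x} + trdeg κ(ξ)/κ(f ξ)`. -/
theorem exists_generic_stalk_dim_add_trdeg_le {X S : Scheme.{u}} [IsLocallyNoetherian S]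
    (f : X ⟶ S) [LocallyOfFiniteType f] (x : X) :
    ∃ ξ : X, closure {ξ} ∈ irreducibleComponents X ∧ ξ ⤳ x ∧ ∃ a b : ℕ,
      ringKrullDim (X.presheaf.stalk x) = a ∧ ringKrullDim (S.presheaf.stalk (f x)) = b ∧
      (a : Cardinal.{u}) + @Algebra.trdeg (S.residueField (f x)) (X.residueField x) _ _
          (f.residueFieldMap x).hom.toAlgebra ≤
        (b : Cardinal.{u}) + @Algebra.trdeg (S.residueField (f ξ)) (X.residueField ξ) _ _
          (f.residueFieldMap ξ).hom.toAlgebra := by
  obtain ⟨V, hV, hfxV, -⟩ :=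
    exists_isAffineOpen_mem_and_subset (X := S) (x := f x) (U := ⊤) trivial
  obtain ⟨U, hU, hxU, hUV⟩ :=
    exists_isAffineOpen_mem_and_subset (X := X) (x := x) (U := f ⁻¹ᵁ V) hfxV
  let _ : Algebra Γ(S, V) Γ(X, U) := (f.appLE V U hUV).hom.toAlgebra
  have hN : IsNoetherianRing Γ(S, V) := IsLocallyNoetherian.component_noetherian ⟨V, hV⟩
  have hft : Algebra.FiniteType Γ(S, V) Γ(X, U) :=
    HasRingHomProperty.appLE @LocallyOfFiniteType f inferInstance ⟨V, hV⟩ ⟨U, hU⟩ hUV
  have hNB : IsNoetherianRing Γ(X, U) := Algebra.FiniteType.isNoetherianRing Γ(S, V) Γ(X, U)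
  let q : Ideal Γ(X, U) := (hU.primeIdealOf ⟨x, hxU⟩).asIdeal
  let p : Ideal Γ(S, V) := (hV.primeIdealOf ⟨f x, hfxV⟩).asIdeal
  have hqp : q.LiesOver p := ⟨by
    have := IsAffineOpen.comap_primeIdealOf_appLE V hV U hU hUV hxU
    exact (congrArg PrimeSpectrum.asIdeal this).symm⟩
  obtain ⟨q0, hq0min, hq0q, hq0p, hineq⟩ := dimFormula_le_general p q
  let y0 : Spec Γ(X, U) := ⟨q0, hq0p⟩
  let ξ : X := hU.fromSpec y0
  have hξU : ξ ∈ U := fromSpec_mem hU y0
  have hξ0 : hU.primeIdealOf ⟨ξ, hξU⟩ = y0 := primeIdealOf_fromSpec hU y0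
  have hfξV : f ξ ∈ V := hUV hξU
  have hp0 : q0.under Γ(S, V) = (hV.primeIdealOf ⟨f ξ, hfξV⟩).asIdeal := by
    have := IsAffineOpen.comap_primeIdealOf_appLE V hV U hU hUV hξU
    rw [hξ0] at this
    exact congrArg PrimeSpectrum.asIdeal this
  refine ⟨ξ, closure_fromSpec_mem_irreducibleComponents hU y0 hq0min, ?_, ?_⟩
  · have h1 : y0 ⤳ hU.primeIdealOf ⟨x, hxU⟩ := by
      let a' : PrimeSpectrum Γ(X, U) := y0
      let b' : PrimeSpectrum Γ(X, U) := hU.primeIdealOf ⟨x, hxU⟩
      exact (PrimeSpectrum.le_iff_specializes a' b').mp hq0q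
    have h2 := h1.map hU.fromSpec.continuous
    rw [hU.fromSpec_primeIdealOf ⟨x, hxU⟩] at h2
    exact h2
  · have hqfin : q.height ≠ ⊤ := Ideal.height_ne_top_of_isPrime
    have hpfin : p.height ≠ ⊤ := Ideal.height_ne_top_of_isPrime
    obtain ⟨a, ha⟩ := ENat.ne_top_iff_exists.mp hqfin
    obtain ⟨b, hb⟩ := ENat.ne_top_iff_exists.mp hpfin
    refine ⟨a, b, ?_, ?_, ?_⟩
    · rw [ringKrullDim_stalk_eq_height hU x hxU, ← ha]; rfl
    · rw [ringKrullDim_stalk_eq_height hV (f x) hfxV, ← hb]; rfl
    · rw [trdeg_residueFieldMap_eq_chart f hU hV hUV x hxU hfxV rfl p q rfl rfl,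
        trdeg_residueFieldMap_eq_chart f hU hV hUV ξ hξU hfξV rfl (q0.under Γ(S, V)) q0 hp0
          (congrArg PrimeSpectrum.asIdeal hξ0).symm]
      rw [← ha, ← hb] at hineq
      exact_mod_cast hineq

end Groth.Agent.Lib.Helper73

namespace Groth.Agent.Lib.Helper73

/-- The dimension of a scheme is the supremum of the dimensions of its local rings. -/
theorem topologicalKrullDim_eq_iSup_stalk (X : Scheme.{u}) :
    topologicalKrullDim X = ⨆ x : X, ringKrullDim (X.presheaf.stalk x) := by
  have h1 : topologicalKrullDim X = ⨆ x : X, ((Order.coheight x : ℕ∞) : WithBot ℕ∞) := by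
    rw [topologicalKrullDim,
      @krullDim_eq_of_orderIso _ _ _ (specializationOrder X).toPreorder
        (@irreducibleSetEquivPoints X _ _ _)]
    exact krullDim_eq_iSup_coheight
  rw [h1]
  exact iSup_congr fun x => (ringKrullDim_stalk_eq_coheight x).symm

theorem ringKrullDim_stalk_le_topologicalKrullDim (X : Scheme.{u}) (x : X) :
    ringKrullDim (X.presheaf.stalk x) ≤ topologicalKrullDim X := by
  rw [topologicalKrullDim_eq_iSup_stalk]
  exact le_iSup (fun x : X => ringKrullDim (X.presheaf.stalk x)) x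

end Groth.Agent.Lib.Helper73
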