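import Mathlib
import Groth.Agent.Lib.Helper73.DimFormula.SchemeLocal
import Groth.Agent.Lib.Helper73.DimFT.Morphism

/-!
# Residue field extensions and fibres (helper73)

* `resTrdeg f x`: the transcendence degree of `κ(x)` over `κ(f x)`.
* `residueFieldMap_bijective_of_isPreimmersion`.
* `resTrdeg_comp_of_bijective_left/right`, `resTrdeg_eq_trdeg_resMapOf`.
* `resTrdeg_fiber`: the residue field extension at a point of the fibre `f.fiber y` over `κ(y)`
  has the same transcendence degree as `κ(x)/κ(f x)`.
* `trdegNat_fiber_eq_resTrdeg`, `resTrdeg_eq_natCast`, `topologicalKrullDim_fiber_eq_iSup`,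
  `resTrdeg_le_of_fiber_dim_le`: the DimFT dimension function of a fibre of a morphism locally
  of finite type.
-/

set_option autoImplicit false
universe u

open AlgebraicGeometry CategoryTheory TopologicalSpace Opposite Order

namespace Groth.Agent.Lib.Helper73

/-- The transcendence degree of the residue field extension of a morphism at a point. -/
noncomputable def resTrdeg {X Y : Scheme.{u}} (f : X ⟶ Y) (x : X) : Cardinal.{u} :=
  @Algebra.trdeg (Y.residueField (f x)) (X.residueField x) _ _ (f.residueFieldMap x).hom.toAlgebra

lemma resTrdeg_congr {X Y : Scheme.{u}} {f g : X ⟶ Y} (h : f = g) (x : X) :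
    resTrdeg f x = resTrdeg g x := by
  subst h; rfl

/-- Residue field maps of preimmersions are bijective. -/
lemma residueFieldMap_bijective_of_isPreimmersion {Z X : Scheme.{u}} (g : Z ⟶ X)
    [IsPreimmersion g] (z : Z) : Function.Bijective (g.residueFieldMap z).hom := by
  refine ⟨RingHom.injective _, ?_⟩
  intro w
  obtain ⟨s, rfl⟩ := Z.residue_surjective z w
  obtain ⟨t, rfl⟩ := g.stalkMap_surjective z s
  refine ⟨X.residue (g z) t, ?_⟩
  have := Scheme.residue_residueFieldMap g z
  exact congrArg (fun φ => φ.hom t) this

/-- Composition with a morphism inducing an isomorphism on residue fields on the source side. -/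
lemma resTrdeg_comp_of_bijective_left {Z X Y : Scheme.{u}} (g : Z ⟶ X) (f : X ⟶ Y) (z : Z)
    (hg : Function.Bijective (g.residueFieldMap z).hom) :
    resTrdeg (g ≫ f) z = resTrdeg f (g z) := by
  unfold resTrdeg
  symm
  refine @trdeg_eq_of_ringEquiv_square (Y.residueField (f (g z))) (X.residueField (g z))
    (Y.residueField (f (g z))) (Z.residueField z) _ _ _ _
    (f.residueFieldMap (g z)).hom.toAlgebra
    ((g ≫ f).residueFieldMap z).hom.toAlgebra
    (RingEquiv.refl _) (RingEquiv.ofBijective _ hg) ?_
  intro r
  have := Scheme.residueFieldMap_comp g f z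
  exact (congrArg (fun φ => φ.hom r) this).symm

/-- Composition with a morphism inducing an isomorphism on residue fields on the target side. -/
lemma resTrdeg_comp_of_bijective_right {Z P Y : Scheme.{u}} (π : Z ⟶ P) (j : P ⟶ Y) (z : Z)
    (hj : Function.Bijective (j.residueFieldMap (π z)).hom) :
    resTrdeg (π ≫ j) z = resTrdeg π z := by
  unfold resTrdeg
  refine @trdeg_eq_of_ringEquiv_base (Y.residueField (j (π z))) (P.residueField (π z))
    (Z.residueField z) _ _ _ ((π ≫ j).residueFieldMap z).hom.toAlgebra
    (π.residueFieldMap z).hom.toAlgebra (RingEquiv.ofBijective _ hj) ?_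
  intro r
  have := Scheme.residueFieldMap_comp π j z
  exact congrArg (fun φ => φ.hom r) this

end Groth.Agent.Lib.Helper73

namespace Groth.Agent.Lib.Helper73

set_option backward.isDefEq.respectTransparency.types false in
/-- For a scheme over a field, the two ways to measure the transcendence degree of a residue
field over the base field agree. -/
lemma resTrdeg_eq_trdeg_resMapOf {K : Type u} [Field K] {Z : Scheme.{u}}
    (π : Z ⟶ Spec (CommRingCat.of K)) (z : Z) :
    resTrdeg π z = @Algebra.trdeg K (Z.residueField z) _ _ (resMapOf π z).toAlgebra := by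
  let P := Spec (CommRingCat.of K)
  let pt : P := π z
  have hmax : pt.asIdeal.IsMaximal := by
    have : pt.asIdeal = ⊥ := Ideal.eq_bot_of_prime pt.asIdeal
    rw [this]; exact Ideal.bot_isMaximal
  let θ : K →+* P.residueField pt :=
    ((Scheme.Spec.residueFieldIso (CommRingCat.of K) pt).inv).hom.comp
      (algebraMap K pt.asIdeal.ResidueField)
  have hθ : Function.Bijective θ := by
    refine ⟨RingHom.injective _, ?_⟩
    have h1 : Function.Surjective (algebraMap K pt.asIdeal.ResidueField) :=
      Ideal.algebraMap_residueField_surjective pt.asIdeal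
    have h2 : Function.Surjective
        ((Scheme.Spec.residueFieldIso (CommRingCat.of K) pt).inv).hom :=
      (ConcreteCategory.bijective_of_isIso
        (Scheme.Spec.residueFieldIso (CommRingCat.of K) pt).inv).2
    exact h2.comp h1
  have hfac : ∀ c : K, resMapOf π z c = (π.residueFieldMap z).hom (θ c) := by
    intro c
    rw [resMapOf_apply, ← Scheme.Γevaluation_naturality_apply]
    congr 1
    have h3 := Scheme.Spec.algebraMap_residueFieldIso_inv (CommRingCat.of K) pt
    exact (congrArg (fun φ => φ.hom c) h3).symm
  unfold resTrdeg
  symm
  refine @trdeg_eq_of_ringEquiv_base K (P.residueField pt) (Z.residueField z) _ _ _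
    (resMapOf π z).toAlgebra (π.residueFieldMap z).hom.toAlgebra (RingEquiv.ofBijective θ hθ) ?_
  intro c
  exact hfac c

end Groth.Agent.Lib.Helper73

namespace Groth.Agent.Lib.Helper73

/-- The residue field extension at a point of a fibre, over the residue field of the base point,
has the same transcendence degree as the residue field extension of the morphism. -/
theorem resTrdeg_fiber {X Y : Scheme.{u}} (f : X ⟶ Y) (y : Y) (z : f.fiber y) :
    resTrdeg (f.fiberToSpecResidueField y) z = resTrdeg f (f.fiberι y z) := by
  rw [← resTrdeg_comp_of_bijective_left (f.fiberι y) f z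
    (residueFieldMap_bijective_of_isPreimmersion _ z), resTrdeg_congr (f.fiber_fac y) z,
    resTrdeg_comp_of_bijective_right _ _ z (residueFieldMap_bijective_of_isPreimmersion _ _)]

end Groth.Agent.Lib.Helper73

namespace Groth.Agent.Lib.Helper73

section Fiber

variable {X Y : Scheme.{u}} (f : X ⟶ Y) [LocallyOfFiniteType f]

set_option backward.isDefEq.respectTransparency.types false in
instance locallyOfFiniteType_fiberToSpecResidueField (y : Y) :
    LocallyOfFiniteType (f.fiberToSpecResidueField y) :=
  MorphismProperty.pullback_snd _ _ inferInstance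

/-- The dimension function of the fibre (as a scheme over the residue field) is the
transcendence degree of the residue field extension of `f`. -/
theorem trdegNat_fiber_eq_resTrdeg (y : Y) (z : f.fiber y) :
    (trdegNat (k := Y.residueField y) (f.fiberToSpecResidueField y) z : Cardinal.{u}) =
      resTrdeg f (f.fiberι y z) := by
  rw [← trdeg_eq_trdegNat (k := Y.residueField y) (f.fiberToSpecResidueField y) z,
    ← resTrdeg_eq_trdeg_resMapOf, resTrdeg_fiber]

/-- The residue field extensions of a morphism locally of finite type have finite
transcendence degree. -/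
theorem resTrdeg_eq_natCast (x : X) :
    resTrdeg f x = (trdegNat (k := Y.residueField (f x)) (f.fiberToSpecResidueField (f x))
      (f.asFiber x) : Cardinal.{u}) := by
  rw [trdegNat_fiber_eq_resTrdeg, Scheme.Hom.fiberι_asFiber]

/-- The dimension of a fibre is the supremum of the transcendence degrees of the residue field
extensions at its points. -/
theorem topologicalKrullDim_fiber_eq_iSup (y : Y) :
    topologicalKrullDim (f.fiber y) = ⨆ z : f.fiber y,
      ((trdegNat (k := Y.residueField y) (f.fiberToSpecResidueField y) z : ℕ∞) : WithBot ℕ∞) :=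
  topologicalKrullDim_eq_iSup_trdegNat (k := Y.residueField y) (f.fiberToSpecResidueField y)

/-- The transcendence degree of the residue field extension at a point is bounded by the
dimension of the fibre through the point. -/
theorem resTrdeg_le_of_fiber_dim_le (x : X) (n : ℕ)
    (h : topologicalKrullDim (f.fiber (f x)) ≤ n) : resTrdeg f x ≤ n := by
  rw [resTrdeg_eq_natCast f x]
  rw [topologicalKrullDim_fiber_eq_iSup] at h
  have h1 := (le_iSup (fun z : f.fiber (f x) =>
      ((trdegNat (k := Y.residueField (f x)) (f.fiberToSpecResidueField (f x)) z : ℕ∞) :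
        WithBot ℕ∞)) (f.asFiber x)).trans h
  have h2 : trdegNat (k := Y.residueField (f x)) (f.fiberToSpecResidueField (f x))
      (f.asFiber x) ≤ n := by exact_mod_cast h1
  exact_mod_cast h2

end Fiber

end Groth.Agent.Lib.Helper73
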