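import Mathlib
import Groth.Agent.Lib.Helper73.DimFormula.Fiber

/-!
# Lifting chains along closed maps, chains in fibres (helper73)

* `height_le_height_of_specializingMap`
* `topologicalKrullDim_eq_krullDim`
* `exists_ltSeries_in_fiber`
-/

set_option autoImplicit false
universe u

open AlgebraicGeometry CategoryTheory TopologicalSpace Opposite Order

namespace Groth.Agent.Lib.Helper73

section SpecMap

variable {X Y : Type*} [TopologicalSpace X] [TopologicalSpace Y]

attribute [local instance] specializationPreorder

/-- Along a continuous specializing map (e.g. a closed map), the height of a point in the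
specialization order is at least the height of its image. -/
lemma height_le_height_of_specializingMap (f : X → Y) (hf : SpecializingMap f)
    (hcont : Continuous f) (x : X) : Order.height (f x) ≤ Order.height x := by
  have key : ∀ n : ℕ, ∀ x : X, (n : ℕ∞) ≤ Order.height (f x) → (n : ℕ∞) ≤ Order.height x := by
    intro n
    induction n with
    | zero => intro x _; simp
    | succ n ih =>
      intro x hx
      obtain ⟨p, hp1, hp2⟩ := Order.exists_series_of_le_height (f x) hx
      let i : Fin (p.length + 1) := ⟨n, by omega⟩
      have hlt : p i < p (Fin.last _) := p.strictMono (by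
        rw [Fin.lt_def]; simp [i]; omega)
      have hlast : p (Fin.last _) = f x := hp1
      rw [hlast] at hlt
      have hn : (n : ℕ∞) ≤ Order.height (p i) := by
        have := Order.index_le_height p i
        simpa [i] using this
      -- `p i < f x` means `f x ⤳ p i`
      have hspec : f x ⤳ p i := hlt.le
      obtain ⟨x', hx', hfx'⟩ := hf hspec
      have hx'lt : x' < x := by
        refine lt_of_le_not_ge hx' ?_
        intro hge
        -- `x ≤ x'` means `x' ⤳ x`
        have : f x' ⤳ f x := Specializes.map hge hcont
        rw [hfx'] at this
        exact (not_le_of_gt hlt) this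
      have h1 := ih x' (by rw [hfx']; exact hn)
      calc ((n + 1 : ℕ) : ℕ∞) = (n : ℕ∞) + 1 := by push_cast; rfl
        _ ≤ Order.height x' + 1 := by gcongr
        _ ≤ Order.height x := Order.height_add_one_le hx'lt
  exact ENat.forall_natCast_le_iff_le.mp (fun n hn => key n x hn)

end SpecMap

end Groth.Agent.Lib.Helper73

namespace Groth.Agent.Lib.Helper73

/-- The dimension of a scheme is the Krull dimension of its specialization order. -/
theorem topologicalKrullDim_eq_krullDim (X : Scheme.{u}) :
    topologicalKrullDim X = Order.krullDim X := by
  rw [topologicalKrullDim]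
  exact @krullDim_eq_of_orderIso _ _ _ (specializationOrder X).toPreorder
    (@irreducibleSetEquivPoints X _ _ _)

/-- In the fibre through a point `x` of a morphism locally of finite type there is a chain of
specializations of `x` of length the transcendence degree of `κ(x)` over `κ(f x)`. -/
theorem exists_ltSeries_in_fiber {X Y : Scheme.{u}} (f : X ⟶ Y) [LocallyOfFiniteType f] (x : X)
    (n : ℕ) (hn : resTrdeg f x = n) :
    ∃ p : LTSeries X, p.last = x ∧ p.length = n ∧ f p.head = f x := by
  let π := f.fiberToSpecResidueField (f x)
  have h : IsDimFun (trdegNat (k := Y.residueField (f x)) π) :=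
    isDimFun_trdegNat (k := Y.residueField (f x)) π
  let z0 := f.asFiber x
  have hz0 : trdegNat (k := Y.residueField (f x)) π z0 = n := by
    have := resTrdeg_eq_natCast f x
    rw [hn] at this
    exact_mod_cast this.symm
  obtain ⟨z1, -, hz01, hz1⟩ := h.exists_specializes_zero isOpen_univ (Set.mem_univ z0)
  obtain ⟨p, hp1, hp2, hp3⟩ := h.exists_ltSeries hz01
  have hmono : StrictMono (f.fiberι (f x)) := by
    intro a b hab
    refine lt_of_le_not_ge (Specializes.map hab.le (f.fiberι (f x)).continuous) ?_
    intro hge
    exact (not_le_of_gt hab)
      ((f.fiberι (f x)).isEmbedding.isInducing.specializes_iff.mp hge)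
  refine ⟨p.map (f.fiberι (f x)) hmono, ?_, ?_, ?_⟩
  · rw [LTSeries.last_map, hp2]
    exact f.fiberι_asFiber x
  · rw [LTSeries.map_length]; omega
  · rw [LTSeries.head_map]
    have : f.fiberι (f x) p.head ∈ Set.range (f.fiberι (f x)) := ⟨_, rfl⟩
    rw [f.range_fiberι (f x)] at this
    exact this

end Groth.Agent.Lib.Helper73
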