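import Mathlib
import Groth.Agent.Lib.Helper73.DimFormula.Fiber
import Groth.Agent.Lib.Helper73.DimFormula.Closed
import Groth.Agent.Lib.Helper73.DimFormula.Catenary
import Groth.Agent.S12459

/-!
# The dimension formula with equality over universally catenary bases (helper73)

* `isUniversallyCatenary_quotient`, `dimFormula_eq_general`,
  `height_map_quotientMk_eq_of_forall_le`.
* `stalk_dim_add_trdeg_eq`: `dim O_{X,x} + trdeg κ(x)/κ(f x) = dim O_{Y,f x} + trdeg κ(ξ)/κ(f ξ)`.
* `exists_resTrdeg_eq_zero`, `topologicalKrullDim_fiber_genericPoint`.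
* `withBot_enat_le_of_add_le_add_right`, `withBot_enat_iSup_add_le`.
* `stalk_le_stalk_add`, `stalk_add_le_dim`.
-/

set_option autoImplicit false
universe u

open AlgebraicGeometry CategoryTheory TopologicalSpace Opposite Order

namespace Groth.Agent.Lib.Helper73

/-- Quotients of universally catenary rings are universally catenary. -/
theorem isUniversallyCatenary_quotient {A : Type u} [CommRing A]
    (hA : CAlg.IsUniversallyCatenary A) (I : Ideal A) : CAlg.IsUniversallyCatenary (A ⧸ I) := by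
  have : IsNoetherianRing A := hA.1
  refine ⟨inferInstance, fun S _ _ hS => ?_⟩
  let _ : Algebra A S := ((algebraMap (A ⧸ I) S).comp (Ideal.Quotient.mk I)).toAlgebra
  have : IsScalarTower A (A ⧸ I) S := IsScalarTower.of_algebraMap_eq (fun _ => rfl)
  have h1 : Algebra.FiniteType A (A ⧸ I) :=
    Algebra.FiniteType.of_surjective (Ideal.Quotient.mkₐ A I) Ideal.Quotient.mk_surjective
  have : Algebra.FiniteType A S := Algebra.FiniteType.trans h1 hS
  exact hA.2 S this

/-- The dimension formula (equality) for an arbitrary finite type algebra over a universally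
catenary ring. -/
theorem dimFormula_eq_general {A B : Type u} [CommRing A] [CommRing B] [Algebra A B]
    (hA : CAlg.IsUniversallyCatenary A) [Algebra.FiniteType A B] (p : Ideal A) [p.IsPrime]
    (q : Ideal B) [q.IsPrime] [q.LiesOver p] :
    ∃ q0 : Ideal B, q0 ∈ minimalPrimes B ∧ q0 ≤ q ∧ ∃ (_ : q0.IsPrime),
      (q.height : Cardinal.{u}) + Algebra.trdeg (A ⧸ p) (B ⧸ q) =
        ((p.map (Ideal.Quotient.mk (q0.under A))).height : Cardinal.{u}) +
          Algebra.trdeg (A ⧸ q0.under A) (B ⧸ q0) := by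
  have hN : IsNoetherianRing A := hA.1
  have hB : IsNoetherianRing B := Algebra.FiniteType.isNoetherianRing A B
  obtain ⟨q0, hq0min, hq0q, hq0p, hht⟩ :=
    exists_minimalPrime_height_quotient_eq q Ideal.height_ne_top_of_isPrime
  refine ⟨q0, hq0min, hq0q, hq0p, ?_⟩
  let p0 : Ideal A := q0.under A
  have hp0p : p0.IsPrime := inferInstance
  have hp0p' : p0 ≤ p := by
    rw [q.over_def p]
    exact Ideal.comap_mono hq0q
  have hp' : (p.map (Ideal.Quotient.mk p0)).IsPrime :=
    Ideal.isPrime_map_quotientMk_of_isPrime hp0p'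
  have hq' : (q.map (Ideal.Quotient.mk q0)).IsPrime :=
    Ideal.isPrime_map_quotientMk_of_isPrime hq0q
  have hlo : (q.map (Ideal.Quotient.mk q0)).LiesOver (p.map (Ideal.Quotient.mk p0)) :=
    liesOver_map_quotientMk p0 p q0 q hp0p' hq0q
  have hd1 : IsDomain (A ⧸ p0) := Ideal.Quotient.isDomain p0
  have hd2 : IsDomain (B ⧸ q0) := Ideal.Quotient.isDomain q0
  have hft : Algebra.FiniteType (A ⧸ p0) (B ⧸ q0) := by
    have h1 : Algebra.FiniteType A (B ⧸ q0) :=
      Algebra.FiniteType.of_surjective (Ideal.Quotient.mkₐ A q0) Ideal.Quotient.mk_surjective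
    exact Algebra.FiniteType.of_restrictScalars_finiteType A (A ⧸ p0) (B ⧸ q0)
  have h := dimFormula_eq (A ⧸ p0) (isUniversallyCatenary_quotient hA p0) (B ⧸ q0)
    (p.map (Ideal.Quotient.mk p0)) (q.map (Ideal.Quotient.mk q0))
  rw [trdeg_doubleQuot p0 p q0 q hp0p' hq0q, hht] at h
  exact h

/-- If a prime `p0` is contained in every prime, then heights can be computed modulo `p0`. -/
lemma height_map_quotientMk_eq_of_forall_le {A : Type*} [CommRing A] (p0 p : Ideal A) [p0.IsPrime]
    [p.IsPrime] (h0 : ∀ P : Ideal A, P.IsPrime → p0 ≤ P) (hfin : p.height ≠ ⊤) :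
    (p.map (Ideal.Quotient.mk p0)).height = p.height := by
  obtain ⟨p0', hmin, hle, hp0', hht⟩ := exists_minimalPrime_height_quotient_eq p hfin
  have h1 : p0 ≤ p0' := h0 p0' hp0'
  have h2 : p0' ≤ p0 := hmin.2 ⟨inferInstance, bot_le⟩ h1
  have : p0' = p0 := le_antisymm h2 h1
  rw [← this]; exact hht

end Groth.Agent.Lib.Helper73

namespace Groth.Agent.Lib.Helper73

set_option backward.isDefEq.respectTransparency.types false in
/-- The dimension formula with equality: `X` irreducible, `f : X ⟶ Y` locally of finite type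
with `f ξ` specializing to every point of `Y` (`ξ` the generic point of `X`), `Y` locally
Noetherian with universally catenary local rings. Then for all `x`,
`dim O_{X,x} + trdeg κ(x)/κ(f x) = dim O_{Y,f x} + trdeg κ(ξ)/κ(f ξ)`. -/
theorem stalk_dim_add_trdeg_eq {X Y : Scheme.{u}} [IsLocallyNoetherian Y] [IrreducibleSpace X]
    (f : X ⟶ Y) [LocallyOfFiniteType f]
    (hY : ∀ y : Y, CAlg.IsUniversallyCatenary (Y.presheaf.stalk y))
    (hgen : ∀ y : Y, f (genericPoint X) ⤳ y) (x : X) :
    ∃ a b : ℕ, ringKrullDim (X.presheaf.stalk x) = a ∧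
      ringKrullDim (Y.presheaf.stalk (f x)) = b ∧
      (a : Cardinal.{u}) + resTrdeg f x = (b : Cardinal.{u}) + resTrdeg f (genericPoint X) := by
  obtain ⟨V, hV, hfxV, -⟩ :=
    exists_isAffineOpen_mem_and_subset (X := Y) (x := f x) (U := ⊤) trivial
  obtain ⟨U, hU, hxU, hUV⟩ :=
    exists_isAffineOpen_mem_and_subset (X := X) (x := x) (U := f ⁻¹ᵁ V) hfxV
  let _ : Algebra Γ(Y, V) Γ(X, U) := (f.appLE V U hUV).hom.toAlgebra
  have hN : IsNoetherianRing Γ(Y, V) := IsLocallyNoetherian.component_noetherian ⟨V, hV⟩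
  have hft : Algebra.FiniteType Γ(Y, V) Γ(X, U) :=
    HasRingHomProperty.appLE @LocallyOfFiniteType f inferInstance ⟨V, hV⟩ ⟨U, hU⟩ hUV
  have hNB : IsNoetherianRing Γ(X, U) := Algebra.FiniteType.isNoetherianRing Γ(Y, V) Γ(X, U)
  have hA : CAlg.IsUniversallyCatenary Γ(Y, V) := Groth.Agent.S12459.univCat_section Y hY ⟨V, hV⟩
  let q : Ideal Γ(X, U) := (hU.primeIdealOf ⟨x, hxU⟩).asIdeal
  let p : Ideal Γ(Y, V) := (hV.primeIdealOf ⟨f x, hfxV⟩).asIdeal
  have hqp : q.LiesOver p := ⟨by
    have := IsAffineOpen.comap_primeIdealOf_appLE V hV U hU hUV hxU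
    exact (congrArg PrimeSpectrum.asIdeal this).symm⟩
  obtain ⟨q0, hq0min, hq0q, hq0p, heq⟩ := dimFormula_eq_general hA p q
  let y0 : Spec Γ(X, U) := ⟨q0, hq0p⟩
  let ξ : X := hU.fromSpec y0
  have hξU : ξ ∈ U := fromSpec_mem hU y0
  have hξ0 : hU.primeIdealOf ⟨ξ, hξU⟩ = y0 := primeIdealOf_fromSpec hU y0
  have hfξV : f ξ ∈ V := hUV hξU
  have hp0 : q0.under Γ(Y, V) = (hV.primeIdealOf ⟨f ξ, hfξV⟩).asIdeal := by
    have := IsAffineOpen.comap_primeIdealOf_appLE V hV U hU hUV hξU
    rw [hξ0] at this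
    exact congrArg PrimeSpectrum.asIdeal this
  have hξgen : ξ = genericPoint X := by
    have h1 := closure_fromSpec_mem_irreducibleComponents hU y0 hq0min
    rw [irreducibleComponents_eq_singleton, Set.mem_singleton_iff] at h1
    have h2 : IsGenericPoint ξ Set.univ := h1
    exact h2.eq (genericPoint_spec X)
  -- `q0 ∩ A` is contained in every prime of `A`
  have h0 : ∀ P : Ideal Γ(Y, V), P.IsPrime → q0.under Γ(Y, V) ≤ P := by
    intro P hP
    let yP : Spec Γ(Y, V) := ⟨P, hP⟩
    have h1 : f ξ ⤳ hV.fromSpec yP := by rw [hξgen]; exact hgen _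
    have h1' : hV.fromSpec (hV.primeIdealOf ⟨f ξ, hfξV⟩) ⤳ hV.fromSpec yP := by
      rw [hV.fromSpec_primeIdealOf ⟨f ξ, hfξV⟩]; exact h1
    have h2 := hV.fromSpec.isOpenEmbedding.isInducing.specializes_iff.mp h1'
    rw [hp0]
    let a' : PrimeSpectrum Γ(Y, V) := hV.primeIdealOf ⟨f ξ, hfξV⟩
    let b' : PrimeSpectrum Γ(Y, V) := yP
    exact (PrimeSpectrum.le_iff_specializes a' b').mpr h2
  have hqfin : q.height ≠ ⊤ := Ideal.height_ne_top_of_isPrime
  have hpfin : p.height ≠ ⊤ := Ideal.height_ne_top_of_isPrime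
  rw [height_map_quotientMk_eq_of_forall_le (q0.under Γ(Y, V)) p h0 hpfin] at heq
  obtain ⟨a, ha⟩ := ENat.ne_top_iff_exists.mp hqfin
  obtain ⟨b, hb⟩ := ENat.ne_top_iff_exists.mp hpfin
  refine ⟨a, b, ?_, ?_, ?_⟩
  · rw [ringKrullDim_stalk_eq_height hU x hxU, ← ha]; rfl
  · rw [ringKrullDim_stalk_eq_height hV (f x) hfxV, ← hb]; rfl
  · rw [← hξgen]
    unfold resTrdeg
    rw [trdeg_residueFieldMap_eq_chart f hU hV hUV x hxU hfxV rfl p q rfl rfl,
      trdeg_residueFieldMap_eq_chart f hU hV hUV ξ hξU hfξV rfl (q0.under Γ(Y, V)) q0 hp0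
        (congrArg PrimeSpectrum.asIdeal hξ0).symm]
    rw [← ha, ← hb] at heq
    exact_mod_cast heq

end Groth.Agent.Lib.Helper73

namespace Groth.Agent.Lib.Helper73

/-- Every nonempty fibre of a morphism locally of finite type contains a point whose residue
field is algebraic over that of the base point. -/
theorem exists_resTrdeg_eq_zero {X Y : Scheme.{u}} (f : X ⟶ Y) [LocallyOfFiniteType f] (x : X) :
    ∃ x0 : X, f x0 = f x ∧ x ⤳ x0 ∧ resTrdeg f x0 = 0 := by
  let π := f.fiberToSpecResidueField (f x)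
  have h : IsDimFun (trdegNat (k := Y.residueField (f x)) π) :=
    isDimFun_trdegNat (k := Y.residueField (f x)) π
  obtain ⟨z1, -, hz01, hz1⟩ := h.exists_specializes_zero isOpen_univ (Set.mem_univ (f.asFiber x))
  refine ⟨f.fiberι (f x) z1, ?_, ?_, ?_⟩
  · have : f.fiberι (f x) z1 ∈ Set.range (f.fiberι (f x)) := ⟨_, rfl⟩
    rw [f.range_fiberι (f x)] at this
    exact this
  · have := hz01.map (f.fiberι (f x)).continuous
    rwa [f.fiberι_asFiber x] at this
  · rw [← trdegNat_fiber_eq_resTrdeg, hz1]; rfl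

/-- The dimension of the fibre through the generic point of an irreducible scheme. -/
theorem topologicalKrullDim_fiber_genericPoint {X Y : Scheme.{u}} (f : X ⟶ Y)
    [LocallyOfFiniteType f] [IrreducibleSpace X] (η : Y) (hη : f (genericPoint X) = η) (e : ℕ)
    (he : resTrdeg f (genericPoint X) = e) : topologicalKrullDim (f.fiber η) = e := by
  let π := f.fiberToSpecResidueField η
  have h : IsDimFun (trdegNat (k := Y.residueField η) π) :=
    isDimFun_trdegNat (k := Y.residueField η) π
  let zξ : f.fiber η := (f.fiberHomeo η).symm ⟨genericPoint X, hη⟩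
  have hzξ : f.fiberι η zξ = genericPoint X := f.fiberι_fiberHomeo_symm η ⟨genericPoint X, hη⟩
  have hδ : trdegNat (k := Y.residueField η) π zξ = e := by
    have := trdegNat_fiber_eq_resTrdeg f η zξ
    rw [hzξ, he] at this
    exact_mod_cast this
  rw [topologicalKrullDim_fiber_eq_iSup]
  apply le_antisymm
  · refine iSup_le fun z => ?_
    have hspec : zξ ⤳ z := by
      rw [← (f.fiberι η).isEmbedding.isInducing.specializes_iff, hzξ]
      exact genericPoint_specializes _
    have := h.le_of_specializes hspec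
    rw [hδ] at this
    exact_mod_cast this
  · have := le_iSup (fun z : f.fiber η =>
      ((trdegNat (k := Y.residueField η) π z : ℕ∞) : WithBot ℕ∞)) zξ
    rw [hδ] at this
    exact this

end Groth.Agent.Lib.Helper73

namespace Groth.Agent.Lib.Helper73

/-- Cancellation of a natural number in `WithBot ℕ∞`. -/
lemma withBot_enat_le_of_add_le_add_right {a b : WithBot ℕ∞} (e : ℕ)
    (h : a + (e : WithBot ℕ∞) ≤ b + (e : WithBot ℕ∞)) : a ≤ b := by
  induction a with
  | bot => exact bot_le
  | coe a =>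
    induction b with
    | bot =>
      exfalso
      rw [WithBot.bot_add] at h
      have : ((a + (e : ℕ∞) : ℕ∞) : WithBot ℕ∞) ≤ ⊥ := by exact_mod_cast h
      exact WithBot.coe_ne_bot (le_bot_iff.mp this)
    | coe b =>
      have h' : a + (e : ℕ∞) ≤ b + (e : ℕ∞) := by exact_mod_cast h
      exact_mod_cast (ENat.add_le_add_iff_right (ENat.natCast_ne_top e)).mp h'

/-- Adding a natural number commutes with suprema in `WithBot ℕ∞` (upper bound form). -/
lemma withBot_enat_iSup_add_le {ι : Sort*} (g : ι → WithBot ℕ∞) (e : ℕ) (M : WithBot ℕ∞)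
    (h : ∀ i, g i + (e : WithBot ℕ∞) ≤ M) : (⨆ i, g i) + (e : WithBot ℕ∞) ≤ M := by
  by_cases hall : ∀ i, g i = ⊥
  · have : (⨆ i, g i) = ⊥ := by
      rw [eq_bot_iff]; exact iSup_le fun i => (hall i).le
    rw [this, WithBot.bot_add]; exact bot_le
  push Not at hall
  obtain ⟨i0, hi0⟩ := hall
  induction M with
  | bot =>
    exfalso
    have h1 := h i0
    obtain ⟨k, hk⟩ := WithBot.ne_bot_iff_exists.mp hi0
    rw [← hk] at h1
    have : ((k + (e : ℕ∞) : ℕ∞) : WithBot ℕ∞) ≤ ⊥ := by exact_mod_cast h1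
    exact WithBot.coe_ne_bot (le_bot_iff.mp this)
  | coe M =>
    induction M with
    | top => exact le_top
    | coe m =>
      obtain ⟨k, hk⟩ := WithBot.ne_bot_iff_exists.mp hi0
      have h1 := h i0
      rw [← hk] at h1
      have h1' : k + (e : ℕ∞) ≤ (m : ℕ∞) := by exact_mod_cast h1
      have hem : e ≤ m := by
        have : (e : ℕ∞) ≤ (m : ℕ∞) := le_trans (le_add_self) h1'
        exact_mod_cast this
      have hbound : ∀ i, g i ≤ ((m - e : ℕ) : WithBot ℕ∞) := by
        intro i
        have h2 := h i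
        induction hgi : g i with
        | bot => exact bot_le
        | coe k' =>
          rw [hgi] at h2
          have h2' : k' + (e : ℕ∞) ≤ (m : ℕ∞) := by exact_mod_cast h2
          have hk'fin : k' ≠ ⊤ := by
            intro htop
            rw [htop, top_add] at h2'
            exact (ENat.natCast_ne_top m) (top_le_iff.mp h2')
          obtain ⟨k'', rfl⟩ := ENat.ne_top_iff_exists.mp hk'fin
          have : k'' + e ≤ m := by exact_mod_cast h2'
          have h4 : k'' ≤ m - e := by omega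
          have h5 : ((k'' : ℕ) : WithBot ℕ∞) ≤ ((m - e : ℕ) : WithBot ℕ∞) := Nat.cast_le.mpr h4
          exact h5
      calc (⨆ i, g i) + (e : WithBot ℕ∞) ≤ ((m - e : ℕ) : WithBot ℕ∞) + (e : WithBot ℕ∞) := by
            gcongr
            exact iSup_le hbound
        _ = ((m : ℕ) : WithBot ℕ∞) := by
            have : (m - e) + e = m := by omega
            exact_mod_cast congrArg (fun n : ℕ => (n : WithBot ℕ∞)) this
        _ = _ := rfl

end Groth.Agent.Lib.Helper73

namespace Groth.Agent.Lib.Helper73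

section Key

variable {X Y : Scheme.{u}} [IsLocallyNoetherian Y] [IrreducibleSpace X] (f : X ⟶ Y)
  [LocallyOfFiniteType f]

include f in
theorem stalk_le_stalk_add (hY : ∀ y : Y, CAlg.IsUniversallyCatenary (Y.presheaf.stalk y))
    (hgen : ∀ y : Y, f (genericPoint X) ⤳ y) (e : ℕ) (he : resTrdeg f (genericPoint X) = e)
    (x : X) :
    ringKrullDim (X.presheaf.stalk x) ≤ ringKrullDim (Y.presheaf.stalk (f x)) + e := by
  obtain ⟨a, b, ha, hb, heq⟩ := stalk_dim_add_trdeg_eq f hY hgen x
  rw [ha, hb]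
  rw [he] at heq
  have h1 : (a : Cardinal.{u}) ≤ (b : Cardinal.{u}) + (e : Cardinal.{u}) :=
    (le_add_right le_rfl).trans heq.le
  have h2 : a ≤ b + e := by exact_mod_cast h1
  exact_mod_cast h2

include f in
theorem stalk_add_le_dim (hY : ∀ y : Y, CAlg.IsUniversallyCatenary (Y.presheaf.stalk y))
    (hgen : ∀ y : Y, f (genericPoint X) ⤳ y) (e : ℕ) (he : resTrdeg f (genericPoint X) = e)
    (x : X) :
    ringKrullDim (Y.presheaf.stalk (f x)) + e ≤ topologicalKrullDim X := by
  obtain ⟨x0, hfx0, -, h0⟩ := exists_resTrdeg_eq_zero f x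
  obtain ⟨a, b, ha, hb, heq⟩ := stalk_dim_add_trdeg_eq f hY hgen x0
  rw [hfx0] at hb
  rw [he, h0, add_zero] at heq
  have h2 : a = b + e := by exact_mod_cast heq
  have h3 := ringKrullDim_stalk_le_topologicalKrullDim X x0
  rw [ha, h2] at h3
  rw [hb]
  exact_mod_cast h3

end Key

end Groth.Agent.Lib.Helper73
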