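import Mathlib
import Groth.Agent.Lib.Helper73.DimFormula.UnivCatenary
import Groth.Agent.Lib.Helper73.DimFormula.OrderCodim

/-!
# Codimension of points on schemes and the general dimension formula (helper73)

* `codim x x'`: Krull dimension of the poset of points between `x'` and `x`.
* `codim_eq_krullDim_Icc_chart`, `codim_eq_height_chart`, `exists_codim_eq_natCast`, `codim_add`
  (universally catenary local rings), `one_le_codim`, `codim_eq_one_of_immediate`, `codim_self`.
* `dimFormula_eq_pair`, `codim_add_resTrdeg_eq`: for `x ⤳ x'`,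
  `codim(x, x') + trdeg κ(x')/κ(f x') = codim(f x, f x') + trdeg κ(x)/κ(f x)`.
* `quasiSober_subtype_of_generization`, `topologicalKrullDim_subtype_eq_krullDim`,
  `topologicalKrullDim_generizations_eq_codim`.
-/

set_option autoImplicit false
universe u

open AlgebraicGeometry CategoryTheory TopologicalSpace Opposite Order

namespace Groth.Agent.Lib.Helper73

open Groth.Agent.Lib.Helper70 Groth.Agent.Lib.Helper44

/-- The codimension of `closure {x'}` in `closure {x}`: the Krull dimension of the poset of points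
between `x'` and `x`. -/
noncomputable def codim {X : Scheme.{u}} (x x' : X) : WithBot ℕ∞ :=
  Order.krullDim (Set.Icc x' x)

set_option backward.isDefEq.respectTransparency.types false in
/-- Codimension computed in an affine chart, order-theoretically. -/
theorem codim_eq_krullDim_Icc_chart {X : Scheme.{u}} {U : X.Opens} (hU : IsAffineOpen U)
    (x x' : X) (hx : x ∈ U) (hx' : x' ∈ U) (h : x ⤳ x') :
    codim x x' = Order.krullDim (Set.Icc (α := PrimeSpectrum Γ(X, U))
      (hU.primeIdealOf ⟨x, hx⟩) (hU.primeIdealOf ⟨x', hx'⟩)) := by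
  let e : PrimeSpectrum Γ(X, U) → X := fun a => hU.fromSpec a
  have he : ∀ a a', e a ≤ e a' ↔ a' ≤ a := by
    intro a a'
    change hU.fromSpec a' ⤳ hU.fromSpec a ↔ a' ≤ a
    rw [hU.fromSpec.isOpenEmbedding.isInducing.specializes_iff]
    exact (PrimeSpectrum.le_iff_specializes a' a).symm
  have h1 : e (hU.primeIdealOf ⟨x, hx⟩) = x := hU.fromSpec_primeIdealOf ⟨x, hx⟩
  have h2 : e (hU.primeIdealOf ⟨x', hx'⟩) = x' := hU.fromSpec_primeIdealOf ⟨x', hx'⟩
  have key := krullDim_Icc_eq_of_antitone e he (hU.primeIdealOf ⟨x, hx⟩) (hU.primeIdealOf ⟨x', hx'⟩)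
    (by
      intro t ht1 ht2
      rw [h2] at ht1
      have htU : t ∈ U := (show t ⤳ x' from ht1).mem_open U.isOpen hx'
      have : t ∈ Set.range hU.fromSpec := by rw [hU.range_fromSpec]; exact htU
      obtain ⟨w, hw⟩ := this
      exact ⟨w, hw⟩)
  rw [h1, h2] at key
  exact key

set_option backward.isDefEq.respectTransparency.types false in
lemma primeIdealOf_le_of_specializes {X : Scheme.{u}} {U : X.Opens} (hU : IsAffineOpen U)
    (x x' : X) (hx : x ∈ U) (hx' : x' ∈ U) (h : x ⤳ x') :
    (hU.primeIdealOf ⟨x, hx⟩ : PrimeSpectrum Γ(X, U)) ≤ hU.primeIdealOf ⟨x', hx'⟩ := by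
  have h1 : hU.fromSpec (hU.primeIdealOf ⟨x, hx⟩) ⤳ hU.fromSpec (hU.primeIdealOf ⟨x', hx'⟩) := by
    rw [hU.fromSpec_primeIdealOf ⟨x, hx⟩, hU.fromSpec_primeIdealOf ⟨x', hx'⟩]; exact h
  have h2 := hU.fromSpec.isOpenEmbedding.isInducing.specializes_iff.mp h1
  let a' : PrimeSpectrum Γ(X, U) := hU.primeIdealOf ⟨x, hx⟩
  let b' : PrimeSpectrum Γ(X, U) := hU.primeIdealOf ⟨x', hx'⟩
  exact (PrimeSpectrum.le_iff_specializes a' b').mpr h2

set_option backward.isDefEq.respectTransparency.types false in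
/-- Codimension computed in an affine chart as a relative height. -/
theorem codim_eq_height_chart {X : Scheme.{u}} {U : X.Opens} (hU : IsAffineOpen U)
    (x x' : X) (hx : x ∈ U) (hx' : x' ∈ U) (h : x ⤳ x') :
    codim x x' = (((hU.primeIdealOf ⟨x', hx'⟩).asIdeal.map
      (Ideal.Quotient.mk (hU.primeIdealOf ⟨x, hx⟩).asIdeal)).height : WithBot ℕ∞) := by
  rw [codim_eq_krullDim_Icc_chart hU x x' hx hx' h]
  exact krullDim_Icc_primeSpectrum _ _ (primeIdealOf_le_of_specializes hU x x' hx hx' h)

/-- Codimensions are finite on locally Noetherian schemes. -/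
theorem exists_codim_eq_natCast {X : Scheme.{u}} [IsLocallyNoetherian X] (x x' : X) (h : x ⤳ x') :
    ∃ n : ℕ, codim x x' = (n : WithBot ℕ∞) := by
  obtain ⟨U, hU, hx'U, -⟩ :=
    exists_isAffineOpen_mem_and_subset (X := X) (x := x') (U := ⊤) trivial
  have hxU : x ∈ U := h.mem_open U.isOpen hx'U
  have hN : IsNoetherianRing Γ(X, U) := IsLocallyNoetherian.component_noetherian ⟨U, hU⟩
  rw [codim_eq_height_chart hU x x' hxU hx'U h]
  have hle := primeIdealOf_le_of_specializes hU x x' hxU hx'U h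
  have hq' : ((hU.primeIdealOf ⟨x', hx'U⟩).asIdeal.map
      (Ideal.Quotient.mk (hU.primeIdealOf ⟨x, hxU⟩).asIdeal)).IsPrime :=
    Ideal.isPrime_map_quotientMk_of_isPrime hle
  have hfin : ((hU.primeIdealOf ⟨x', hx'U⟩).asIdeal.map
      (Ideal.Quotient.mk (hU.primeIdealOf ⟨x, hxU⟩).asIdeal)).height ≠ ⊤ :=
    Ideal.height_ne_top_of_isPrime
  obtain ⟨n, hn⟩ := ENat.ne_top_iff_exists.mp hfin
  exact ⟨n, by rw [← hn]; rfl⟩

/-- Additivity of codimension on locally Noetherian schemes with universally catenary local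
rings. -/
theorem codim_add {X : Scheme.{u}} [IsLocallyNoetherian X]
    (hX : ∀ x : X, CAlg.IsUniversallyCatenary (X.presheaf.stalk x)) (x x' x'' : X)
    (h : x ⤳ x') (h' : x' ⤳ x'') :
    codim x x'' = codim x x' + codim x' x'' := by
  obtain ⟨U, hU, hx''U, -⟩ :=
    exists_isAffineOpen_mem_and_subset (X := X) (x := x'') (U := ⊤) trivial
  have hx'U : x' ∈ U := h'.mem_open U.isOpen hx''U
  have hxU : x ∈ U := h.mem_open U.isOpen hx'U
  have hA : CAlg.IsUniversallyCatenary Γ(X, U) := Groth.Agent.S12459.univCat_section X hX ⟨U, hU⟩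
  have hP : PosetCat (PrimeSpectrum Γ(X, U)) := hA.2 Γ(X, U) inferInstance
  rw [codim_eq_krullDim_Icc_chart hU x x'' hxU hx''U (h.trans h'),
    codim_eq_krullDim_Icc_chart hU x x' hxU hx'U h,
    codim_eq_krullDim_Icc_chart hU x' x'' hx'U hx''U h']
  exact PosetCat.krullDim_Icc_add hP (primeIdealOf_le_of_specializes hU x x' hxU hx'U h)
    (primeIdealOf_le_of_specializes hU x' x'' hx'U hx''U h')

/-- A proper specialization has codimension at least one. -/
theorem one_le_codim {X : Scheme.{u}} (x x' : X) (h : x ⤳ x') (hne : x ≠ x') :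
    1 ≤ codim x x' := by
  have hlt : x' < x := by
    refine lt_of_le_not_ge h ?_
    intro h2
    exact hne (Specializes.antisymm h h2).eq
  let p : LTSeries (Set.Icc x' x) :=
    RelSeries.fromListIsChain [⟨x', le_refl _, h⟩, ⟨x, h, le_refl _⟩] (by simp)
      (by simp; exact hlt)
  have := p.length_le_krullDim
  exact this

/-- An immediate specialization has codimension one. -/
theorem codim_eq_one_of_immediate {X : Scheme.{u}} (x x' : X) (h : x ⤳ x') (hne : x ≠ x')
    (himm : ∀ z, x ⤳ z → z ⤳ x' → z = x ∨ z = x') : codim x x' = 1 := by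
  apply le_antisymm _ (one_le_codim x x' h hne)
  unfold codim
  rw [Order.krullDim_le_one_iff]
  intro z
  rcases himm z.1 z.2.2 z.2.1 with hz | hz
  · right
    intro w _
    change w.1 ≤ z.1
    rw [hz]; exact w.2.2
  · left
    intro w _
    change z.1 ≤ w.1
    rw [hz]; exact w.2.1

/-- The codimension of a point in itself is zero. -/
theorem codim_self {X : Scheme.{u}} (x : X) : codim x x = 0 := by
  unfold codim
  apply le_antisymm
  · rw [Order.krullDim_nonpos_iff_forall_isMax]
    intro z w _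
    change w.1 ≤ z.1
    exact w.2.2.trans z.2.1
  · have : Nonempty (Set.Icc x x) := ⟨⟨x, le_refl _, le_refl _⟩⟩
    exact Order.krullDim_nonneg

/-- The dimension formula (equality) for a pair of primes `q ≤ q'` of a finite type algebra over a
universally catenary ring. -/
theorem dimFormula_eq_pair {A B : Type u} [CommRing A] [CommRing B] [Algebra A B]
    (hA : CAlg.IsUniversallyCatenary A) [Algebra.FiniteType A B] (q q' : Ideal B) [q.IsPrime]
    [q'.IsPrime] (hqq' : q ≤ q') (p' : Ideal A) [p'.IsPrime] [q'.LiesOver p'] :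
    ((q'.map (Ideal.Quotient.mk q)).height : Cardinal.{u}) + Algebra.trdeg (A ⧸ p') (B ⧸ q') =
      ((p'.map (Ideal.Quotient.mk (q.under A))).height : Cardinal.{u}) +
        Algebra.trdeg (A ⧸ q.under A) (B ⧸ q) := by
  have hN : IsNoetherianRing A := hA.1
  have hB : IsNoetherianRing B := Algebra.FiniteType.isNoetherianRing A B
  let p0 : Ideal A := q.under A
  have hp0p : p0.IsPrime := inferInstance
  have hp0p' : p0 ≤ p' := by
    rw [q'.over_def p']
    exact Ideal.comap_mono hqq'
  have hp' : (p'.map (Ideal.Quotient.mk p0)).IsPrime :=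
    Ideal.isPrime_map_quotientMk_of_isPrime hp0p'
  have hq' : (q'.map (Ideal.Quotient.mk q)).IsPrime :=
    Ideal.isPrime_map_quotientMk_of_isPrime hqq'
  have hlo : (q'.map (Ideal.Quotient.mk q)).LiesOver (p'.map (Ideal.Quotient.mk p0)) :=
    liesOver_map_quotientMk p0 p' q q' hp0p' hqq'
  have hd1 : IsDomain (A ⧸ p0) := Ideal.Quotient.isDomain p0
  have hd2 : IsDomain (B ⧸ q) := Ideal.Quotient.isDomain q
  have hft : Algebra.FiniteType (A ⧸ p0) (B ⧸ q) := by
    have h1 : Algebra.FiniteType A (B ⧸ q) :=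
      Algebra.FiniteType.of_surjective (Ideal.Quotient.mkₐ A q) Ideal.Quotient.mk_surjective
    exact Algebra.FiniteType.of_restrictScalars_finiteType A (A ⧸ p0) (B ⧸ q)
  have h := dimFormula_eq (A ⧸ p0) (isUniversallyCatenary_quotient hA p0) (B ⧸ q)
    (p'.map (Ideal.Quotient.mk p0)) (q'.map (Ideal.Quotient.mk q))
  rw [trdeg_doubleQuot p0 p' q q' hp0p' hqq'] at h
  exact h

set_option backward.isDefEq.respectTransparency.types false in
/-- The general dimension formula: for `f : X ⟶ Y` locally of finite type, `Y` locally Noetherian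
with universally catenary local rings and `x ⤳ x'` in `X`,
`codim(x, x') + trdeg κ(x')/κ(f x') = codim(f x, f x') + trdeg κ(x)/κ(f x)`. -/
theorem codim_add_resTrdeg_eq {X Y : Scheme.{u}} [IsLocallyNoetherian Y]
    (f : X ⟶ Y) [LocallyOfFiniteType f]
    (hY : ∀ y : Y, CAlg.IsUniversallyCatenary (Y.presheaf.stalk y))
    (x x' : X) (h : x ⤳ x') :
    ∃ a b : ℕ, codim x x' = a ∧ codim (f x) (f x') = b ∧
      (a : Cardinal.{u}) + resTrdeg f x' = (b : Cardinal.{u}) + resTrdeg f x := by
  obtain ⟨V, hV, hfx'V, -⟩ :=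
    exists_isAffineOpen_mem_and_subset (X := Y) (x := f x') (U := ⊤) trivial
  obtain ⟨U, hU, hx'U, hUV⟩ :=
    exists_isAffineOpen_mem_and_subset (X := X) (x := x') (U := f ⁻¹ᵁ V) hfx'V
  have hxU : x ∈ U := h.mem_open U.isOpen hx'U
  have hfxV : f x ∈ V := hUV hxU
  have hfh : f x ⤳ f x' := h.map f.continuous
  let _ : Algebra Γ(Y, V) Γ(X, U) := (f.appLE V U hUV).hom.toAlgebra
  have hN : IsNoetherianRing Γ(Y, V) := IsLocallyNoetherian.component_noetherian ⟨V, hV⟩
  have hft : Algebra.FiniteType Γ(Y, V) Γ(X, U) :=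
    HasRingHomProperty.appLE @LocallyOfFiniteType f inferInstance ⟨V, hV⟩ ⟨U, hU⟩ hUV
  have hNB : IsNoetherianRing Γ(X, U) := Algebra.FiniteType.isNoetherianRing Γ(Y, V) Γ(X, U)
  have hA : CAlg.IsUniversallyCatenary Γ(Y, V) := Groth.Agent.S12459.univCat_section Y hY ⟨V, hV⟩
  let q : Ideal Γ(X, U) := (hU.primeIdealOf ⟨x, hxU⟩).asIdeal
  let q' : Ideal Γ(X, U) := (hU.primeIdealOf ⟨x', hx'U⟩).asIdeal
  let p' : Ideal Γ(Y, V) := (hV.primeIdealOf ⟨f x', hfx'V⟩).asIdeal
  have hqq' : q ≤ q' := primeIdealOf_le_of_specializes hU x x' hxU hx'U h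
  have hq'p' : q'.LiesOver p' := ⟨by
    have := IsAffineOpen.comap_primeIdealOf_appLE V hV U hU hUV hx'U
    exact (congrArg PrimeSpectrum.asIdeal this).symm⟩
  have hp : q.under Γ(Y, V) = (hV.primeIdealOf ⟨f x, hfxV⟩).asIdeal := by
    have := IsAffineOpen.comap_primeIdealOf_appLE V hV U hU hUV hxU
    exact congrArg PrimeSpectrum.asIdeal this
  have heq := dimFormula_eq_pair hA q q' hqq' p'
  have hq'prime : (q'.map (Ideal.Quotient.mk q)).IsPrime :=
    Ideal.isPrime_map_quotientMk_of_isPrime hqq'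
  have hpp' : q.under Γ(Y, V) ≤ p' := by
    rw [q'.over_def p']
    exact Ideal.comap_mono hqq'
  have hp'prime : (p'.map (Ideal.Quotient.mk (q.under Γ(Y, V)))).IsPrime :=
    Ideal.isPrime_map_quotientMk_of_isPrime hpp'
  have hfin1 : (q'.map (Ideal.Quotient.mk q)).height ≠ ⊤ := Ideal.height_ne_top_of_isPrime
  have hfin2 : (p'.map (Ideal.Quotient.mk (q.under Γ(Y, V)))).height ≠ ⊤ :=
    Ideal.height_ne_top_of_isPrime
  obtain ⟨a, ha⟩ := ENat.ne_top_iff_exists.mp hfin1
  obtain ⟨b, hb⟩ := ENat.ne_top_iff_exists.mp hfin2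
  refine ⟨a, b, ?_, ?_, ?_⟩
  · rw [codim_eq_height_chart hU x x' hxU hx'U h]
    change ((q'.map (Ideal.Quotient.mk q)).height : WithBot ℕ∞) = _
    rw [← ha]; rfl
  · rw [codim_eq_height_chart hV (f x) (f x') hfxV hfx'V hfh]
    rw [← hp]
    change ((p'.map (Ideal.Quotient.mk (q.under Γ(Y, V)))).height : WithBot ℕ∞) = _
    rw [← hb]; rfl
  · unfold resTrdeg
    rw [trdeg_residueFieldMap_eq_chart f hU hV hUV x' hx'U hfx'V rfl p' q' rfl rfl,
      trdeg_residueFieldMap_eq_chart f hU hV hUV x hxU hfxV rfl (q.under Γ(Y, V)) q hp rfl]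
    rw [← ha, ← hb] at heq
    exact_mod_cast heq

section QuasiSober

variable {W : Type*} [TopologicalSpace W]

/-- A subset of a quasi-sober space which is stable under generization inside its closure is
quasi-sober. -/
lemma quasiSober_subtype_of_generization [QuasiSober W] (G : Set W)
    (hG : ∀ t ∈ G, ∀ ζ, ζ ⤳ t → ζ ∈ closure G → ζ ∈ G) : QuasiSober ↥G := by
  refine ⟨fun {C} hirr hcl => ?_⟩
  have hC' : IsIrreducible (Subtype.val '' C) := hirr.image _ continuous_subtype_val.continuousOn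
  obtain ⟨ζ, hζ⟩ := QuasiSober.sober hC'.closure isClosed_closure
  obtain ⟨t, ht⟩ := hirr.nonempty
  have hζcl : closure ({ζ} : Set W) = closure (Subtype.val '' C) := hζ
  have h1 : ζ ⤳ t.1 := by
    rw [specializes_iff_mem_closure, hζcl]
    exact subset_closure ⟨t, ht, rfl⟩
  have h2 : ζ ∈ closure G := by
    have : ζ ∈ closure (Subtype.val '' C) := by rw [← hζcl]; exact subset_closure rfl
    exact closure_mono (by rintro _ ⟨c, -, rfl⟩; exact c.2) this
  have hζG : ζ ∈ G := hG t.1 t.2 ζ h1 h2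
  refine ⟨⟨ζ, hζG⟩, ?_⟩
  change closure {(⟨ζ, hζG⟩ : ↥G)} = C
  rw [Topology.IsInducing.subtypeVal.closure_eq_preimage_closure_image, Set.image_singleton, hζcl,
    ← Topology.IsInducing.subtypeVal.closure_eq_preimage_closure_image, hcl.closure_eq]

/-- For a quasi-sober `T₀` subspace, the topological Krull dimension is the Krull dimension of the
induced specialization order. -/
lemma topologicalKrullDim_subtype_eq_krullDim [T0Space W] (G : Set W) [QuasiSober ↥G] :
    topologicalKrullDim ↥G =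
      @Order.krullDim ↥G (@Subtype.preorder W (specializationPreorder W) (· ∈ G)) := by
  rw [topologicalKrullDim]
  rw [@krullDim_eq_of_orderIso _ _ _ (specializationOrder ↥G).toPreorder
    (@irreducibleSetEquivPoints ↥G _ _ _)]
  have key : ∀ a b : ↥G, @LT.lt ↥G (specializationOrder ↥G).toPreorder.toLT a b ↔
      @LT.lt ↥G (@Subtype.preorder W (specializationPreorder W) (· ∈ G)).toLT a b := by
    intro a b
    rw [@lt_iff_le_not_ge ↥G (specializationOrder ↥G).toPreorder,
      @lt_iff_le_not_ge ↥G (@Subtype.preorder W (specializationPreorder W) (· ∈ G))]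
    change (b ⤳ a ∧ ¬ a ⤳ b) ↔ (b.1 ⤳ a.1 ∧ ¬ a.1 ⤳ b.1)
    rw [subtype_specializes_iff, subtype_specializes_iff]
  apply le_antisymm
  · exact @Order.krullDim_le_of_strictMono _ _ (specializationOrder ↥G).toPreorder
      (@Subtype.preorder W (specializationPreorder W) (· ∈ G)) id (fun a b hab => (key a b).1 hab)
  · exact @Order.krullDim_le_of_strictMono _ _
      (@Subtype.preorder W (specializationPreorder W) (· ∈ G)) (specializationOrder ↥G).toPreorder
      id (fun a b hab => (key a b).2 hab)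

end QuasiSober

/-- The dimension of the space of generizations of `s` inside `closure {σ}` is `codim σ s`. -/
theorem topologicalKrullDim_generizations_eq_codim {S : Scheme.{u}} (σ s : S) :
    topologicalKrullDim ↥{t : S | t ∈ closure ({σ} : Set S) ∧ t ⤳ s} = codim σ s := by
  have hG : QuasiSober ↥{t : S | t ∈ closure ({σ} : Set S) ∧ t ⤳ s} := by
    apply quasiSober_subtype_of_generization
    intro t ht ζ hζt hζ
    refine ⟨?_, hζt.trans ht.2⟩
    have : closure {t : S | t ∈ closure ({σ} : Set S) ∧ t ⤳ s} ⊆ closure ({σ} : Set S) :=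
      closure_minimal (fun t ht => ht.1) isClosed_closure
    exact this hζ
  rw [topologicalKrullDim_subtype_eq_krullDim]
  have hset : {t : S | t ∈ closure ({σ} : Set S) ∧ t ⤳ s} = Set.Icc s σ := by
    ext t
    simp only [Set.mem_ofPred_eq, Set.mem_Icc]
    rw [← specializes_iff_mem_closure]
    exact and_comm
  unfold codim
  rw [hset]

end Groth.Agent.Lib.Helper73
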