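import Mathlib
import Groth.Agent.Lib.Helper73.DimFormula.Codim

/-!
# Dimension theory over Jacobson universally catenary bases (EGA IV 10.6) (helper73)

For `S` locally Noetherian, Jacobson, with universally catenary local rings and equidimensional
irreducible components (hypotheses `h2`, `h3`):

* `baseDim S s`: codimension of any closed point in `closure {s}`; `codim_closed_eq`,
  `codim_eq_baseDim`, `baseDim_eq_add`, `isDimFun_baseDim` (an `IsDimFun`, see `DimFT/DimFun`).
* `resTrdegNat`, `relDim p x = baseDim S (p x) + trdeg κ(x)/κ(p x)` for `p : X ⟶ S` locally of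
  finite type; `relDim_eq_add`, `isDimFun_relDim`.
* `resTrdeg_comp`, `resTrdegNat_comp`: tower law.
* `topologicalKrullDim_eq_relDim_genericPoint`, `dim_eq_dim_add_generic_fibre`.
-/

set_option autoImplicit false
universe u

open AlgebraicGeometry CategoryTheory TopologicalSpace Opposite Order

namespace Groth.Agent.Lib.Helper73

/-- Every point of a Jacobson space specializes to a closed point. -/
lemma exists_isClosed_specializes {W : Type*} [TopologicalSpace W] [JacobsonSpace W] (s : W) :
    ∃ t : W, IsClosed ({t} : Set W) ∧ s ⤳ t := by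
  obtain ⟨t, ht1, ht2⟩ := nonempty_inter_closedPoints (X := W) (Z := closure {s})
    ⟨s, subset_closure rfl⟩ isClosed_closure.isLocallyClosed
  exact ⟨t, ht2, specializes_iff_mem_closure.mpr ht1⟩

/-- The dimension function of a Jacobson, universally catenary scheme with equidimensional
irreducible components: the codimension of any closed point in the closure of `s`. -/
noncomputable def baseDim (S : Scheme.{u}) (s : S) : ℕ := by
  classical
  exact if h : ∃ t : S, IsClosed ({t} : Set S) ∧ s ⤳ t then
    ENat.toNat ((codim s h.choose).unbotD 0) else 0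

section Base

variable {S : Scheme.{u}} [IsLocallyNoetherian S] [JacobsonSpace S]
  (h2 : ∀ s : S, CAlg.IsUniversallyCatenary (S.presheaf.stalk s))
  (h3 : ∀ S' ∈ irreducibleComponents (S : Type u), ∀ s ∈ S', IsClosed ({s} : Set S) →
    topologicalKrullDim (↥S' : Type u) = topologicalKrullDim ↥{t : S | t ∈ S' ∧ t ⤳ s})

include h2 h3

/-- The codimension of a closed point in the closure of `s` does not depend on the closed
point. -/
theorem codim_closed_eq (s t t' : S) (ht : IsClosed ({t} : Set S)) (ht' : IsClosed ({t'} : Set S))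
    (hst : s ⤳ t) (hst' : s ⤳ t') : codim s t = codim s t' := by
  let S' : Set S := irreducibleComponent s
  have hS' : S' ∈ irreducibleComponents (S : Type u) := irreducibleComponent_mem_irreducibleComponents s
  have hsS' : s ∈ S' := mem_irreducibleComponent
  have hcl : IsClosed S' := isClosed_irreducibleComponent
  have hirr : IsIrreducible S' := isIrreducible_irreducibleComponent
  obtain ⟨σ, hσ⟩ := QuasiSober.sober hirr hcl
  have hσcl : closure ({σ} : Set S) = S' := hσ
  have hσs : σ ⤳ s := by rw [specializes_iff_mem_closure, hσcl]; exact hsS'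
  have key : ∀ u : S, IsClosed ({u} : Set S) → s ⤳ u →
      topologicalKrullDim (↥S' : Type u) = codim σ u := by
    intro u hu hsu
    have huS' : u ∈ S' := hsu.mem_closed hcl hsS'
    rw [h3 S' hS' u huS' hu, ← topologicalKrullDim_generizations_eq_codim, hσcl]
  have e1 := key t ht hst
  have e2 := key t' ht' hst'
  rw [codim_add h2 σ s t hσs hst] at e1
  rw [codim_add h2 σ s t' hσs hst'] at e2
  obtain ⟨a, ha⟩ := exists_codim_eq_natCast σ s hσs
  obtain ⟨b, hb⟩ := exists_codim_eq_natCast s t hst
  obtain ⟨b', hb'⟩ := exists_codim_eq_natCast s t' hst'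
  rw [hb, hb']
  rw [e1, ha, hb, hb'] at e2
  have : a + b = a + b' := by exact_mod_cast e2
  have : b = b' := by omega
  rw [this]

/-- Defining property of `baseDim`. -/
theorem codim_eq_baseDim (s t : S) (ht : IsClosed ({t} : Set S)) (hst : s ⤳ t) :
    codim s t = (baseDim S s : WithBot ℕ∞) := by
  classical
  have hex : ∃ t : S, IsClosed ({t} : Set S) ∧ s ⤳ t := ⟨t, ht, hst⟩
  have h1 := codim_closed_eq h2 h3 s t hex.choose ht hex.choose_spec.1 hst hex.choose_spec.2
  obtain ⟨n, hn⟩ := exists_codim_eq_natCast s hex.choose hex.choose_spec.2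
  have : baseDim S s = n := by
    unfold baseDim
    rw [dif_pos hex, hn]
    rfl
  rw [this, h1, hn]

/-- `baseDim` of a closed point is zero. -/
theorem baseDim_eq_zero_of_isClosed (t : S) (ht : IsClosed ({t} : Set S)) : baseDim S t = 0 := by
  have := codim_eq_baseDim h2 h3 t t ht specializes_rfl
  rw [codim_self] at this
  exact_mod_cast this.symm

/-- `baseDim` drops by the codimension along specializations. -/
theorem baseDim_eq_add (s s' : S) (h : s ⤳ s') :
    ∃ m : ℕ, codim s s' = m ∧ baseDim S s = m + baseDim S s' := by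
  obtain ⟨t, ht, hs't⟩ := exists_isClosed_specializes s'
  obtain ⟨m, hm⟩ := exists_codim_eq_natCast s s' h
  refine ⟨m, hm, ?_⟩
  have e := codim_add h2 s s' t h hs't
  rw [codim_eq_baseDim h2 h3 s t ht (h.trans hs't), codim_eq_baseDim h2 h3 s' t ht hs't, hm] at e
  exact_mod_cast e

/-- `baseDim` is a dimension function. -/
theorem isDimFun_baseDim : IsDimFun (baseDim S) where
  lt_of_specializes := by
    intro x y hxy hne
    obtain ⟨m, hm, he⟩ := baseDim_eq_add h2 h3 x y hxy
    have h1 := one_le_codim x y hxy hne
    rw [hm] at h1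
    have : 1 ≤ m := by exact_mod_cast h1
    omega
  eq_add_one_of_immediate := by
    intro x y hxy hne himm
    obtain ⟨m, hm, he⟩ := baseDim_eq_add h2 h3 x y hxy
    have h1 := codim_eq_one_of_immediate x y hxy hne himm
    rw [hm] at h1
    have : m = 1 := by exact_mod_cast h1
    omega
  exists_specializes_of_ne_zero := by
    intro x W hW hxW h0
    obtain ⟨y, ⟨hy1, hy2⟩, hy3⟩ := nonempty_inter_closedPoints (X := S) (Z := closure {x} ∩ W)
      ⟨x, subset_closure rfl, hxW⟩ (isClosed_closure.isLocallyClosed.inter hW.isLocallyClosed)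
    refine ⟨y, hy2, specializes_iff_mem_closure.mpr hy1, ?_⟩
    rintro rfl
    exact h0 (baseDim_eq_zero_of_isClosed h2 h3 y hy3)

end Base

/-- The transcendence degree of the residue field extension of `f` at `x`, as a natural number. -/
noncomputable def resTrdegNat {X Y : Scheme.{u}} (f : X ⟶ Y) (x : X) : ℕ :=
  Cardinal.toNat (resTrdeg f x)

theorem resTrdeg_eq_resTrdegNat {X Y : Scheme.{u}} (f : X ⟶ Y) [LocallyOfFiniteType f] (x : X) :
    resTrdeg f x = (resTrdegNat f x : Cardinal.{u}) := by
  unfold resTrdegNat
  rw [resTrdeg_eq_natCast f x, Cardinal.toNat_natCast]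

/-- At a closed point, the residue field extension is algebraic. -/
theorem resTrdegNat_eq_zero_of_isClosed {X Y : Scheme.{u}} (f : X ⟶ Y) [LocallyOfFiniteType f]
    (x : X) (hx : IsClosed ({x} : Set X)) : resTrdegNat f x = 0 := by
  unfold resTrdegNat
  rw [resTrdeg_eq_natCast f x, Cardinal.toNat_natCast]
  apply trdegNat_eq_zero_of_isClosed
  have : ({f.asFiber x} : Set (f.fiber (f x))) = (f.fiberι (f x)) ⁻¹' {x} := by
    ext z
    simp only [Set.mem_singleton_iff, Set.mem_preimage]
    constructor
    · rintro rfl; exact f.fiberι_asFiber x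
    · intro hz
      apply (f.fiberι (f x)).isEmbedding.injective
      rw [hz, f.fiberι_asFiber x]
  rw [this]
  exact hx.preimage (f.fiberι (f x)).continuous

/-- The relative dimension function on a scheme locally of finite type over a good base. -/
noncomputable def relDim {X S : Scheme.{u}} (p : X ⟶ S) (x : X) : ℕ :=
  baseDim S (p x) + resTrdegNat p x

section Rel

variable {S : Scheme.{u}} [IsLocallyNoetherian S] [JacobsonSpace S]
  (h2 : ∀ s : S, CAlg.IsUniversallyCatenary (S.presheaf.stalk s))
  (h3 : ∀ S' ∈ irreducibleComponents (S : Type u), ∀ s ∈ S', IsClosed ({s} : Set S) →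
    topologicalKrullDim (↥S' : Type u) = topologicalKrullDim ↥{t : S | t ∈ S' ∧ t ⤳ s})
  {X : Scheme.{u}} (p : X ⟶ S) [LocallyOfFiniteType p]

include h2 h3

/-- `relDim` drops by the codimension along specializations. -/
theorem relDim_eq_add (x x' : X) (h : x ⤳ x') :
    ∃ a : ℕ, codim x x' = a ∧ relDim p x = a + relDim p x' := by
  obtain ⟨a, b, ha, hb, he⟩ := codim_add_resTrdeg_eq p h2 x x' h
  obtain ⟨m, hm, hm'⟩ := baseDim_eq_add h2 h3 (p x) (p x') (h.map p.continuous)
  refine ⟨a, ha, ?_⟩
  rw [hb] at hm
  have hbm : b = m := by exact_mod_cast hm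
  rw [resTrdeg_eq_resTrdegNat, resTrdeg_eq_resTrdegNat] at he
  have he' : a + resTrdegNat p x' = b + resTrdegNat p x := by exact_mod_cast he
  unfold relDim
  omega

/-- `relDim` is a dimension function. -/
theorem isDimFun_relDim : IsDimFun (relDim p) where
  lt_of_specializes := by
    intro x y hxy hne
    obtain ⟨m, hm, he⟩ := relDim_eq_add h2 h3 p x y hxy
    have h1 := one_le_codim x y hxy hne
    rw [hm] at h1
    have : 1 ≤ m := by exact_mod_cast h1
    omega
  eq_add_one_of_immediate := by
    intro x y hxy hne himm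
    obtain ⟨m, hm, he⟩ := relDim_eq_add h2 h3 p x y hxy
    have h1 := codim_eq_one_of_immediate x y hxy hne himm
    rw [hm] at h1
    have : m = 1 := by exact_mod_cast h1
    omega
  exists_specializes_of_ne_zero := by
    intro x W hW hxW h0
    have : JacobsonSpace X := LocallyOfFiniteType.jacobsonSpace p
    obtain ⟨y, ⟨hy1, hy2⟩, hy3⟩ := nonempty_inter_closedPoints (X := X) (Z := closure {x} ∩ W)
      ⟨x, subset_closure rfl, hxW⟩ (isClosed_closure.isLocallyClosed.inter hW.isLocallyClosed)
    refine ⟨y, hy2, specializes_iff_mem_closure.mpr hy1, ?_⟩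
    rintro rfl
    apply h0
    have hpy : IsClosed ({p y} : Set S) := p.closePoints_subset_preimage_closedPoints hy3
    unfold relDim
    rw [baseDim_eq_zero_of_isClosed h2 h3 (p y) hpy, resTrdegNat_eq_zero_of_isClosed p y hy3]

end Rel

/-- The tower law for transcendence degrees of residue field extensions. -/
theorem resTrdeg_comp {X Y Z : Scheme.{u}} (f : X ⟶ Y) (g : Y ⟶ Z) (x : X) :
    resTrdeg (f ≫ g) x = resTrdeg g (f x) + resTrdeg f x := by
  unfold resTrdeg
  let _ : Algebra (Z.residueField (g (f x))) (Y.residueField (f x)) :=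
    (g.residueFieldMap (f x)).hom.toAlgebra
  let _ : Algebra (Y.residueField (f x)) (X.residueField x) := (f.residueFieldMap x).hom.toAlgebra
  let _ : Algebra (Z.residueField (g (f x))) (X.residueField x) :=
    ((f ≫ g).residueFieldMap x).hom.toAlgebra
  have : IsScalarTower (Z.residueField (g (f x))) (Y.residueField (f x)) (X.residueField x) := by
    refine IsScalarTower.of_algebraMap_eq (fun r => ?_)
    have := Scheme.residueFieldMap_comp f g x
    exact congrArg (fun φ => φ.hom r) this
  exact (trdeg_add_eq (Z.residueField (g (f x))) (Y.residueField (f x))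
    (A := X.residueField x)).symm

theorem resTrdegNat_comp {X Y Z : Scheme.{u}} (f : X ⟶ Y) (g : Y ⟶ Z) [LocallyOfFiniteType f]
    [LocallyOfFiniteType g] (x : X) :
    resTrdegNat (f ≫ g) x = resTrdegNat g (f x) + resTrdegNat f x := by
  have h := resTrdeg_comp f g x
  rw [resTrdeg_eq_resTrdegNat, resTrdeg_eq_resTrdegNat, resTrdeg_eq_resTrdegNat] at h
  exact_mod_cast h

section Rel

variable {S : Scheme.{u}} [IsLocallyNoetherian S] [JacobsonSpace S]
  (h2 : ∀ s : S, CAlg.IsUniversallyCatenary (S.presheaf.stalk s))
  (h3 : ∀ S' ∈ irreducibleComponents (S : Type u), ∀ s ∈ S', IsClosed ({s} : Set S) →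
    topologicalKrullDim (↥S' : Type u) = topologicalKrullDim ↥{t : S | t ∈ S' ∧ t ⤳ s})
  {X : Scheme.{u}} (p : X ⟶ S) [LocallyOfFiniteType p]

include h2 h3

/-- The dimension of an irreducible scheme locally of finite type over a good base is the value
of the relative dimension function at its generic point. -/
theorem topologicalKrullDim_eq_relDim_genericPoint [IrreducibleSpace X] :
    topologicalKrullDim X = ((relDim p (genericPoint X) : ℕ) : WithBot ℕ∞) := by
  have hδ := isDimFun_relDim h2 h3 p
  rw [hδ.topologicalKrullDim_eq_iSup]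
  apply le_antisymm
  · refine iSup_le fun x => ?_
    have := hδ.le_of_specializes (genericPoint_specializes x)
    exact_mod_cast this
  · exact le_iSup (fun x : X => ((relDim p x : ℕ∞) : WithBot ℕ∞)) (genericPoint X)

end Rel

/-- EGA IV 10.6.1 (ii) / 5.6.5: the dimension formula over a Jacobson universally catenary
base with equidimensional components. -/
theorem dim_eq_dim_add_generic_fibre {X Y S : Scheme.{u}} [IsLocallyNoetherian S]
    [JacobsonSpace S] (h2 : ∀ s : S, CAlg.IsUniversallyCatenary (S.presheaf.stalk s))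
    (h3 : ∀ S' ∈ irreducibleComponents (S : Type u), ∀ s ∈ S', IsClosed ({s} : Set S) →
      topologicalKrullDim (↥S' : Type u) = topologicalKrullDim ↥{t : S | t ∈ S' ∧ t ⤳ s})
    (p : X ⟶ S) (q : Y ⟶ S) [LocallyOfFiniteType p] [LocallyOfFiniteType q] (f : X ⟶ Y)
    (hf : f ≫ q = p) [IrreducibleSpace X] [IrreducibleSpace Y] [IsDominant f] :
    topologicalKrullDim (X : Type u) =
      topologicalKrullDim (Y : Type u) + topologicalKrullDim ↥(f.fiber (genericPoint Y)) := by
  subst hf
  have hflft : LocallyOfFiniteType f := locallyOfFiniteType_of_comp f q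
  have hgen : IsGenericPoint (f (genericPoint X)) (Set.univ : Set Y) := by
    have h := (genericPoint_spec X).image f.continuous
    rwa [Set.image_univ, f.denseRange.closure_range] at h
  have hη : f (genericPoint X) = genericPoint Y := hgen.eq (genericPoint_spec Y)
  rw [topologicalKrullDim_eq_relDim_genericPoint h2 h3 (f ≫ q),
    topologicalKrullDim_eq_relDim_genericPoint h2 h3 q,
    topologicalKrullDim_fiber_genericPoint f (genericPoint Y) hη (resTrdegNat f (genericPoint X))
      (resTrdeg_eq_resTrdegNat f _)]
  unfold relDim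
  rw [resTrdegNat_comp f q, ← hη]
  have : (f ≫ q) (genericPoint X) = q (f (genericPoint X)) := rfl
  rw [this]
  push_cast
  ring

end Groth.Agent.Lib.Helper73
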