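import Mathlib
import Groth.Agent.Lib.Helper73.DimFormula.Jacobson

/-!
# The local ring of a fibre at a point (helper73)

* `krullDim_subtype_eq_of_monotone`, `krullDim_subtype_eq_of_antitone`.
* `ringKrullDim_fiber_stalk_eq_krullDim`: `dim O_{X_y,x}` is the Krull dimension of the poset
  `{t | t ⤳ x ∧ f t = f x}`.
* `krullDim_fiber_generizations_eq_height`: in charts this is `ht (q/pB)`.
* `ringKrullDim_stalk_le_add_fiber`: `dim O_{X,x} ≤ dim O_{Y,y} + dim O_{X_y,x}`.
-/

set_option autoImplicit false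
universe u

open AlgebraicGeometry CategoryTheory TopologicalSpace Opposite Order

namespace Groth.Agent.Lib.Helper73

section KrullDimSubtype

variable {α β : Type*} [Preorder α] [Preorder β]

/-- Transport of the Krull dimension of subsets along an order-reflecting map. -/
lemma krullDim_subtype_eq_of_monotone (e : α → β) (he : ∀ a a', e a ≤ e a' ↔ a ≤ a')
    (A : Set α) (B : Set β) (hAB : ∀ a ∈ A, e a ∈ B) (hBA : ∀ b ∈ B, ∃ a ∈ A, e a = b) :
    Order.krullDim ↥B = Order.krullDim ↥A := by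
  apply le_antisymm
  · have hch : ∀ t : ↥B, ∃ w, w ∈ A ∧ e w = t.1 := fun t => hBA t.1 t.2
    choose g hgA hg using hch
    refine Order.krullDim_le_of_strictMono (fun t => (⟨g t, hgA t⟩ : ↥A)) ?_
    intro t t' htt'
    rw [lt_iff_le_not_ge] at htt' ⊢
    refine ⟨?_, fun h => htt'.2 ?_⟩
    · change g t ≤ g t'
      rw [← he, hg, hg]; exact htt'.1
    · change g t' ≤ g t at h
      rw [← he, hg, hg] at h; exact h
  · refine Order.krullDim_le_of_strictMono (fun w : ↥A => (⟨e w.1, hAB w.1 w.2⟩ : ↥B)) ?_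
    intro w w' hww'
    rw [lt_iff_le_not_ge] at hww' ⊢
    exact ⟨(he _ _).2 hww'.1, fun h => hww'.2 ((he _ _).1 h)⟩

/-- Transport of the Krull dimension of subsets along an order-reversing, order-reflecting
map. -/
lemma krullDim_subtype_eq_of_antitone (e : α → β) (he : ∀ a a', e a ≤ e a' ↔ a' ≤ a)
    (A : Set α) (B : Set β) (hAB : ∀ a ∈ A, e a ∈ B) (hBA : ∀ b ∈ B, ∃ a ∈ A, e a = b) :
    Order.krullDim ↥B = Order.krullDim ↥A := by
  rw [← Order.krullDim_orderDual (α := ↥A)]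
  apply le_antisymm
  · have hch : ∀ t : ↥B, ∃ w, w ∈ A ∧ e w = t.1 := fun t => hBA t.1 t.2
    choose g hgA hg using hch
    refine Order.krullDim_le_of_strictMono
      (fun t => OrderDual.toDual (⟨g t, hgA t⟩ : ↥A)) ?_
    intro t t' htt'
    rw [lt_iff_le_not_ge] at htt'
    rw [OrderDual.toDual_lt_toDual, lt_iff_le_not_ge]
    refine ⟨?_, fun h => htt'.2 ?_⟩
    · change g t' ≤ g t
      rw [← he, hg, hg]; exact htt'.1
    · change g t ≤ g t' at h
      rw [← he, hg, hg] at h; exact h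
  · refine Order.krullDim_le_of_strictMono
      (fun w : (↥A)ᵒᵈ => (⟨e (OrderDual.ofDual w).1,
        hAB _ (OrderDual.ofDual w).2⟩ : ↥B)) ?_
    intro w w' hww'
    have h1 : OrderDual.ofDual w' < OrderDual.ofDual w := hww'
    rw [lt_iff_le_not_ge] at h1 ⊢
    exact ⟨(he _ _).2 h1.1, fun h => h1.2 ((he _ _).1 h)⟩

end KrullDimSubtype

/-- The dimension of the local ring of the fibre at a point is the Krull dimension of the poset of
generizations of the point inside the fibre. -/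
theorem ringKrullDim_fiber_stalk_eq_krullDim {X Y : Scheme.{u}} (f : X ⟶ Y) (x : X) :
    ringKrullDim ((f.fiber (f.base x)).presheaf.stalk (f.asFiber x)) =
      Order.krullDim ↥{t : X | t ⤳ x ∧ f t = f x} := by
  rw [ringKrullDim_stalk_eq_coheight, Order.coheight_eq_krullDim_Ici]
  symm
  let ι : ↥(f.fiber (f x)) → X := fun z => f.fiberι (f x) z
  have he : ∀ a a', ι a ≤ ι a' ↔ a ≤ a' := by
    intro a a'
    change f.fiberι (f x) a' ⤳ f.fiberι (f x) a ↔ a' ⤳ a
    exact (f.fiberι (f x)).isEmbedding.isInducing.specializes_iff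
  refine krullDim_subtype_eq_of_monotone ι he (Set.Ici (f.asFiber x))
    {t : X | t ⤳ x ∧ f t = f x} ?_ ?_
  · intro a ha
    have ha' : a ⤳ f.asFiber x := ha
    refine ⟨?_, ?_⟩
    · have := ha'.map (f.fiberι (f x)).continuous
      rwa [f.fiberι_asFiber x] at this
    · have : f.fiberι (f x) a ∈ Set.range (f.fiberι (f x)) := ⟨_, rfl⟩
      rw [f.range_fiberι (f x)] at this
      exact this
  · intro t ht
    have : t ∈ Set.range (f.fiberι (f x)) := by
      rw [f.range_fiberι (f x)]; exact ht.2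
    obtain ⟨a, ha⟩ := this
    refine ⟨a, ?_, ha⟩
    change a ⤳ f.asFiber x
    rw [← (f.fiberι (f x)).isEmbedding.isInducing.specializes_iff, ha, f.fiberι_asFiber x]
    exact ht.1

set_option backward.isDefEq.respectTransparency.types false in
/-- The poset of generizations of `x` inside its fibre, computed in affine charts: its Krull
dimension is the height of `q/pB` in `B/pB`. -/
theorem krullDim_fiber_generizations_eq_height {X Y : Scheme.{u}} (f : X ⟶ Y)
    {U : X.Opens} {V : Y.Opens} (hU : IsAffineOpen U) (hV : IsAffineOpen V)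
    (hUV : U ≤ f ⁻¹ᵁ V) (x : X) (hxU : x ∈ U) (hfxV : f x ∈ V) :
    letI : Algebra Γ(Y, V) Γ(X, U) := (f.appLE V U hUV).hom.toAlgebra
    Order.krullDim ↥{t : X | t ⤳ x ∧ f t = f x} =
      (((hU.primeIdealOf ⟨x, hxU⟩).asIdeal.map (Ideal.Quotient.mk
        ((hV.primeIdealOf ⟨f x, hfxV⟩).asIdeal.map (algebraMap Γ(Y, V) Γ(X, U))))).height :
        WithBot ℕ∞) := by
  let _ : Algebra Γ(Y, V) Γ(X, U) := (f.appLE V U hUV).hom.toAlgebra
  let q : Ideal Γ(X, U) := (hU.primeIdealOf ⟨x, hxU⟩).asIdeal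
  let p : Ideal Γ(Y, V) := (hV.primeIdealOf ⟨f x, hfxV⟩).asIdeal
  let I : Ideal Γ(X, U) := p.map (algebraMap Γ(Y, V) Γ(X, U))
  have hqp : q.under Γ(Y, V) = p := by
    have := IsAffineOpen.comap_primeIdealOf_appLE V hV U hU hUV hxU
    exact congrArg PrimeSpectrum.asIdeal this
  have hIq : I ≤ q := by
    rw [Ideal.map_le_iff_le_comap]
    exact le_of_eq hqp.symm
  have hqbar : (q.map (Ideal.Quotient.mk I)).IsPrime := Ideal.isPrime_map_quotientMk_of_isPrime hIq
  let qbar : PrimeSpectrum (Γ(X, U) ⧸ I) := ⟨q.map (Ideal.Quotient.mk I), hqbar⟩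
  let φ : PrimeSpectrum (Γ(X, U) ⧸ I) → PrimeSpectrum Γ(X, U) :=
    PrimeSpectrum.comap (Ideal.Quotient.mk I)
  have hφle : ∀ a b, φ a ≤ φ b ↔ a ≤ b := by
    intro a b
    change a.asIdeal.comap _ ≤ b.asIdeal.comap _ ↔ a ≤ b
    rw [← Ideal.map_le_iff_le_comap, Ideal.map_comap_of_surjective _ Ideal.Quotient.mk_surjective,
      PrimeSpectrum.asIdeal_le_asIdeal]
  have hIφ : ∀ a, I ≤ (φ a).asIdeal := by
    intro a
    change I ≤ a.asIdeal.comap (Ideal.Quotient.mk I)
    conv_lhs => rw [← Ideal.mk_ker (I := I)]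
    exact Ideal.ker_le_comap _
  have hφq : φ qbar = hU.primeIdealOf ⟨x, hxU⟩ :=
    PrimeSpectrum.ext (comap_map_quotientMk_of_le I q hIq)
  let e : PrimeSpectrum (Γ(X, U) ⧸ I) → X := fun a => hU.fromSpec (φ a)
  have he : ∀ a a', e a ≤ e a' ↔ a' ≤ a := by
    intro a a'
    change hU.fromSpec (φ a') ⤳ hU.fromSpec (φ a) ↔ a' ≤ a
    rw [hU.fromSpec.isOpenEmbedding.isInducing.specializes_iff, ← hφle]
    exact (PrimeSpectrum.le_iff_specializes (φ a') (φ a)).symm
  -- the image of a point of `U` in `V`, in terms of primes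
  have hfprime : ∀ (t : X) (htU : t ∈ U),
      (hV.primeIdealOf ⟨f t, hUV htU⟩).asIdeal = (hU.primeIdealOf ⟨t, htU⟩).asIdeal.under Γ(Y, V) := by
    intro t htU
    have := IsAffineOpen.comap_primeIdealOf_appLE V hV U hU hUV htU
    exact (congrArg PrimeSpectrum.asIdeal this).symm
  have key := krullDim_subtype_eq_of_antitone e he (Set.Iic qbar)
    {t : X | t ⤳ x ∧ f t = f x} ?_ ?_
  · rw [key, ← Order.height_eq_krullDim_Iic, ← PrimeSpectrum.height_eq_orderHeight]
  · intro a ha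
    have ha' : a ≤ qbar := ha
    have h1 : φ a ≤ hU.primeIdealOf ⟨x, hxU⟩ := by rw [← hφq]; exact (hφle _ _).2 ha'
    have htU : e a ∈ U := fromSpec_mem hU (φ a)
    have hprime : hU.primeIdealOf ⟨e a, htU⟩ = φ a := primeIdealOf_fromSpec hU (φ a)
    refine ⟨?_, ?_⟩
    · have h5 : hU.fromSpec (φ a) ⤳ hU.fromSpec (hU.primeIdealOf ⟨x, hxU⟩) :=
        hU.fromSpec.isOpenEmbedding.isInducing.specializes_iff.mpr
          ((PrimeSpectrum.le_iff_specializes (φ a) (hU.primeIdealOf ⟨x, hxU⟩)).mp h1)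
      have h6 : hU.fromSpec (hU.primeIdealOf ⟨x, hxU⟩) = x := hU.fromSpec_primeIdealOf ⟨x, hxU⟩
      rw [h6] at h5
      exact h5
    · -- `f (e a)` and `f x` have the same prime in `V`
      have h2 : (hV.primeIdealOf ⟨f (e a), hUV htU⟩).asIdeal = p := by
        rw [hfprime (e a) htU, hprime]
        apply le_antisymm
        · rw [← hqp]
          exact Ideal.comap_mono h1
        · rw [← Ideal.map_le_iff_le_comap]
          exact hIφ a
      have h3 : hV.primeIdealOf ⟨f (e a), hUV htU⟩ = hV.primeIdealOf ⟨f x, hfxV⟩ :=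
        PrimeSpectrum.ext h2
      have h4 := congrArg (fun P => hV.fromSpec P) h3
      simp only [hV.fromSpec_primeIdealOf] at h4
      exact h4
  · intro t ht
    have htU : t ∈ U := ht.1.mem_open U.isOpen hxU
    let Q : PrimeSpectrum Γ(X, U) := hU.primeIdealOf ⟨t, htU⟩
    have hQq : Q ≤ hU.primeIdealOf ⟨x, hxU⟩ := primeIdealOf_le_of_specializes hU t x htU hxU ht.1
    have hIQ : I ≤ Q.asIdeal := by
      rw [Ideal.map_le_iff_le_comap]
      have h1 := hfprime t htU
      have h2 : (hV.primeIdealOf ⟨f t, hUV htU⟩).asIdeal = p := by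
        have : (⟨f t, hUV htU⟩ : V) = ⟨f x, hfxV⟩ := Subtype.ext ht.2
        rw [this]
      rw [h2] at h1
      exact le_of_eq h1
    have hQ' : (Q.asIdeal.map (Ideal.Quotient.mk I)).IsPrime :=
      Ideal.isPrime_map_quotientMk_of_isPrime hIQ
    refine ⟨⟨Q.asIdeal.map (Ideal.Quotient.mk I), hQ'⟩, ?_, ?_⟩
    · change (⟨Q.asIdeal.map (Ideal.Quotient.mk I), hQ'⟩ : PrimeSpectrum _) ≤ qbar
      exact Ideal.map_mono hQq
    · change hU.fromSpec (φ ⟨Q.asIdeal.map (Ideal.Quotient.mk I), hQ'⟩) = t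
      have : φ ⟨Q.asIdeal.map (Ideal.Quotient.mk I), hQ'⟩ = Q :=
        PrimeSpectrum.ext (comap_map_quotientMk_of_le I Q.asIdeal hIQ)
      rw [this]
      exact hU.fromSpec_primeIdealOf ⟨t, htU⟩

set_option backward.isDefEq.respectTransparency.types false in
/-- EGA IV 5.5.1/6.1.2: `dim O_{X,x} ≤ dim O_{Y,y} + dim O_{X_y,x}`. -/
theorem ringKrullDim_stalk_le_add_fiber {X Y : Scheme.{u}} [IsLocallyNoetherian Y] (f : X ⟶ Y)
    [LocallyOfFiniteType f] (x : X) :
    ringKrullDim (X.presheaf.stalk x) ≤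
      ringKrullDim (Y.presheaf.stalk (f.base x)) +
        ringKrullDim ((f.fiber (f.base x)).presheaf.stalk (f.asFiber x)) := by
  obtain ⟨V, hV, hfxV, -⟩ :=
    exists_isAffineOpen_mem_and_subset (X := Y) (x := f x) (U := ⊤) trivial
  obtain ⟨U, hU, hxU, hUV⟩ :=
    exists_isAffineOpen_mem_and_subset (X := X) (x := x) (U := f ⁻¹ᵁ V) hfxV
  let _ : Algebra Γ(Y, V) Γ(X, U) := (f.appLE V U hUV).hom.toAlgebra
  have hN : IsNoetherianRing Γ(Y, V) := IsLocallyNoetherian.component_noetherian ⟨V, hV⟩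
  have hft : Algebra.FiniteType Γ(Y, V) Γ(X, U) :=
    HasRingHomProperty.appLE @LocallyOfFiniteType f inferInstance ⟨V, hV⟩ ⟨U, hU⟩ hUV
  have hNB : IsNoetherianRing Γ(X, U) := Algebra.FiniteType.isNoetherianRing Γ(Y, V) Γ(X, U)
  let q : Ideal Γ(X, U) := (hU.primeIdealOf ⟨x, hxU⟩).asIdeal
  let p : Ideal Γ(Y, V) := (hV.primeIdealOf ⟨f x, hfxV⟩).asIdeal
  have hqp : q.LiesOver p := ⟨by
    have := IsAffineOpen.comap_primeIdealOf_appLE V hV U hU hUV hxU
    exact (congrArg PrimeSpectrum.asIdeal this).symm⟩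
  rw [ringKrullDim_fiber_stalk_eq_krullDim, krullDim_fiber_generizations_eq_height f hU hV hUV x hxU hfxV,
    ringKrullDim_stalk_eq_height hU x hxU, ringKrullDim_stalk_eq_height hV (f x) hfxV]
  have := Ideal.height_le_height_add_of_liesOver p q
  exact_mod_cast this

end Groth.Agent.Lib.Helper73
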