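import Mathlib
import Groth.Agent.Lib.Helper73.DimFormula.FiberStalk

/-!
# Maximal points of fibres above a point, chains in fibres

* `exists_ringKrullDim_fiber_stalk_eq_natCast`: fibre local rings (l.f.t. morphism) have finite dim.
* `exists_maximal_fiber_generization`: for `x : X` there is a maximal point `z` of the fibre through
  `x` generizing `x`, with a chain `x < ... < z` of length `dim O_{X_y,x}`.
* `coheight_last_add_length_le`: `coheight p.last + p.length ≤ coheight p.head`.
-/

set_option autoImplicit false
universe u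

open AlgebraicGeometry CategoryTheory TopologicalSpace Opposite Order

namespace Groth.Agent.Lib.Helper73

/-- The local rings of the fibres of a morphism locally of finite type have finite dimension. -/
lemma exists_ringKrullDim_fiber_stalk_eq_natCast {X Y : Scheme.{u}} (f : X ⟶ Y)
    [LocallyOfFiniteType f] (x : X) :
    ∃ n : ℕ, ringKrullDim ((f.fiber (f.base x)).presheaf.stalk (f.asFiber x)) = n := by
  have hLN : IsLocallyNoetherian (f.fiber (f x)) :=
    LocallyOfFiniteType.isLocallyNoetherian (f.fiberToSpecResidueField (f x))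
  have h0 : ringKrullDim ((f.fiber (f.base x)).presheaf.stalk (f.asFiber x)) ≠ ⊥ :=
    ringKrullDim_ne_bot
  have hT : ringKrullDim ((f.fiber (f.base x)).presheaf.stalk (f.asFiber x)) ≠ ⊤ :=
    ringKrullDim_ne_top
  obtain ⟨m, hm⟩ := WithBot.ne_bot_iff_exists.mp h0
  have hm' : m ≠ ⊤ := by
    intro e; rw [e] at hm; exact hT hm.symm
  obtain ⟨n, hn⟩ := ENat.ne_top_iff_exists.mp hm'
  exact ⟨n, by rw [← hm, ← hn]; rfl⟩

/-- There is a maximal point `z` of the fibre through `x`, generizing `x`, joined to `x` by a chain
of length `dim O_{X_y,x}`. -/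
theorem exists_maximal_fiber_generization {X Y : Scheme.{u}} (f : X ⟶ Y)
    [LocallyOfFiniteType f] (x : X) (n : ℕ)
    (hn : ringKrullDim ((f.fiber (f.base x)).presheaf.stalk (f.asFiber x)) = n) :
    ∃ z : X, f z = f x ∧ z ⤳ x ∧ (∀ t : X, t ⤳ z → f t = f z → t = z) ∧
      ∃ p : LTSeries X, p.head = x ∧ p.last = z ∧ p.length = n := by
  rw [ringKrullDim_fiber_stalk_eq_krullDim] at hn
  let G : Set X := {t : X | t ⤳ x ∧ f t = f x}
  let x0 : G := ⟨x, specializes_rfl, rfl⟩
  let _ : OrderBot G := { bot := x0, bot_le := fun t => t.2.1 }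
  have hco : Order.coheight (⊥ : G) = n := by
    have := Order.coheight_bot_eq_krullDim (α := G)
    rw [hn] at this
    exact_mod_cast this
  obtain ⟨p, hp1, hp2⟩ := Order.exists_series_of_coheight_eq_coe (⊥ : G) hco
  have hmaxco := Order.coheight_eq_index_of_length_eq_head_coheight (p := p)
    (by rw [hp1, hco, hp2]) (Fin.last _)
  have hlast0 : Order.coheight p.last = 0 := by
    have : ((Fin.last p.length).rev : ℕ) = 0 := by simp
    rw [RelSeries.last, hmaxco]
    exact_mod_cast this
  have hismax : IsMax p.last := Order.coheight_eq_zero.mp hlast0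
  refine ⟨p.last.1, p.last.2.2, p.last.2.1, ?_,
    LTSeries.mk p.length (fun i => (p i).1) (fun i j hij => p.strictMono hij), ?_, ?_, ?_⟩
  · intro t ht hft
    let t' : G := ⟨t, ht.trans p.last.2.1, hft.trans p.last.2.2⟩
    have h1 : p.last ≤ t' := ht
    have h2 : t' ≤ p.last := hismax h1
    exact (Specializes.antisymm (show p.last.1 ⤳ t from h2) ht).eq.symm
  · exact congrArg Subtype.val hp1
  · rfl
  · exact hp2

/-- Chains add up in the coheight. -/
lemma coheight_last_add_length_le {α : Type*} [Preorder α] (p : LTSeries α) :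
    Order.coheight p.last + p.length ≤ Order.coheight p.head := by
  have key : ∀ i : ℕ, ∀ hi : i < p.length + 1,
      Order.coheight (p ⟨i, hi⟩) + i ≤ Order.coheight p.head := by
    intro i
    induction i with
    | zero => intro hi; simp [RelSeries.head]
    | succ i ih =>
      intro hi
      have hi' : i < p.length + 1 := by omega
      have hlt : p ⟨i, hi'⟩ < p ⟨i + 1, hi⟩ := p.strictMono (by simp [Fin.lt_def])
      have h1 := Order.coheight_add_one_le hlt
      calc Order.coheight (p ⟨i + 1, hi⟩) + ((i + 1 : ℕ) : ℕ∞)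
          = (Order.coheight (p ⟨i + 1, hi⟩) + 1) + i := by push_cast; ring
        _ ≤ Order.coheight (p ⟨i, hi'⟩) + i := by gcongr
        _ ≤ _ := ih hi'
  exact key p.length (Nat.lt_succ_self _)

end Groth.Agent.Lib.Helper73
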