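import Mathlib
import Groth.Agent.Lib.Helper73.DimFormula.OrderCodim
import Groth.Agent.Lib.Helper73.DimFormula.Catenary
import Groth.Agent.Lib.Helper73.DimFormula.UnivCatenary
import Groth.Agent.Lib.Helper73.DimFormula.Codim
import Groth.Agent.Lib.Helper70.Catenary3

/-!
# The general dimension formula with a universally catenary hypothesis at one point only (helper73)

* `krullDim_Icc_add_of_posetCat_Iic`: additivity of `krullDim (Icc · ·)` below an element with
  catenary lower set.
* `posetCat_Iic_mvPolynomial_of_isLocalization`: if `M⁻¹A` is universally catenary, primes of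
  `A[x₁..xₙ]` not meeting `M` have catenary lower sets.
* `height_map_quotientMk_add_height_eq_of_posetCat_Iic`.
* `dimFormula_aux'`, `dimFormula_eq_local`, `isUniversallyCatenary_of_surjective`,
  `isUniversallyCatenary_localization_quotient`, `dimFormula_eq_pair_local`.
* `codim_add_resTrdeg_eq_local`: for `x ⤳ x'`, `O_{Y,f x'}` universally catenary,
  `codim(x, x') + trdeg κ(x')/κ(f x') = codim(f x, f x') + trdeg κ(x)/κ(f x)`.
-/

set_option autoImplicit false
universe u

open AlgebraicGeometry CategoryTheory TopologicalSpace Opposite Order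

namespace Groth.Agent.Lib.Helper73

open Groth.Agent.Lib.Helper70

/-- Additivity of `krullDim (Icc · ·)` below an element whose lower set is a catenary poset. -/
theorem krullDim_Icc_add_of_posetCat_Iic {P : Type u} [PartialOrder P] (c : P)
    (hP : PosetCat (Set.Iic c)) {a b : P} (hab : a ≤ b) (hbc : b ≤ c) :
    Order.krullDim (Set.Icc a c) = Order.krullDim (Set.Icc a b) + Order.krullDim (Set.Icc b c) := by
  let a' : Set.Iic c := ⟨a, hab.trans hbc⟩
  let b' : Set.Iic c := ⟨b, hbc⟩
  let c' : Set.Iic c := ⟨c, le_rfl⟩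
  have h := PosetCat.krullDim_Icc_add hP (a := a') (b := b') (c := c') hab hbc
  have key : ∀ s t : Set.Iic c, Order.krullDim (Set.Icc s.1 t.1) = Order.krullDim (Set.Icc s t) :=
    fun s t => krullDim_Icc_eq_of_monotone (Subtype.val : Set.Iic c → P) (fun _ _ => Iff.rfl) s t
      (fun w _ h2 => ⟨⟨w, h2.trans t.2⟩, rfl⟩)
  rw [← key a' c', ← key a' b', ← key b' c'] at h
  exact h

attribute [local instance] MvPolynomial.algebraMvPolynomial in
/-- If a localization `L = M⁻¹A` is universally catenary, then for every prime `q'` of a polynomial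
ring `A[x₁,…,xₙ]` not meeting `M`, the poset of primes below `q'` is catenary. -/
theorem posetCat_Iic_mvPolynomial_of_isLocalization {A : Type u} [CommRing A] (M : Submonoid A)
    (L : Type u) [CommRing L] [Algebra A L] [IsLocalization M L]
    (hL : CAlg.IsUniversallyCatenary L) (n : ℕ) (q' : PrimeSpectrum (MvPolynomial (Fin n) A))
    (hq' : Disjoint ((M.map (MvPolynomial.C (σ := Fin n)) : Submonoid _) : Set (MvPolynomial (Fin n) A))
      q'.asIdeal) :
    PosetCat (Set.Iic q') := by
  have hloc : IsLocalization (M.map (MvPolynomial.C (σ := Fin n))) (MvPolynomial (Fin n) L) :=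
    MvPolynomial.isLocalization M L
  have hcat : PosetCat (PrimeSpectrum (MvPolynomial (Fin n) L)) := hL.2 _ inferInstance
  let e := IsLocalization.primeSpectrumOrderIso (M.map (MvPolynomial.C (σ := Fin n)))
    (MvPolynomial (Fin n) L)
  have hdisj : ∀ t : Set.Iic q', Disjoint ((M.map (MvPolynomial.C (σ := Fin n)) : Submonoid _) :
      Set (MvPolynomial (Fin n) A)) t.1.asIdeal :=
    fun t => Set.disjoint_of_subset_right t.2 hq'
  let φ : Set.Iic q' ↪o PrimeSpectrum (MvPolynomial (Fin n) L) :=
    { toFun := fun t => e.symm ⟨t.1, hdisj t⟩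
      inj' := by
        intro s t hst
        have := e.symm.injective hst
        exact Subtype.ext (congrArg (fun w => w.1) this)
      map_rel_iff' := by
        intro s t
        change e.symm _ ≤ e.symm _ ↔ s ≤ t
        rw [e.symm.le_iff_le]
        rfl }
  refine PosetCat.of_embedding φ ?_ hcat
  intro a b r _ hrb
  have h1 : e r ≤ e (φ b) := e.monotone hrb
  have h2 : e (φ b) = ⟨b.1, hdisj b⟩ := e.apply_symm_apply _
  rw [h2] at h1
  have h3 : (e r).1 ≤ b.1 := h1
  refine ⟨⟨(e r).1, le_trans h3 b.2⟩, ?_⟩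
  change e.symm ⟨(e r).1, _⟩ = r
  exact e.symm_apply_apply r

/-- In a domain, `ht (q/Q) + ht Q = ht q` as soon as the poset of primes below `q` is catenary. -/
theorem height_map_quotientMk_add_height_eq_of_posetCat_Iic {A : Type u} [CommRing A] [IsDomain A]
    (Q q : Ideal A) [hQ : Q.IsPrime] [hq : q.IsPrime] (h : Q ≤ q)
    (hP : PosetCat (Set.Iic (⟨q, hq⟩ : PrimeSpectrum A))) :
    (q.map (Ideal.Quotient.mk Q)).height + Q.height = q.height := by
  have h1 := krullDim_Icc_add_of_posetCat_Iic (⟨q, hq⟩ : PrimeSpectrum A) hP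
    (a := ⊥) (b := ⟨Q, hQ⟩) bot_le h
  rw [Set.Icc_bot, Set.Icc_bot, ← Order.height_eq_krullDim_Iic, ← Order.height_eq_krullDim_Iic,
    krullDim_Icc_primeSpectrum _ _ h, ← PrimeSpectrum.height_eq_orderHeight,
    ← PrimeSpectrum.height_eq_orderHeight] at h1
  have h2 : ((q.height : ℕ∞) : WithBot ℕ∞) =
      ((Q.height + (q.map (Ideal.Quotient.mk Q)).height : ℕ∞) : WithBot ℕ∞) := by
    rw [WithBot.coe_add]; exact h1
  have h3 := WithBot.coe_injective h2
  rw [h3, add_comm]

end Groth.Agent.Lib.Helper73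

namespace Groth.Agent.Lib.Helper73

open Groth.Agent.Lib.Helper70

/-- Variant of `dimFormula_aux` recording that `q'` lies over `p`. -/
theorem dimFormula_aux' (R : Type u) [CommRing R] [IsDomain R]
    [IsNoetherianRing R] (S : Type u) [CommRing S] [IsDomain S] [Algebra R S]
    [FaithfulSMul R S] [Algebra.FiniteType R S] (p : Ideal R) [p.IsPrime] (q : Ideal S) [q.IsPrime]
    [q.LiesOver p] :
    ∃ (n : ℕ) (Q q' : Ideal (MvPolynomial (Fin n) R)) (_ : Q.IsPrime) (_ : q'.IsPrime)
      (_ : Q ≤ q'), q'.LiesOver p ∧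
      (Q.height : Cardinal.{u}) + Algebra.trdeg R S = n ∧
      (q'.height : Cardinal.{u}) + Algebra.trdeg (R ⧸ p) (S ⧸ q) = p.height + n ∧
      (q'.map (Ideal.Quotient.mk Q)).height = q.height := by
  obtain ⟨n, f, hf⟩ := Algebra.FiniteType.iff_quotient_mvPolynomial''.mp
    (inferInstance : Algebra.FiniteType R S)
  let A := MvPolynomial (Fin n) R
  let Q : Ideal A := RingHom.ker f.toRingHom
  let q' : Ideal A := q.comap f.toRingHom
  have hQ : Q.IsPrime := RingHom.ker_isPrime f.toRingHom
  have hq' : q'.IsPrime := Ideal.comap_isPrime _ _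
  have hQq' : Q ≤ q' := Ideal.ker_le_comap _
  have hQbot : Q.LiesOver (⊥ : Ideal R) := ⟨by
    ext r
    simp only [Ideal.under, Ideal.mem_comap, Ideal.mem_bot, Q, RingHom.mem_ker]
    change r = 0 ↔ f (algebraMap R A r) = 0
    rw [AlgHom.commutes]
    constructor
    · rintro rfl; simp
    · intro h
      exact (FaithfulSMul.algebraMap_injective R S) (by rw [h, map_zero])⟩
  have hq'p : q'.LiesOver p := ⟨by
    rw [q.over_def p]
    ext r
    simp only [Ideal.under, Ideal.mem_comap, q']
    change _ ↔ f (algebraMap R A r) ∈ q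
    rw [AlgHom.commutes]⟩
  have hbot : (⊥ : Ideal R).IsPrime := Ideal.isPrime_bot
  refine ⟨n, Q, q', hQ, hq', hQq', hq'p, ?_, ?_, ?_⟩
  · have h1 := mvPolynomial_height_add_trdeg R n ⊥ Q
    rw [Ideal.height_bot] at h1
    have h2 : Algebra.trdeg (R ⧸ (⊥ : Ideal R)) (A ⧸ Q) = Algebra.trdeg R S := by
      refine trdeg_eq_of_ringEquiv_square (RingEquiv.quotientBot R)
        (RingHom.quotientKerEquivOfSurjective (f := f.toRingHom) hf) ?_
      rintro ⟨r⟩
      change f (algebraMap R A r) = algebraMap R S r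
      rw [AlgHom.commutes]
    rw [h2] at h1
    simpa using h1
  · have h1 := mvPolynomial_height_add_trdeg R n p q'
    have h2 : Algebra.trdeg (R ⧸ p) (A ⧸ q') = Algebra.trdeg (R ⧸ p) (S ⧸ q) := by
      let g : A →+* S ⧸ q := (Ideal.Quotient.mk q).comp f.toRingHom
      have hg : Function.Surjective g := Ideal.Quotient.mk_surjective.comp hf
      have hker : RingHom.ker g = q' := by
        rw [RingHom.ker_eq_comap_bot, ← Ideal.comap_comap, ← RingHom.ker_eq_comap_bot,
          Ideal.mk_ker]
      refine trdeg_eq_of_ringEquiv_square (RingEquiv.refl _)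
        ((Ideal.quotEquivOfEq hker.symm).trans (RingHom.quotientKerEquivOfSurjective hg)) ?_
      rintro ⟨r⟩
      change Ideal.Quotient.mk q (f (algebraMap R A r)) = Ideal.Quotient.mk q (algebraMap R S r)
      rw [AlgHom.commutes]
    rw [h2] at h1
    exact h1
  · let e : (A ⧸ Q) ≃+* S := RingHom.quotientKerEquivOfSurjective (f := f.toRingHom) hf
    have : q'.map (Ideal.Quotient.mk Q) = q.comap (e : (A ⧸ Q) →+* S) := by
      ext x
      obtain ⟨a, rfl⟩ := Ideal.Quotient.mk_surjective x
      rw [Ideal.mem_comap]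
      change _ ↔ f a ∈ q
      rw [Ideal.mem_map_iff_of_surjective _ Ideal.Quotient.mk_surjective]
      constructor
      · rintro ⟨b, hb, hba⟩
        have : b - a ∈ Q := by
          rw [← Ideal.Quotient.eq]; exact hba
        have hfab : f b = f a := by
          have : f (b - a) = 0 := this
          rwa [map_sub, sub_eq_zero] at this
        rw [← hfab]; exact hb
      · intro ha
        exact ⟨a, ha, rfl⟩
    rw [this]
    exact RingEquiv.height_comap e q

/-- The dimension formula with equality at a prime `p` of a Noetherian domain whose local ring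
`R_p` is universally catenary. -/
theorem dimFormula_eq_local (R : Type u) [CommRing R] [IsDomain R] [IsNoetherianRing R]
    (S : Type u) [CommRing S] [IsDomain S] [Algebra R S]
    [FaithfulSMul R S] [Algebra.FiniteType R S] (p : Ideal R) [p.IsPrime] (q : Ideal S) [q.IsPrime]
    [q.LiesOver p] (L : Type u) [CommRing L] [Algebra R L] [IsLocalization.AtPrime L p]
    (hL : CAlg.IsUniversallyCatenary L) :
    (q.height : Cardinal.{u}) + Algebra.trdeg (R ⧸ p) (S ⧸ q) =
      (p.height : Cardinal.{u}) + Algebra.trdeg R S := by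
  obtain ⟨n, Q, q', hQ, hq', hQq', hq'p, h1, h2, h3⟩ := dimFormula_aux' R S p q
  have hdisj : Disjoint ((p.primeCompl.map (MvPolynomial.C (σ := Fin n)) : Submonoid _) :
      Set (MvPolynomial (Fin n) R)) (⟨q', hq'⟩ : PrimeSpectrum _).asIdeal := by
    rw [Set.disjoint_left]
    rintro x ⟨r, hr, rfl⟩ hx
    apply hr
    rw [q'.over_def p]
    exact hx
  have hcat := posetCat_Iic_mvPolynomial_of_isLocalization p.primeCompl L hL n ⟨q', hq'⟩ hdisj
  have h4 := height_map_quotientMk_add_height_eq_of_posetCat_Iic Q q' hQq' hcat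
  rw [h3] at h4
  have h5 : (q.height : Cardinal.{u}) + Q.height = q'.height := by
    have := congrArg (fun x : ℕ∞ => (x : Cardinal.{u})) h4
    simpa using this
  have hn : (n : Cardinal.{u}) < Cardinal.aleph0 := Cardinal.natCast_lt_aleph0
  have key : (q.height : Cardinal.{u}) + Algebra.trdeg (R ⧸ p) (S ⧸ q) + n =
      (p.height : Cardinal.{u}) + Algebra.trdeg R S + n := by
    calc (q.height : Cardinal.{u}) + Algebra.trdeg (R ⧸ p) (S ⧸ q) + n
        = ((q.height : Cardinal.{u}) + Q.height) + Algebra.trdeg (R ⧸ p) (S ⧸ q) +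
            Algebra.trdeg R S := by rw [← h1]; ring
      _ = (q'.height : Cardinal.{u}) + Algebra.trdeg (R ⧸ p) (S ⧸ q) + Algebra.trdeg R S := by
          rw [h5]
      _ = (p.height : Cardinal.{u}) + Algebra.trdeg R S + n := by rw [h2]; ring
  exact le_antisymm ((Cardinal.add_le_add_iff_of_lt_aleph0 hn).mp key.le)
    ((Cardinal.add_le_add_iff_of_lt_aleph0 hn).mp key.ge)

end Groth.Agent.Lib.Helper73

namespace Groth.Agent.Lib.Helper73

open Groth.Agent.Lib.Helper70

/-- Surjective images of universally catenary rings are universally catenary. -/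
theorem isUniversallyCatenary_of_surjective {A B : Type u} [CommRing A] [CommRing B]
    (φ : A →+* B) (hφ : Function.Surjective φ)
    (hA : CAlg.IsUniversallyCatenary A) : CAlg.IsUniversallyCatenary B := by
  have : IsNoetherianRing A := hA.1
  refine ⟨isNoetherianRing_of_surjective A B φ hφ, fun S _ _ hS => ?_⟩
  let _ : Algebra A B := φ.toAlgebra
  let _ : Algebra A S := ((algebraMap B S).comp φ).toAlgebra
  have : IsScalarTower A B S := IsScalarTower.of_algebraMap_eq (fun _ => rfl)
  have h1 : Algebra.FiniteType A B :=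
    Algebra.FiniteType.of_surjective (Algebra.ofId A B) hφ
  have : Algebra.FiniteType A S := Algebra.FiniteType.trans h1 hS
  exact hA.2 S this

/-- If `A_p` is universally catenary, so is `(A/p0)_{p/p0}`. -/
theorem isUniversallyCatenary_localization_quotient {A : Type u} [CommRing A] (p0 p : Ideal A)
    [p0.IsPrime] [hp : p.IsPrime] (h : p0 ≤ p)
    (L : Type u) [CommRing L] [Algebra A L] [IsLocalization.AtPrime L p]
    (hL : CAlg.IsUniversallyCatenary L)
    [hP : (p.map (Ideal.Quotient.mk p0)).IsPrime] :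
    CAlg.IsUniversallyCatenary (Localization.AtPrime (p.map (Ideal.Quotient.mk p0))) := by
  have h0 : CAlg.IsUniversallyCatenary (Localization.AtPrime p) :=
    isUniversallyCatenary_of_surjective
      (IsLocalization.algEquiv p.primeCompl L (Localization.AtPrime p)).toRingEquiv.toRingHom
      (IsLocalization.algEquiv p.primeCompl L (Localization.AtPrime p)).surjective hL
  have key : ∀ (P : Ideal A) [P.IsPrime], P = p → CAlg.IsUniversallyCatenary (Localization.AtPrime P) := by
    intro P _ hPp
    subst hPp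
    exact h0
  have h1 := key ((p.map (Ideal.Quotient.mk p0)).comap (Ideal.Quotient.mk p0))
    (comap_map_quotientMk_of_le p0 p h)
  exact isUniversallyCatenary_of_surjective _
    (RingHom.surjective_localRingHom_of_surjective (Ideal.Quotient.mk p0)
      Ideal.Quotient.mk_surjective (p.map (Ideal.Quotient.mk p0))) h1

/-- The dimension formula (equality) for a pair of primes `q ≤ q'` of a finite type algebra over a
Noetherian ring `A`, where `q'` lies over a prime `p'` with `A_{p'}` universally catenary. -/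
theorem dimFormula_eq_pair_local {A B : Type u} [CommRing A] [CommRing B] [Algebra A B]
    [IsNoetherianRing A] [Algebra.FiniteType A B] (q q' : Ideal B) [q.IsPrime]
    [q'.IsPrime] (hqq' : q ≤ q') (p' : Ideal A) [p'.IsPrime] [q'.LiesOver p']
    (L : Type u) [CommRing L] [Algebra A L] [IsLocalization.AtPrime L p']
    (hL : CAlg.IsUniversallyCatenary L) :
    ((q'.map (Ideal.Quotient.mk q)).height : Cardinal.{u}) + Algebra.trdeg (A ⧸ p') (B ⧸ q') =
      ((p'.map (Ideal.Quotient.mk (q.under A))).height : Cardinal.{u}) +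
        Algebra.trdeg (A ⧸ q.under A) (B ⧸ q) := by
  have hB : IsNoetherianRing B := Algebra.FiniteType.isNoetherianRing A B
  let p0 : Ideal A := q.under A
  have hp0p : p0.IsPrime := inferInstance
  have hp0p' : p0 ≤ p' := by
    rw [q'.over_def p']
    exact Ideal.comap_mono hqq'
  have hp' : (p'.map (Ideal.Quotient.mk p0)).IsPrime :=
    Ideal.isPrime_map_quotientMk_of_isPrime hp0p'
  have hq' : (q'.map (Ideal.Quotient.mk q)).IsPrime :=
    Ideal.isPrime_map_quotientMk_of_isPrime hqq'
  have hlo : (q'.map (Ideal.Quotient.mk q)).LiesOver (p'.map (Ideal.Quotient.mk p0)) :=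
    liesOver_map_quotientMk p0 p' q q' hp0p' hqq'
  have hd1 : IsDomain (A ⧸ p0) := Ideal.Quotient.isDomain p0
  have hd2 : IsDomain (B ⧸ q) := Ideal.Quotient.isDomain q
  have hft : Algebra.FiniteType (A ⧸ p0) (B ⧸ q) := by
    have h1 : Algebra.FiniteType A (B ⧸ q) :=
      Algebra.FiniteType.of_surjective (Ideal.Quotient.mkₐ A q) Ideal.Quotient.mk_surjective
    exact Algebra.FiniteType.of_restrictScalars_finiteType A (A ⧸ p0) (B ⧸ q)
  have hL' := isUniversallyCatenary_localization_quotient p0 p' hp0p' L hL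
  have h := dimFormula_eq_local (A ⧸ p0) (B ⧸ q)
    (p'.map (Ideal.Quotient.mk p0)) (q'.map (Ideal.Quotient.mk q))
    (Localization.AtPrime (p'.map (Ideal.Quotient.mk p0))) hL'
  rw [trdeg_doubleQuot p0 p' q q' hp0p' hqq'] at h
  exact h

end Groth.Agent.Lib.Helper73

namespace Groth.Agent.Lib.Helper73

open Groth.Agent.Lib.Helper70 Groth.Agent.Lib.Helper44

set_option backward.isDefEq.respectTransparency.types false in
/-- The general dimension formula, local version: for `f : X ⟶ Y` locally of finite type, `Y`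
locally Noetherian, `x ⤳ x'` in `X` and `O_{Y,f x'}` universally catenary,
`codim(x, x') + trdeg κ(x')/κ(f x') = codim(f x, f x') + trdeg κ(x)/κ(f x)`. -/
theorem codim_add_resTrdeg_eq_local {X Y : Scheme.{u}} [IsLocallyNoetherian Y]
    (f : X ⟶ Y) [LocallyOfFiniteType f]
    (x x' : X) (h : x ⤳ x')
    (hY : CAlg.IsUniversallyCatenary (Y.presheaf.stalk (f x'))) :
    ∃ a b : ℕ, codim x x' = a ∧ codim (f x) (f x') = b ∧
      (a : Cardinal.{u}) + resTrdeg f x' = (b : Cardinal.{u}) + resTrdeg f x := by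
  obtain ⟨V, hV, hfx'V, -⟩ :=
    exists_isAffineOpen_mem_and_subset (X := Y) (x := f x') (U := ⊤) trivial
  obtain ⟨U, hU, hx'U, hUV⟩ :=
    exists_isAffineOpen_mem_and_subset (X := X) (x := x') (U := f ⁻¹ᵁ V) hfx'V
  have hxU : x ∈ U := h.mem_open U.isOpen hx'U
  have hfxV : f x ∈ V := hUV hxU
  have hfh : f x ⤳ f x' := h.map f.continuous
  let _ : Algebra Γ(Y, V) Γ(X, U) := (f.appLE V U hUV).hom.toAlgebra
  have hN : IsNoetherianRing Γ(Y, V) := IsLocallyNoetherian.component_noetherian ⟨V, hV⟩
  have hft : Algebra.FiniteType Γ(Y, V) Γ(X, U) :=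
    HasRingHomProperty.appLE @LocallyOfFiniteType f inferInstance ⟨V, hV⟩ ⟨U, hU⟩ hUV
  have hNB : IsNoetherianRing Γ(X, U) := Algebra.FiniteType.isNoetherianRing Γ(Y, V) Γ(X, U)
  let q : Ideal Γ(X, U) := (hU.primeIdealOf ⟨x, hxU⟩).asIdeal
  let q' : Ideal Γ(X, U) := (hU.primeIdealOf ⟨x', hx'U⟩).asIdeal
  let p' : Ideal Γ(Y, V) := (hV.primeIdealOf ⟨f x', hfx'V⟩).asIdeal
  let _ : Algebra Γ(Y, V) (Y.presheaf.stalk (f x')) :=
    TopCat.Presheaf.algebra_section_stalk Y.presheaf ⟨f x', hfx'V⟩
  have hloc : IsLocalization.AtPrime (Y.presheaf.stalk (f x')) p' :=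
    hV.isLocalization_stalk ⟨f x', hfx'V⟩
  have hqq' : q ≤ q' := primeIdealOf_le_of_specializes hU x x' hxU hx'U h
  have hq'p' : q'.LiesOver p' := ⟨by
    have := IsAffineOpen.comap_primeIdealOf_appLE V hV U hU hUV hx'U
    exact (congrArg PrimeSpectrum.asIdeal this).symm⟩
  have hp : q.under Γ(Y, V) = (hV.primeIdealOf ⟨f x, hfxV⟩).asIdeal := by
    have := IsAffineOpen.comap_primeIdealOf_appLE V hV U hU hUV hxU
    exact congrArg PrimeSpectrum.asIdeal this
  have heq := dimFormula_eq_pair_local q q' hqq' p' (Y.presheaf.stalk (f x')) hY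
  have hq'prime : (q'.map (Ideal.Quotient.mk q)).IsPrime :=
    Ideal.isPrime_map_quotientMk_of_isPrime hqq'
  have hpp' : q.under Γ(Y, V) ≤ p' := by
    rw [q'.over_def p']
    exact Ideal.comap_mono hqq'
  have hp'prime : (p'.map (Ideal.Quotient.mk (q.under Γ(Y, V)))).IsPrime :=
    Ideal.isPrime_map_quotientMk_of_isPrime hpp'
  have hfin1 : (q'.map (Ideal.Quotient.mk q)).height ≠ ⊤ := Ideal.height_ne_top_of_isPrime
  have hfin2 : (p'.map (Ideal.Quotient.mk (q.under Γ(Y, V)))).height ≠ ⊤ :=
    Ideal.height_ne_top_of_isPrime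
  obtain ⟨a, ha⟩ := ENat.ne_top_iff_exists.mp hfin1
  obtain ⟨b, hb⟩ := ENat.ne_top_iff_exists.mp hfin2
  refine ⟨a, b, ?_, ?_, ?_⟩
  · rw [codim_eq_height_chart hU x x' hxU hx'U h]
    change ((q'.map (Ideal.Quotient.mk q)).height : WithBot ℕ∞) = _
    rw [← ha]; rfl
  · rw [codim_eq_height_chart hV (f x) (f x') hfxV hfx'V hfh]
    rw [← hp]
    change ((p'.map (Ideal.Quotient.mk (q.under Γ(Y, V)))).height : WithBot ℕ∞) = _
    rw [← hb]; rfl
  · unfold resTrdeg
    rw [trdeg_residueFieldMap_eq_chart f hU hV hUV x' hx'U hfx'V rfl p' q' rfl rfl,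
      trdeg_residueFieldMap_eq_chart f hU hV hUV x hxU hfxV rfl (q.under Γ(Y, V)) q hp rfl]
    rw [← ha, ← hb] at heq
    exact_mod_cast heq

end Groth.Agent.Lib.Helper73

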