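import Mathlib
import Groth.Agent.Lib.Helper73.DimFormula.LocalGDF
import Groth.Agent.Lib.Helper73.DimFormula.Jacobson
import Groth.Agent.Lib.Helper73.DimFormula.FiberMax

/-!
# Fibre dimension at a point, codimension of the generic point (helper73)

* `fibreDimAt_eq`: `FlatMor.fibreDimAt f x = dim O_{X_y,x} + trdeg κ(x)/κ(y)`.
* `ringKrullDim_stalk_eq_codim_genericPoint`: on an irreducible scheme `dim O_x = codim(ξ, x)`.
* `exists_maximal_codim_eq_stalk`: a maximal generization `ξ` of `x` with `codim(ξ, x) = dim O_x`.
-/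

set_option autoImplicit false
universe u

open AlgebraicGeometry CategoryTheory TopologicalSpace Opposite Order

namespace Groth.Agent.Lib.Helper73

/-- The local dimension of the fibre at `x` is `dim O_{X_y,x} + trdeg κ(x)/κ(y)`. -/
theorem fibreDimAt_eq {X Y : Scheme.{u}} (f : X ⟶ Y) [LocallyOfFiniteType f] (x : X) :
    FlatMor.fibreDimAt f x =
      ringKrullDim ((f.fiber (f.base x)).presheaf.stalk (f.asFiber x)) +
        ((resTrdegNat f x : ℕ) : WithBot ℕ∞) := by
  unfold FlatMor.fibreDimAt
  rw [localDim_eq (k := Y.residueField (f x)) (f.fiberToSpecResidueField (f x)) (f.asFiber x)]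
  congr 2
  have h1 := resTrdeg_eq_natCast f x
  rw [resTrdeg_eq_resTrdegNat] at h1
  exact_mod_cast h1.symm

/-- On an irreducible scheme the dimension of a local ring is the codimension of the point in the
whole space. -/
theorem ringKrullDim_stalk_eq_codim_genericPoint {X : Scheme.{u}} [IrreducibleSpace X] (x : X) :
    ringKrullDim (X.presheaf.stalk x) = codim (genericPoint X) x := by
  rw [ringKrullDim_stalk_eq_coheight, Order.coheight_eq_krullDim_Ici]
  unfold codim
  have : Set.Icc x (genericPoint X) = Set.Ici x := by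
    ext t
    simp only [Set.mem_Icc, Set.mem_Ici, and_iff_left_iff_imp]
    intro _
    exact genericPoint_specializes t
  rw [this]

/-- Any point has a maximal generization realising the dimension of its local ring. -/
theorem exists_maximal_codim_eq_stalk {X : Scheme.{u}} [IsLocallyNoetherian X] (x : X) :
    ∃ ξ : X, ξ ⤳ x ∧ (∀ t : X, t ⤳ ξ → t = ξ) ∧
      codim ξ x = ringKrullDim (X.presheaf.stalk x) := by
  have h0 : ringKrullDim (X.presheaf.stalk x) ≠ ⊥ := ringKrullDim_ne_bot
  have hT : ringKrullDim (X.presheaf.stalk x) ≠ ⊤ := ringKrullDim_ne_top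
  rw [ringKrullDim_stalk_eq_coheight] at hT ⊢
  have hT' : Order.coheight x ≠ ⊤ := by
    intro e; rw [e] at hT; exact hT rfl
  obtain ⟨n, hn⟩ := ENat.ne_top_iff_exists.mp hT'
  obtain ⟨p, hp1, hp2⟩ := Order.exists_series_of_coheight_eq_coe x hn.symm
  have hmaxco := Order.coheight_eq_index_of_length_eq_head_coheight (p := p)
    (by rw [hp1, ← hn, hp2]) (Fin.last _)
  have hlast0 : Order.coheight p.last = 0 := by
    have : ((Fin.last p.length).rev : ℕ) = 0 := by simp
    rw [RelSeries.last, hmaxco]
    exact_mod_cast this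
  have hismax : IsMax p.last := Order.coheight_eq_zero.mp hlast0
  have hle : x ≤ p.last := hp1 ▸ p.head_le_last
  refine ⟨p.last, hle, ?_, ?_⟩
  · intro t ht
    have h1 : p.last ≤ t := ht
    have h2 : t ≤ p.last := hismax h1
    exact (Specializes.antisymm (show p.last ⤳ t from h2) ht).eq.symm
  · unfold codim
    apply le_antisymm
    · rw [Order.coheight_eq_krullDim_Ici]
      exact Order.krullDim_le_of_strictMono
        (fun t : Set.Icc x p.last => (⟨t.1, t.2.1⟩ : Set.Ici x)) (fun a b hab => hab)
    · rw [← hn]
      have hmem : ∀ i, p i ∈ Set.Icc x p.last := fun i =>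
        ⟨hp1 ▸ p.monotone (Fin.zero_le i), p.monotone (Fin.le_last i)⟩
      let p' : LTSeries (Set.Icc x p.last) :=
        LTSeries.mk p.length (fun i => ⟨p i, hmem i⟩) (fun i j hij => p.strictMono hij)
      have := Order.LTSeries.length_le_krullDim p'
      rw [show p'.length = n from hp2] at this
      exact this

end Groth.Agent.Lib.Helper73
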