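import Mathlib
import Groth.Agent.Lib.Helper73.DimFormula.FiberDim

/-!
# Codimension and fibres (helper73)

* `height_map_quotientMk_eq_zero_of_minimal`, `height_quotient_le_of_maximal_in_fiber`,
  `codim_le_codim_of_maximal_in_fiber`: if `z` is maximal in `closure {ξ} ∩ f⁻¹(f z)` among
  generizations of `z`, then `codim(ξ, z) ≤ codim(f ξ, f z)`.
* `exists_isMax_ge_of_coheight_ne_top`, `coheight_add_le_of_krullDim_Icc_eq`,
  `ringKrullDim_stalk_add_codim_le`, `codim_le_ringKrullDim_stalk`,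
  `ringKrullDim_fiber_stalk_eq_zero_of_maximal`, `codim_le_ringKrullDim_fiber_stalk`,
  `ringKrullDim_stalk_congr`, `exists_maximal_fiber_between`, `exists_ringKrullDim_stalk_eq_natCast`.
-/

set_option autoImplicit false
universe u

open AlgebraicGeometry CategoryTheory TopologicalSpace Opposite Order

namespace Groth.Agent.Lib.Helper73

/-- A prime ideal `q ⊇ I` such that every prime between `I` and `q` equals `q` has image of
height zero in the quotient by `I`. -/
lemma height_map_quotientMk_eq_zero_of_minimal {B : Type*} [CommRing B] (I q : Ideal B)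
    [hq : q.IsPrime] (hIq : I ≤ q)
    (hmin : ∀ Q : Ideal B, Q.IsPrime → I ≤ Q → Q ≤ q → Q = q) :
    (q.map (Ideal.Quotient.mk I)).height = 0 := by
  have hq' : (q.map (Ideal.Quotient.mk I)).IsPrime := Ideal.isPrime_map_quotientMk_of_isPrime hIq
  rw [Ideal.height_eq_zero_iff]
  refine ⟨⟨hq', bot_le⟩, ?_⟩
  rintro P ⟨hP, -⟩ hPq
  have hIP : I ≤ P.comap (Ideal.Quotient.mk I) := by
    conv_lhs => rw [← Ideal.mk_ker (I := I)]
    exact Ideal.ker_le_comap _
  have h1 : P.comap (Ideal.Quotient.mk I) ≤ q := by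
    have := Ideal.comap_mono (f := Ideal.Quotient.mk I) hPq
    rwa [comap_map_quotientMk_of_le I q hIq] at this
  have h2 := hmin (P.comap (Ideal.Quotient.mk I)) (Ideal.comap_isPrime _ _) hIP h1
  rw [← h2, Ideal.map_comap_of_surjective _ Ideal.Quotient.mk_surjective]

/-- If `q` is maximal among the primes `Q` with `q0 ≤ Q ≤ q` lying over `p = q ∩ A`, then
`ht (q/q0) ≤ ht (p/p0)`, where `p0 = q0 ∩ A`. -/
theorem height_quotient_le_of_maximal_in_fiber {A B : Type*} [CommRing A] [CommRing B]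
    [Algebra A B] [IsNoetherianRing A] [IsNoetherianRing B] (q0 q : Ideal B) [hq0 : q0.IsPrime]
    [hq : q.IsPrime]
    (h : q0 ≤ q)
    (hmax : ∀ Q : Ideal B, Q.IsPrime → q0 ≤ Q → Q ≤ q → q.under A ≤ Q.under A → Q = q) :
    (q.map (Ideal.Quotient.mk q0)).height ≤
      ((q.under A).map (Ideal.Quotient.mk (q0.under A))).height := by
  have hp0p : q0.under A ≤ q.under A := Ideal.comap_mono h
  have hp' : ((q.under A).map (Ideal.Quotient.mk (q0.under A))).IsPrime :=
    Ideal.isPrime_map_quotientMk_of_isPrime hp0p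
  have hq' : (q.map (Ideal.Quotient.mk q0)).IsPrime := Ideal.isPrime_map_quotientMk_of_isPrime h
  have hlo : (q.map (Ideal.Quotient.mk q0)).LiesOver
      ((q.under A).map (Ideal.Quotient.mk (q0.under A))) :=
    liesOver_map_quotientMk (q0.under A) (q.under A) q0 q hp0p h
  have H := Ideal.height_le_height_add_of_liesOver
    ((q.under A).map (Ideal.Quotient.mk (q0.under A))) (q.map (Ideal.Quotient.mk q0))
  have hIq : ((q.under A).map (Ideal.Quotient.mk (q0.under A))).map
      (algebraMap (A ⧸ q0.under A) (B ⧸ q0)) ≤ q.map (Ideal.Quotient.mk q0) := by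
    rw [Ideal.map_le_iff_le_comap]
    exact le_of_eq ((q.map (Ideal.Quotient.mk q0)).over_def
      ((q.under A).map (Ideal.Quotient.mk (q0.under A))))
  have h0 := height_map_quotientMk_eq_zero_of_minimal _ (q.map (Ideal.Quotient.mk q0)) hIq ?_
  · rw [h0, add_zero] at H
    exact H
  · intro Q' hQ' hIQ' hQ'q
    have h1 : q0 ≤ Q'.comap (Ideal.Quotient.mk q0) := by
      conv_lhs => rw [← Ideal.mk_ker (I := q0)]
      exact Ideal.ker_le_comap _
    have h2 : Q'.comap (Ideal.Quotient.mk q0) ≤ q := by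
      have := Ideal.comap_mono (f := Ideal.Quotient.mk q0) hQ'q
      rwa [comap_map_quotientMk_of_le q0 q h] at this
    have h3 : q.under A ≤ (Q'.comap (Ideal.Quotient.mk q0)).under A := by
      intro a ha
      rw [Ideal.under, Ideal.mem_comap, Ideal.mem_comap]
      apply hIQ'
      rw [← Ideal.Quotient.algebraMap_mk_of_liesOver q0 (q0.under A)]
      exact Ideal.mem_map_of_mem _ (Ideal.mem_map_of_mem _ ha)
    have h4 := hmax _ (Ideal.comap_isPrime _ _) h1 h2 h3
    rw [← h4, Ideal.map_comap_of_surjective _ Ideal.Quotient.mk_surjective]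

set_option backward.isDefEq.respectTransparency.types false in
/-- If `z` is maximal among the points of its fibre lying in `closure {ξ}` and generizing `z`,
then `codim(ξ, z) ≤ codim(f ξ, f z)`. -/
theorem codim_le_codim_of_maximal_in_fiber {X Y : Scheme.{u}} [IsLocallyNoetherian Y]
    (f : X ⟶ Y) [LocallyOfFiniteType f] (ξ z : X) (h : ξ ⤳ z)
    (hmax : ∀ t : X, ξ ⤳ t → t ⤳ z → f t = f z → t = z) :
    codim ξ z ≤ codim (f ξ) (f z) := by
  obtain ⟨V, hV, hfzV, -⟩ :=
    exists_isAffineOpen_mem_and_subset (X := Y) (x := f z) (U := ⊤) trivial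
  obtain ⟨U, hU, hzU, hUV⟩ :=
    exists_isAffineOpen_mem_and_subset (X := X) (x := z) (U := f ⁻¹ᵁ V) hfzV
  have hξU : ξ ∈ U := h.mem_open U.isOpen hzU
  have hfξV : f ξ ∈ V := hUV hξU
  have hfh : f ξ ⤳ f z := h.map f.continuous
  let _ : Algebra Γ(Y, V) Γ(X, U) := (f.appLE V U hUV).hom.toAlgebra
  have hN : IsNoetherianRing Γ(Y, V) := IsLocallyNoetherian.component_noetherian ⟨V, hV⟩
  have hft : Algebra.FiniteType Γ(Y, V) Γ(X, U) :=
    HasRingHomProperty.appLE @LocallyOfFiniteType f inferInstance ⟨V, hV⟩ ⟨U, hU⟩ hUV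
  have hNB : IsNoetherianRing Γ(X, U) := Algebra.FiniteType.isNoetherianRing Γ(Y, V) Γ(X, U)
  let q0 : Ideal Γ(X, U) := (hU.primeIdealOf ⟨ξ, hξU⟩).asIdeal
  let q : Ideal Γ(X, U) := (hU.primeIdealOf ⟨z, hzU⟩).asIdeal
  have hq0q : q0 ≤ q := primeIdealOf_le_of_specializes hU ξ z hξU hzU h
  have hfprime : ∀ (t : X) (htU : t ∈ U),
      (hV.primeIdealOf ⟨f t, hUV htU⟩).asIdeal = (hU.primeIdealOf ⟨t, htU⟩).asIdeal.under Γ(Y, V) := by
    intro t htU
    have := IsAffineOpen.comap_primeIdealOf_appLE V hV U hU hUV htU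
    exact (congrArg PrimeSpectrum.asIdeal this).symm
  rw [codim_eq_height_chart hU ξ z hξU hzU h, codim_eq_height_chart hV (f ξ) (f z) hfξV hfzV hfh,
    hfprime ξ hξU, hfprime z hzU]
  have key := height_quotient_le_of_maximal_in_fiber (A := Γ(Y, V)) q0 q hq0q ?_
  · exact_mod_cast key
  · intro Q hQ hq0Q hQq hpQ
    let Q' : Spec Γ(X, U) := ⟨Q, hQ⟩
    let t : X := hU.fromSpec Q'
    have htU : t ∈ U := fromSpec_mem hU Q'
    have hQt : hU.primeIdealOf ⟨t, htU⟩ = Q' := primeIdealOf_fromSpec hU Q'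
    have h1 : ξ ⤳ t := by
      have h5 : hU.fromSpec (hU.primeIdealOf ⟨ξ, hξU⟩) ⤳ hU.fromSpec Q' :=
        hU.fromSpec.isOpenEmbedding.isInducing.specializes_iff.mpr
          ((PrimeSpectrum.le_iff_specializes (hU.primeIdealOf ⟨ξ, hξU⟩) Q').mp hq0Q)
      rwa [hU.fromSpec_primeIdealOf ⟨ξ, hξU⟩] at h5
    have h2 : t ⤳ z := by
      have h5 : hU.fromSpec Q' ⤳ hU.fromSpec (hU.primeIdealOf ⟨z, hzU⟩) :=
        hU.fromSpec.isOpenEmbedding.isInducing.specializes_iff.mpr
          ((PrimeSpectrum.le_iff_specializes Q' (hU.primeIdealOf ⟨z, hzU⟩)).mp hQq)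
      rwa [hU.fromSpec_primeIdealOf ⟨z, hzU⟩] at h5
    have h3 : f t = f z := by
      have e1 : (hV.primeIdealOf ⟨f t, hUV htU⟩).asIdeal = (hV.primeIdealOf ⟨f z, hfzV⟩).asIdeal := by
        rw [hfprime t htU, hfprime z hzU, hQt]
        exact le_antisymm (Ideal.comap_mono hQq) hpQ
      have e2 : hV.primeIdealOf ⟨f t, hUV htU⟩ = hV.primeIdealOf ⟨f z, hfzV⟩ := PrimeSpectrum.ext e1
      have e3 := congrArg (fun P => hV.fromSpec P) e2
      simp only [hV.fromSpec_primeIdealOf] at e3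
      exact e3
    have h4 := hmax t h1 h2 h3
    have h5 : hU.primeIdealOf ⟨t, htU⟩ = hU.primeIdealOf ⟨z, hzU⟩ := by
      congr 1
      exact Subtype.ext h4
    rw [hQt] at h5
    exact congrArg PrimeSpectrum.asIdeal h5

end Groth.Agent.Lib.Helper73

namespace Groth.Agent.Lib.Helper73

/-- Above an element of finite coheight there is a maximal element. -/
lemma exists_isMax_ge_of_coheight_ne_top {α : Type*} [Preorder α] (a : α)
    (h : Order.coheight a ≠ ⊤) : ∃ m : α, a ≤ m ∧ IsMax m := by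
  obtain ⟨n, hn⟩ := ENat.ne_top_iff_exists.mp h
  obtain ⟨p, hp1, hp2⟩ := Order.exists_series_of_coheight_eq_coe a hn.symm
  have hmaxco := Order.coheight_eq_index_of_length_eq_head_coheight (p := p)
    (by rw [hp1, ← hn, hp2]) (Fin.last _)
  have hlast0 : Order.coheight p.last = 0 := by
    have : ((Fin.last p.length).rev : ℕ) = 0 := by simp
    rw [RelSeries.last, hmaxco]
    exact_mod_cast this
  exact ⟨p.last, hp1 ▸ p.head_le_last, Order.coheight_eq_zero.mp hlast0⟩

/-- `coheight z + krullDim [x, z] ≤ coheight x`, for finite `krullDim [x, z]`. -/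
lemma coheight_add_le_of_krullDim_Icc_eq {α : Type*} [Preorder α] {x z : α} (hxz : x ≤ z) (a : ℕ)
    (ha : Order.krullDim (Set.Icc x z) = a) : Order.coheight z + a ≤ Order.coheight x := by
  let x0 : Set.Icc x z := ⟨x, le_rfl, hxz⟩
  let _ : OrderBot (Set.Icc x z) := { bot := x0, bot_le := fun t => t.2.1 }
  have hco : Order.coheight (⊥ : Set.Icc x z) = a := by
    have := Order.coheight_bot_eq_krullDim (α := Set.Icc x z)
    rw [ha] at this
    exact_mod_cast this
  obtain ⟨p, hp1, hp2⟩ := Order.exists_series_of_coheight_eq_coe (⊥ : Set.Icc x z) hco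
  let p' : LTSeries α := LTSeries.mk p.length (fun i => (p i).1) (fun i j hij => p.strictMono hij)
  have h1 : p'.head = x := congrArg Subtype.val hp1
  have h2 : p'.last ≤ z := p.last.2.2
  have h3 := coheight_last_add_length_le p'
  rw [h1, show p'.length = a from hp2] at h3
  refine le_trans ?_ h3
  gcongr

/-- `dim O_{X,z} + codim(z, x) ≤ dim O_{X,x}`. -/
theorem ringKrullDim_stalk_add_codim_le {X : Scheme.{u}} (z x : X) (h : z ⤳ x) (a : ℕ)
    (ha : codim z x = a) :
    ringKrullDim (X.presheaf.stalk z) + (a : WithBot ℕ∞) ≤ ringKrullDim (X.presheaf.stalk x) := by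
  rw [ringKrullDim_stalk_eq_coheight, ringKrullDim_stalk_eq_coheight]
  have := coheight_add_le_of_krullDim_Icc_eq (x := x) (z := z) h a ha
  exact_mod_cast this

/-- `codim(ξ, x) ≤ dim O_{X,x}`. -/
theorem codim_le_ringKrullDim_stalk {X : Scheme.{u}} (ξ x : X) :
    codim ξ x ≤ ringKrullDim (X.presheaf.stalk x) := by
  rw [ringKrullDim_stalk_eq_coheight, Order.coheight_eq_krullDim_Ici]
  exact Order.krullDim_le_of_strictMono
    (fun t : Set.Icc x ξ => (⟨t.1, t.2.1⟩ : Set.Ici x)) (fun a b hab => hab)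

/-- Maximal points of a fibre have zero-dimensional fibre local ring. -/
theorem ringKrullDim_fiber_stalk_eq_zero_of_maximal {X Y : Scheme.{u}} (f : X ⟶ Y) (z : X)
    (hmax : ∀ t : X, t ⤳ z → f t = f z → t = z) :
    ringKrullDim ((f.fiber (f.base z)).presheaf.stalk (f.asFiber z)) = 0 := by
  rw [ringKrullDim_fiber_stalk_eq_krullDim]
  have : Nonempty ↥{t : X | t ⤳ z ∧ f t = f z} := ⟨⟨z, specializes_rfl, rfl⟩⟩
  have : Subsingleton ↥{t : X | t ⤳ z ∧ f t = f z} :=
    ⟨fun a b => Subtype.ext ((hmax a.1 a.2.1 a.2.2).trans (hmax b.1 b.2.1 b.2.2).symm)⟩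
  exact Order.krullDim_eq_zero

/-- The codimension of two points of the same fibre is bounded by the dimension of the local ring
of the fibre. -/
theorem codim_le_ringKrullDim_fiber_stalk {X Y : Scheme.{u}} (f : X ⟶ Y) (t x : X)
    (hft : f t = f x) :
    codim t x ≤ ringKrullDim ((f.fiber (f.base x)).presheaf.stalk (f.asFiber x)) := by
  rw [ringKrullDim_fiber_stalk_eq_krullDim]
  have hmem : ∀ w : Set.Icc x t, w.1 ∈ {s : X | s ⤳ x ∧ f s = f x} := by
    intro w
    refine ⟨w.2.1, ?_⟩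
    have h1 : f w.1 ⤳ f x := (show w.1 ⤳ x from w.2.1).map f.continuous
    have h2 : f t ⤳ f w.1 := (show t ⤳ w.1 from w.2.2).map f.continuous
    rw [hft] at h2
    exact (Specializes.antisymm h1 h2).eq
  exact Order.krullDim_le_of_strictMono
    (fun w : Set.Icc x t => (⟨w.1, hmem w⟩ : ↥{s : X | s ⤳ x ∧ f s = f x})) (fun a b hab => hab)

/-- Stalk dimensions at equal points. -/
lemma ringKrullDim_stalk_congr {Y : Scheme.{u}} {y y' : Y} (h : y = y') :
    ringKrullDim (Y.presheaf.stalk y) = ringKrullDim (Y.presheaf.stalk y') := by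
  subst h; rfl

/-- Existence of a maximal point of the fibre, between `x` and `ξ`. -/
theorem exists_maximal_fiber_between {X Y : Scheme.{u}} (f : X ⟶ Y) [LocallyOfFiniteType f]
    (ξ x : X) (h : ξ ⤳ x) :
    ∃ z : X, ξ ⤳ z ∧ z ⤳ x ∧ f z = f x ∧ ∀ t : X, ξ ⤳ t → t ⤳ z → f t = f z → t = z := by
  obtain ⟨n, hn⟩ := exists_ringKrullDim_fiber_stalk_eq_natCast f x
  rw [ringKrullDim_fiber_stalk_eq_krullDim] at hn
  let G : Set X := {t : X | ξ ⤳ t ∧ t ⤳ x ∧ f t = f x}
  let x0 : G := ⟨x, h, specializes_rfl, rfl⟩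
  have hfin : Order.coheight x0 ≠ ⊤ := by
    have h1 : (Order.coheight x0 : WithBot ℕ∞) ≤ Order.krullDim G := Order.coheight_le_krullDim x0
    have h2 : Order.krullDim G ≤ Order.krullDim ↥{t : X | t ⤳ x ∧ f t = f x} :=
      Order.krullDim_le_of_strictMono
        (fun w : G => (⟨w.1, w.2.2.1, w.2.2.2⟩ : ↥{t : X | t ⤳ x ∧ f t = f x}))
        (fun a b hab => hab)
    rw [hn] at h2
    intro e
    rw [e] at h1
    have h3 : ((⊤ : ℕ∞) : WithBot ℕ∞) ≤ ((n : ℕ∞) : WithBot ℕ∞) := h1.trans h2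
    rw [WithBot.coe_le_coe] at h3
    exact absurd h3 (by simp)
  obtain ⟨m, hm1, hm2⟩ := exists_isMax_ge_of_coheight_ne_top x0 hfin
  refine ⟨m.1, m.2.1, m.2.2.1, m.2.2.2, ?_⟩
  intro t h1 h2 h3
  let t' : G := ⟨t, h1, h2.trans m.2.2.1, h3.trans m.2.2.2⟩
  have h4 : m ≤ t' := h2
  have h5 : t' ≤ m := hm2 h4
  exact (Specializes.antisymm (show m.1 ⤳ t from h5) h2).eq.symm

end Groth.Agent.Lib.Helper73

namespace Groth.Agent.Lib.Helper73

/-- Local rings of locally Noetherian schemes have finite dimension. -/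
lemma exists_ringKrullDim_stalk_eq_natCast {Y : Scheme.{u}} [IsLocallyNoetherian Y] (y : Y) :
    ∃ b : ℕ, ringKrullDim (Y.presheaf.stalk y) = b := by
  have h0 : ringKrullDim (Y.presheaf.stalk y) ≠ ⊥ := ringKrullDim_ne_bot
  have hT : ringKrullDim (Y.presheaf.stalk y) ≠ ⊤ := ringKrullDim_ne_top
  obtain ⟨m, hm⟩ := WithBot.ne_bot_iff_exists.mp h0
  have hm' : m ≠ ⊤ := by
    intro e; rw [e] at hm; exact hT hm.symm
  obtain ⟨n, hn⟩ := ENat.ne_top_iff_exists.mp hm'
  exact ⟨n, by rw [← hm, ← hn]; rfl⟩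

end Groth.Agent.Lib.Helper73
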