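import Mathlib
import Groth.Agent.Lib.Helper73.DimFormula.FiberCodim

/-!
# Maximal points of fibres versus maximal points of the generic fibre (helper73)

* `closure_singleton_mem_irreducibleComponents_of_maximal`,
  `exists_maximal_of_mem_irreducibleComponents`, `exists_maximal_specializes` (quasi-sober spaces).
* `exists_maximal_over_genericPoint`: a maximal point `z` of a fibre with `O_{Y,f z}` universally
  catenary and `dim O_{X,z} = dim O_{Y,f z}` is a specialization of a maximal point of `X` over the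
  generic point, with the same residual transcendence degree.
* `trdegNat_fiber_eq_resTrdegNat`, `fiberι_maximal_of_maximal`, `maximal_fiber_of_maximal`.
-/

set_option autoImplicit false
universe u

open AlgebraicGeometry CategoryTheory TopologicalSpace Opposite Order

namespace Groth.Agent.Lib.Helper73

section Top

variable {W : Type*} [TopologicalSpace W] [QuasiSober W]

/-- The closure of a point without proper generizations is an irreducible component. -/
lemma closure_singleton_mem_irreducibleComponents_of_maximal (ζ : W)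
    (hmax : ∀ t : W, t ⤳ ζ → t = ζ) : closure ({ζ} : Set W) ∈ irreducibleComponents W := by
  rw [irreducibleComponents_eq_maximals_closed]
  refine ⟨⟨isClosed_closure, isIrreducible_singleton.closure⟩, ?_⟩
  rintro T ⟨hTc, hTi⟩ hsub
  obtain ⟨t, ht⟩ := QuasiSober.sober hTi hTc
  have hζT : ζ ∈ T := hsub (subset_closure rfl)
  have h1 : t ⤳ ζ := by
    rw [specializes_iff_mem_closure, ht.def]; exact hζT
  have h2 := hmax t h1
  rw [← ht.def, h2]

/-- Irreducible components of a quasi-sober T0 space are closures of points without proper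
generizations. -/
lemma exists_maximal_of_mem_irreducibleComponents [T0Space W] (Z : Set W)
    (hZ : Z ∈ irreducibleComponents W) :
    ∃ ζ : W, closure ({ζ} : Set W) = Z ∧ ∀ t : W, t ⤳ ζ → t = ζ := by
  have hZc := isClosed_of_mem_irreducibleComponents Z hZ
  obtain ⟨ζ, hζ⟩ := QuasiSober.sober hZ.1 hZc
  refine ⟨ζ, hζ.def, ?_⟩
  intro t ht
  have h1 : Z ⊆ closure ({t} : Set W) := by
    rw [← hζ.def]
    exact ht.closure_subset
  have h2 : closure ({t} : Set W) ⊆ Z := hZ.2 isIrreducible_singleton.closure h1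
  have h3 : ζ ⤳ t := by
    rw [specializes_iff_mem_closure, hζ.def]
    exact h2 (subset_closure rfl)
  exact (ht.antisymm h3).eq

/-- Every point of a quasi-sober T0 space has a generization without proper generizations. -/
lemma exists_maximal_specializes [T0Space W] (ζ : W) :
    ∃ ζ0 : W, ζ0 ⤳ ζ ∧ ∀ t : W, t ⤳ ζ0 → t = ζ0 := by
  obtain ⟨ζ0, h1, h2⟩ := exists_maximal_of_mem_irreducibleComponents (irreducibleComponent ζ)
    (irreducibleComponent_mem_irreducibleComponents ζ)
  refine ⟨ζ0, ?_, h2⟩
  rw [specializes_iff_mem_closure, h1]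
  exact mem_irreducibleComponent

end Top

/-- If `z` is maximal in its fibre, `O_{Y,f z}` is universally catenary and
`dim O_{X,z} = dim O_{Y,f z}`, then `z` is a specialization of a maximal point `ξ` of `X` lying
over the generic point of `Y`, with the same residual transcendence degree. -/
theorem exists_maximal_over_genericPoint {X Y : Scheme.{u}} [IrreducibleSpace Y]
    [IsLocallyNoetherian Y] (f : X ⟶ Y) [LocallyOfFiniteType f] (z : X)
    (hmaxz : ∀ t : X, t ⤳ z → f t = f z → t = z)
    (hcat : CAlg.IsUniversallyCatenary (Y.presheaf.stalk (f z)))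
    (hdim : ringKrullDim (X.presheaf.stalk z) = ringKrullDim (Y.presheaf.stalk (f z))) :
    ∃ ξ : X, f ξ = genericPoint Y ∧ (∀ t : X, t ⤳ ξ → t = ξ) ∧ ξ ⤳ z ∧
      resTrdegNat f ξ = resTrdegNat f z := by
  have hLN : IsLocallyNoetherian X := LocallyOfFiniteType.isLocallyNoetherian f
  obtain ⟨b0, hb0⟩ := exists_ringKrullDim_stalk_eq_natCast (f z)
  obtain ⟨ξ, hξz, hξmax, hξc⟩ := exists_maximal_codim_eq_stalk z
  obtain ⟨a, b, ha, hb, hab⟩ := codim_add_resTrdeg_eq_local f ξ z hξz hcat
  rw [hdim, hb0, ha] at hξc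
  have hab0 : a = b0 := by exact_mod_cast hξc
  have hale : a ≤ b := by
    have := codim_le_codim_of_maximal_in_fiber f ξ z hξz (fun t _ htz hft => hmaxz t htz hft)
    rw [ha, hb] at this
    exact_mod_cast this
  have hble : b ≤ b0 := by
    have := codim_le_ringKrullDim_stalk (f ξ) (f z)
    rw [hb, hb0] at this
    exact_mod_cast this
  rw [resTrdeg_eq_resTrdegNat, resTrdeg_eq_resTrdegNat] at hab
  have e1 : a + resTrdegNat f z = b + resTrdegNat f ξ := by exact_mod_cast hab
  have hfξz : f ξ ⤳ f z := hξz.map f.continuous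
  have hco := coheight_add_le_of_krullDim_Icc_eq (x := f z) (z := f ξ) hfξz b hb
  have hcoz : Order.coheight (f z) = b0 := by
    rw [ringKrullDim_stalk_eq_coheight] at hb0
    exact_mod_cast hb0
  have hbb0 : b = b0 := by omega
  rw [hcoz, hbb0] at hco
  have hco0 : Order.coheight (f ξ) = 0 := by
    by_contra hne
    have h1 : 1 ≤ Order.coheight (f ξ) := Order.one_le_iff_ne_zero.mpr hne
    have h2 : (1 : ℕ∞) + b0 ≤ b0 := le_trans (by gcongr) hco
    have h3 : ((1 + b0 : ℕ) : ℕ∞) ≤ (b0 : ℕ∞) := by push_cast; exact h2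
    have h4 : 1 + b0 ≤ b0 := by exact_mod_cast h3
    omega
  have hismax : IsMax (f ξ) := Order.coheight_eq_zero.mp hco0
  have hη : f ξ = genericPoint Y := by
    have h1 : f ξ ≤ genericPoint Y := genericPoint_specializes (f ξ)
    have h2 : genericPoint Y ≤ f ξ := hismax h1
    exact (Specializes.antisymm (show f ξ ⤳ genericPoint Y from h2)
      (show genericPoint Y ⤳ f ξ from h1)).eq
  refine ⟨ξ, hη, hξmax, hξz, ?_⟩
  omega

end Groth.Agent.Lib.Helper73

namespace Groth.Agent.Lib.Helper73

/-- The transcendence degree dimension function of a fibre, in terms of `resTrdegNat`. -/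
lemma trdegNat_fiber_eq_resTrdegNat {X Y : Scheme.{u}} (f : X ⟶ Y) [LocallyOfFiniteType f] (y : Y)
    (ζ : f.fiber y) :
    trdegNat (k := Y.residueField y) (f.fiberToSpecResidueField y) ζ =
      resTrdegNat f (f.fiberι y ζ) := by
  have h1 := trdegNat_fiber_eq_resTrdeg f y ζ
  rw [resTrdeg_eq_resTrdegNat] at h1
  exact_mod_cast h1

/-- A maximal point of the fibre (as a scheme) is maximal among the points of `X` over `y`. -/
lemma fiberι_maximal_of_maximal {X Y : Scheme.{u}} (f : X ⟶ Y) (y : Y) (ζ : f.fiber y)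
    (hmax : ∀ t : f.fiber y, t ⤳ ζ → t = ζ) :
    f (f.fiberι y ζ) = y ∧ ∀ t : X, t ⤳ f.fiberι y ζ → f t = y → t = f.fiberι y ζ := by
  have hfz : f (f.fiberι y ζ) = y := by
    have : f.fiberι y ζ ∈ Set.range (f.fiberι y) := ⟨_, rfl⟩
    rw [f.range_fiberι y] at this
    exact this
  refine ⟨hfz, ?_⟩
  intro t ht hft
  have htr : t ∈ Set.range (f.fiberι y) := by rw [f.range_fiberι y]; exact hft
  obtain ⟨τ, rfl⟩ := htr
  rw [(f.fiberι y).isEmbedding.isInducing.specializes_iff] at ht
  rw [hmax τ ht]

/-- A maximal point of `X` is maximal in its fibre (as a scheme). -/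
lemma maximal_fiber_of_maximal {X Y : Scheme.{u}} (f : X ⟶ Y) (y : Y) (ξ : X) (hξ : f ξ = y)
    (hmax : ∀ t : X, t ⤳ ξ → t = ξ) :
    ∃ ζ : f.fiber y, f.fiberι y ζ = ξ ∧ ∀ t : f.fiber y, t ⤳ ζ → t = ζ := by
  refine ⟨(f.fiberHomeo y).symm ⟨ξ, hξ⟩, f.fiberι_fiberHomeo_symm y ⟨ξ, hξ⟩, ?_⟩
  intro t ht
  rw [← (f.fiberι y).isEmbedding.isInducing.specializes_iff,
    f.fiberι_fiberHomeo_symm y ⟨ξ, hξ⟩] at ht
  apply (f.fiberι y).isEmbedding.injective
  rw [f.fiberι_fiberHomeo_symm y ⟨ξ, hξ⟩]
  exact hmax _ ht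

end Groth.Agent.Lib.Helper73
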