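import Mathlib
import Groth.Agent.Lib.Helper73.DimFormula.GenericFibre

/-!
# Chevalley's upper semicontinuity of fibre dimension (helper73)

* `isOpen_singleton_of_isClosed_of_maximal`, `finite_maximal_generizations` (topology).
* `fibreDimAt_eq_coheight_add`, `fibreDimAt_le_of_forall_generization`, `resTrdegNat_le_fibreDimAt`.
* `quasiFiniteAt_iff_fibreDimAt_le_zero`: quasi-finite at `x` iff the fibre has dimension `0` at `x`.
* `fibreDimAt_eq_of_isOpenImmersion_square`: the fibre dimension is local on source and target.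
* `specEval`, `ker_specEval`, `exists_ratio_specEval`, `residueFieldMap_specEval`, `resTrdeg_SpecMap`:
  residue field extensions of morphisms of affine schemes.
* `fibreDimAt_comp_le`, `fibreDimAt_le_of_one_le_resTrdegNat`, `ringKrullDim_fiber_stalk_add_one_le`,
  `finite_maximal_fiber_generizations`.
* `trdeg_quotient_polynomial_le_one`, `one_le_trdeg_quotient_polynomial`,
  `exists_transcendental_of_trdeg_ne_zero`.
* `specPolyProj`, `specPolyMap`, `exists_specPolyMap_fibreDimAt_le`, `exists_open_fibreDimAt_le_affine`.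
* `isOpen_fibreDimAt_le`: **Chevalley**: `{x | fibreDimAt f x ≤ n}` is open for `f` locally of finite
  type.
-/

set_option autoImplicit false
universe u

open AlgebraicGeometry CategoryTheory TopologicalSpace Opposite Order

namespace Groth.Agent.Lib.Helper73

section Top

variable {W : Type*} [TopologicalSpace W] [QuasiSober W]

/-- In a quasi-sober space, a closed point without proper generizations which has a Noetherian
open neighbourhood is an open point. -/
lemma isOpen_singleton_of_isClosed_of_maximal (z : W) (hcl : IsClosed ({z} : Set W))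
    (hmax : ∀ t : W, t ⤳ z → t = z) (N : Set W) (hN : IsOpen N) (hzN : z ∈ N)
    [NoetherianSpace ↥N] : IsOpen ({z} : Set W) := by
  have hqs : QuasiSober ↥N := hN.isOpenEmbedding_subtypeVal.quasiSober
  let z' : ↥N := ⟨z, hzN⟩
  have hmax' : ∀ t : ↥N, t ⤳ z' → t = z' := by
    intro t ht
    have := hmax t.1 (subtype_specializes_iff t z' |>.mp ht)
    exact Subtype.ext this
  have hcl' : closure ({z'} : Set ↥N) = {z'} := by
    apply IsClosed.closure_eq
    have : ({z'} : Set ↥N) = Subtype.val ⁻¹' ({z} : Set W) := by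
      ext t; simp [z', Subtype.ext_iff]
    rw [this]
    exact hcl.preimage continuous_subtype_val
  have hcomp : ({z'} : Set ↥N) ∈ irreducibleComponents ↥N := by
    have := closure_singleton_mem_irreducibleComponents_of_maximal z' hmax'
    rwa [hcl'] at this
  have hfin : (irreducibleComponents ↥N).Finite := NoetherianSpace.finite_irreducibleComponents
  have hcompl : ({z'} : Set ↥N)ᶜ = ⋃₀ (irreducibleComponents ↥N \ {{z'}}) := by
    ext y
    simp only [Set.mem_compl_iff, Set.mem_singleton_iff, Set.mem_sUnion, Set.mem_diff]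
    constructor
    · intro hy
      refine ⟨irreducibleComponent y, ⟨irreducibleComponent_mem_irreducibleComponents y, ?_⟩,
        mem_irreducibleComponent⟩
      intro h
      have : y ∈ irreducibleComponent y := mem_irreducibleComponent
      rw [h] at this
      exact hy this
    · rintro ⟨Z, ⟨hZ, hZne⟩, hyZ⟩ hyz
      apply hZne
      rw [hyz] at hyZ
      have hsub : ({z'} : Set ↥N) ⊆ Z := Set.singleton_subset_iff.mpr hyZ
      exact (Set.Subset.antisymm (hcomp.2 hZ.1 hsub) hsub)
  have hopen' : IsOpen ({z'} : Set ↥N) := by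
    rw [← isClosed_compl_iff, hcompl]
    rw [Set.sUnion_eq_biUnion]
    exact (hfin.subset Set.diff_subset).isClosed_biUnion
      (fun Z hZ => isClosed_of_mem_irreducibleComponents Z hZ.1)
  have : ({z} : Set W) = Subtype.val '' ({z'} : Set ↥N) := by simp [z']
  rw [this]
  exact hN.isOpenEmbedding_subtypeVal.isOpenMap _ hopen'

end Top

/-- `fibreDimAt f x = coheight + trdeg` computed in the fibre. -/
theorem fibreDimAt_eq_coheight_add {X Y : Scheme.{u}} (f : X ⟶ Y) [LocallyOfFiniteType f] (x : X) :
    FlatMor.fibreDimAt f x = ((Order.coheight (f.asFiber x) +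
      (trdegNat (k := Y.residueField (f x)) (f.fiberToSpecResidueField (f x)) (f.asFiber x) : ℕ∞) :
        ℕ∞) : WithBot ℕ∞) := by
  unfold FlatMor.fibreDimAt
  rw [localDim_eq (k := Y.residueField (f x)) (f.fiberToSpecResidueField (f x)) (f.asFiber x),
    ringKrullDim_stalk_eq_coheight]
  push_cast
  rfl

/-- The fibre dimension at `x` is bounded by any bound for the residual transcendence degrees of
the generizations of `x` in its fibre. -/
theorem fibreDimAt_le_of_forall_generization {X Y : Scheme.{u}} (f : X ⟶ Y)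
    [LocallyOfFiniteType f] (x : X) (N : ℕ)
    (h : ∀ η : X, η ⤳ x → f η = f x → resTrdegNat f η ≤ N) : FlatMor.fibreDimAt f x ≤ N := by
  rw [fibreDimAt_eq_coheight_add]
  have hδ := isDimFun_trdegNat (k := Y.residueField (f x)) (f.fiberToSpecResidueField (f x))
  have := hδ.coheight_add_le (x := f.asFiber x) (N := (N : ℕ∞)) ?_
  · exact_mod_cast this
  · intro η hη
    rw [trdegNat_fiber_eq_resTrdegNat]
    have h1 : f.fiberι (f x) η ⤳ x := by
      have := hη.map (f.fiberι (f x)).continuous
      rwa [f.fiberι_asFiber x] at this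
    have h2 : f (f.fiberι (f x) η) = f x := by
      have : f.fiberι (f x) η ∈ Set.range (f.fiberι (f x)) := ⟨_, rfl⟩
      rw [f.range_fiberι (f x)] at this
      exact this
    exact_mod_cast h _ h1 h2

/-- The residual transcendence degree is bounded by the fibre dimension. -/
theorem resTrdegNat_le_fibreDimAt {X Y : Scheme.{u}} (f : X ⟶ Y) [LocallyOfFiniteType f] (x : X) :
    ((resTrdegNat f x : ℕ) : WithBot ℕ∞) ≤ FlatMor.fibreDimAt f x := by
  rw [fibreDimAt_eq]
  obtain ⟨n, hn⟩ := exists_ringKrullDim_fiber_stalk_eq_natCast f x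
  rw [hn]
  exact_mod_cast Nat.le_add_left _ _

/-- A morphism locally of finite type is quasi-finite at `x` iff its fibre has dimension `0`
at `x`. -/
theorem quasiFiniteAt_iff_fibreDimAt_le_zero {X Y : Scheme.{u}} (f : X ⟶ Y)
    [LocallyOfFiniteType f] (x : X) :
    f.QuasiFiniteAt x ↔ FlatMor.fibreDimAt f x ≤ 0 := by
  rw [Scheme.Hom.quasiFiniteAt_iff_isOpen_singleton_asFiber, fibreDimAt_eq_coheight_add]
  have hδ := isDimFun_trdegNat (k := Y.residueField (f x)) (f.fiberToSpecResidueField (f x))
  constructor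
  · intro hopen
    have h1 : trdegNat (k := Y.residueField (f x)) (f.fiberToSpecResidueField (f x))
        (f.asFiber x) = 0 := by
      by_contra hne
      obtain ⟨y, hy, -, hne'⟩ := hδ.exists_specializes_of_ne_zero (f.asFiber x) {f.asFiber x} hopen
        rfl hne
      exact hne' hy
    have h2 : Order.coheight (f.asFiber x) = 0 := by
      rw [Order.coheight_eq_zero]
      intro t ht
      have ht' : t ⤳ f.asFiber x := ht
      have : t ∈ ({f.asFiber x} : Set _) := ht'.mem_open hopen rfl
      rw [this]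
    rw [h1, h2]
    simp
  · intro hle
    have hle' : Order.coheight (f.asFiber x) +
      (trdegNat (k := Y.residueField (f x)) (f.fiberToSpecResidueField (f x)) (f.asFiber x) : ℕ∞)
        ≤ 0 := by exact_mod_cast hle
    have h1 : Order.coheight (f.asFiber x) = 0 := by
      apply le_antisymm _ zero_le
      exact le_trans le_self_add hle'
    have h2 : trdegNat (k := Y.residueField (f x)) (f.fiberToSpecResidueField (f x))
        (f.asFiber x) = 0 := by
      have : (trdegNat (k := Y.residueField (f x)) (f.fiberToSpecResidueField (f x))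
        (f.asFiber x) : ℕ∞) ≤ 0 := le_trans le_add_self hle'
      have h5 : trdegNat (k := Y.residueField (f x)) (f.fiberToSpecResidueField (f x))
        (f.asFiber x) ≤ 0 := by exact_mod_cast this
      omega
    have hmax : ∀ t, t ⤳ f.asFiber x → t = f.asFiber x := by
      intro t ht
      have hismax : IsMax (f.asFiber x) := Order.coheight_eq_zero.mp h1
      have h3 : f.asFiber x ≤ t := ht
      have h4 : t ≤ f.asFiber x := hismax h3
      exact (Specializes.antisymm (show f.asFiber x ⤳ t from h4) ht).eq.symm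
    have hcl : IsClosed ({f.asFiber x} : Set (f.fiber (f x))) := by
      rw [← closure_eq_iff_isClosed]
      apply Set.Subset.antisymm _ subset_closure
      intro y hy
      have hy' : f.asFiber x ⤳ y := specializes_iff_mem_closure.mpr hy
      by_contra hne
      have := hδ.lt_of_specializes hy' (fun e => hne (by rw [← e]; rfl))
      omega
    obtain ⟨N, hN, hxN, hNoeth⟩ := exists_open_noetherianSpace (k := Y.residueField (f x))
      (f.fiberToSpecResidueField (f x)) (f.asFiber x)
    exact isOpen_singleton_of_isClosed_of_maximal _ hcl hmax N hN hxN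

end Groth.Agent.Lib.Helper73

namespace Groth.Agent.Lib.Helper73

/-- The fibre dimension at a point is local on the source and on the target. -/
theorem fibreDimAt_eq_of_isOpenImmersion_square {U V X S : Scheme.{u}} (j : U ⟶ X) (i : V ⟶ S)
    [IsOpenImmersion j] [IsOpenImmersion i] (f' : U ⟶ V) (f : X ⟶ S) (hsq : f' ≫ i = j ≫ f)
    [LocallyOfFiniteType f] [LocallyOfFiniteType f'] (u : U) :
    FlatMor.fibreDimAt f' u = FlatMor.fibreDimAt f (j u) := by
  have hpt : ∀ a : U, i (f' a) = f (j a) := fun a => by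
    rw [← Scheme.Hom.comp_apply, ← Scheme.Hom.comp_apply, hsq]
  rw [fibreDimAt_eq, fibreDimAt_eq, ringKrullDim_fiber_stalk_eq_krullDim,
    ringKrullDim_fiber_stalk_eq_krullDim]
  congr 1
  · symm
    refine krullDim_subtype_eq_of_monotone (fun a : U => j a) ?_ _ _ ?_ ?_
    · intro a a'
      exact j.isOpenEmbedding.isInducing.specializes_iff
    · rintro a ⟨ha1, ha2⟩
      refine ⟨ha1.map j.continuous, ?_⟩
      change f (j a) = f (j u)
      rw [← hpt, ← hpt]
      exact congrArg _ ha2
    · rintro b ⟨hb1, hb2⟩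
      have hbr : b ∈ Set.range j := hb1.mem_open j.isOpenEmbedding.isOpen_range ⟨u, rfl⟩
      obtain ⟨a, rfl⟩ := hbr
      refine ⟨a, ⟨j.isOpenEmbedding.isInducing.specializes_iff.mp hb1, ?_⟩, rfl⟩
      apply i.isOpenEmbedding.injective
      change i (f' a) = i (f' u)
      rw [hpt, hpt]
      exact hb2
  · have h1 : resTrdeg f' u = resTrdeg f (j u) := by
      rw [← resTrdeg_comp_of_bijective_right f' i u
        (residueFieldMap_bijective_of_isPreimmersion i _), resTrdeg_congr hsq u,
        resTrdeg_comp_of_bijective_left j f u (residueFieldMap_bijective_of_isPreimmersion j _)]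
    unfold resTrdegNat
    rw [h1]

end Groth.Agent.Lib.Helper73

namespace Groth.Agent.Lib.Helper73

/-- Evaluation of elements of `R` in the residue field at a point of `Spec R`. -/
noncomputable def specEval (R : CommRingCat.{u}) (x : Spec R) : R →+* (Spec R).residueField x :=
  ((Scheme.ΓSpecIso R).inv ≫ (Spec R).Γevaluation x).hom

set_option backward.isDefEq.respectTransparency.types false in
lemma specEval_eq (R : CommRingCat.{u}) (x : Spec R) :
    specEval R x = (Scheme.Spec.residueFieldIso R x).inv.hom.comp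
      (algebraMap R x.asIdeal.ResidueField) := by
  have h := Scheme.Spec.algebraMap_residueFieldIso_inv R x
  unfold specEval
  rw [← CommRingCat.hom_ofHom (algebraMap R x.asIdeal.ResidueField), ← CommRingCat.hom_comp, h]
  rfl

set_option backward.isDefEq.respectTransparency.types false in
lemma ker_specEval (R : CommRingCat.{u}) (x : Spec R) :
    RingHom.ker (specEval R x) = x.asIdeal := by
  rw [specEval_eq]
  ext a
  simp only [RingHom.mem_ker, RingHom.comp_apply]
  have hinj : Function.Injective (Scheme.Spec.residueFieldIso R x).inv.hom :=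
    (ConcreteCategory.bijective_of_isIso (Scheme.Spec.residueFieldIso R x).inv).1
  rw [map_eq_zero_iff _ hinj]
  exact Ideal.algebraMap_residueField_eq_zero

lemma exists_ratio_specEval (R : CommRingCat.{u}) (x : Spec R) (z : (Spec R).residueField x) :
    ∃ a b : R, specEval R x b ≠ 0 ∧ z * specEval R x b = specEval R x a := by
  obtain ⟨a, b, hb, hab⟩ := exists_ratio_evaluation (isAffineOpen_top (Spec R)) x trivial z
  refine ⟨(Scheme.ΓSpecIso R).hom a, (Scheme.ΓSpecIso R).hom b, ?_, ?_⟩
  · unfold specEval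
    simp only [CommRingCat.hom_comp, RingHom.comp_apply]
    rw [← CommRingCat.comp_apply (Scheme.ΓSpecIso R).hom, Iso.hom_inv_id]
    exact hb
  · unfold specEval
    simp only [CommRingCat.hom_comp, RingHom.comp_apply]
    rw [← CommRingCat.comp_apply (Scheme.ΓSpecIso R).hom, Iso.hom_inv_id,
      ← CommRingCat.comp_apply (Scheme.ΓSpecIso R).hom, Iso.hom_inv_id]
    exact hab

lemma residueFieldMap_specEval {R R' : CommRingCat.{u}} (φ : R ⟶ R') (x : Spec R') (r : R) :
    (Spec.map φ).residueFieldMap x (specEval R ((Spec.map φ) x) r) = specEval R' x (φ r) := by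
  have h1 := Scheme.ΓSpecIso_inv_naturality φ
  have h2 : (Spec.map φ).appTop ((Scheme.ΓSpecIso R).inv r) = (Scheme.ΓSpecIso R').inv (φ r) := by
    have := congrArg (fun ψ => ψ.hom r) h1
    exact this.symm
  have h3 := Scheme.evaluation_naturality_apply (Spec.map φ) (V := ⊤) x trivial
    ((Scheme.ΓSpecIso R).inv r)
  change (Spec.map φ).residueFieldMap x ((Spec R).evaluation ⊤ ((Spec.map φ) x) trivial
    ((Scheme.ΓSpecIso R).inv r)) = (Spec R').evaluation ⊤ x trivial ((Scheme.ΓSpecIso R').inv (φ r))
  rw [h3, ← h2]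
  rfl

set_option backward.isDefEq.respectTransparency.types false in
/-- The residual transcendence degree of a morphism of affine schemes. -/
theorem resTrdeg_SpecMap {R R' : Type u} [CommRing R] [CommRing R'] [Algebra R R']
    (x : Spec (CommRingCat.of R')) (p : Ideal R) (q : Ideal R') [p.IsPrime] [q.IsPrime]
    [q.LiesOver p] (hq : q = x.asIdeal) :
    resTrdeg (Spec.map (CommRingCat.ofHom (algebraMap R R'))) x = Algebra.trdeg (R ⧸ p) (R' ⧸ q) := by
  unfold resTrdeg
  let f := Spec.map (CommRingCat.ofHom (algebraMap R R'))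
  let _ : Algebra ((Spec (CommRingCat.of R)).residueField (f x))
      ((Spec (CommRingCat.of R')).residueField x) := (f.residueFieldMap x).hom.toAlgebra
  refine trdeg_eq_trdeg_quotient_of_ratio (specEval (CommRingCat.of R) (f x))
    (specEval (CommRingCat.of R') x) ?_ (exists_ratio_specEval _ _) (exists_ratio_specEval _ _)
    p q ?_ ?_
  · intro d
    exact residueFieldMap_specEval (CommRingCat.ofHom (algebraMap R R')) x d
  · rw [ker_specEval, q.over_def p, hq]
    rfl
  · rw [ker_specEval, hq]

end Groth.Agent.Lib.Helper73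

namespace Groth.Agent.Lib.Helper73

/-- If the fibres of `g` have dimension `≤ n` at all generizations of `x` and the residual
transcendence degrees of `π` are bounded by `c`, the fibre of `g ≫ π` has dimension `≤ n + c`
at `x`. -/
theorem fibreDimAt_comp_le {X P S : Scheme.{u}} (g : X ⟶ P) (π : P ⟶ S)
    [LocallyOfFiniteType g] [LocallyOfFiniteType π] (n c : ℕ)
    (hπ : ∀ w : P, resTrdegNat π w ≤ c) (x : X)
    (hx : ∀ η : X, η ⤳ x → FlatMor.fibreDimAt g η ≤ n) :
    FlatMor.fibreDimAt (g ≫ π) x ≤ ((n + c : ℕ) : WithBot ℕ∞) := by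
  refine fibreDimAt_le_of_forall_generization (g ≫ π) x (n + c) ?_
  intro η hη _
  rw [resTrdegNat_comp g π η]
  have h1 := (resTrdegNat_le_fibreDimAt g η).trans (hx η hη)
  have h2 : resTrdegNat g η ≤ n := by exact_mod_cast h1
  have h3 := hπ (g η)
  omega

/-- Generizations inside the fibre of `g` are generizations inside the fibre of `g ≫ π`. -/
lemma ringKrullDim_fiber_stalk_le_comp {X P S : Scheme.{u}} (g : X ⟶ P) (π : P ⟶ S) (x : X) :
    ringKrullDim ((g.fiber (g.base x)).presheaf.stalk (g.asFiber x)) ≤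
      ringKrullDim (((g ≫ π).fiber ((g ≫ π).base x)).presheaf.stalk ((g ≫ π).asFiber x)) := by
  rw [ringKrullDim_fiber_stalk_eq_krullDim, ringKrullDim_fiber_stalk_eq_krullDim]
  refine Order.krullDim_le_of_strictMono
    (fun w : ↥{t : X | t ⤳ x ∧ g t = g x} =>
      (⟨w.1, w.2.1, ?_⟩ : ↥{t : X | t ⤳ x ∧ (g ≫ π) t = (g ≫ π) x})) (fun a b hab => hab)
  change π (g w.1) = π (g x)
  rw [w.2.2]

/-- Cutting down by one transcendental coordinate lowers the fibre dimension. -/
theorem fibreDimAt_le_of_one_le_resTrdegNat {X P S : Scheme.{u}} (g : X ⟶ P) (π : P ⟶ S)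
    [LocallyOfFiniteType g] [LocallyOfFiniteType π] (x : X) (h1 : 1 ≤ resTrdegNat π (g x))
    (d : ℕ) (hd : FlatMor.fibreDimAt (g ≫ π) x ≤ ((d + 1 : ℕ) : WithBot ℕ∞)) :
    FlatMor.fibreDimAt g x ≤ (d : WithBot ℕ∞) := by
  rw [fibreDimAt_eq] at hd ⊢
  obtain ⟨m, hm⟩ := exists_ringKrullDim_fiber_stalk_eq_natCast (g ≫ π) x
  obtain ⟨m', hm'⟩ := exists_ringKrullDim_fiber_stalk_eq_natCast g x
  have hle := ringKrullDim_fiber_stalk_le_comp g π x
  rw [hm, hm'] at hle
  rw [hm] at hd
  rw [hm']
  have hle' : m' ≤ m := by exact_mod_cast hle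
  have hd' : m + resTrdegNat (g ≫ π) x ≤ d + 1 := by exact_mod_cast hd
  rw [resTrdegNat_comp g π x] at hd'
  have : m' + resTrdegNat g x ≤ d := by omega
  exact_mod_cast this

end Groth.Agent.Lib.Helper73

namespace Groth.Agent.Lib.Helper73

/-- If no maximal point of the fibre of `g ≫ π` through `x` generizing `x` lies in the fibre of `g`
through `x`, the local ring of the fibre of `g` at `x` has smaller dimension. -/
theorem ringKrullDim_fiber_stalk_add_one_le {X P S : Scheme.{u}} (g : X ⟶ P) (π : P ⟶ S)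
    [LocallyOfFiniteType g] [LocallyOfFiniteType π] (x : X)
    (hcut : ∀ z : X, z ⤳ x → (g ≫ π) z = (g ≫ π) x →
      (∀ t' : X, t' ⤳ z → (g ≫ π) t' = (g ≫ π) z → t' = z) → g z ≠ g x) :
    ringKrullDim ((g.fiber (g.base x)).presheaf.stalk (g.asFiber x)) + 1 ≤
      ringKrullDim (((g ≫ π).fiber ((g ≫ π).base x)).presheaf.stalk ((g ≫ π).asFiber x)) := by
  rw [ringKrullDim_fiber_stalk_eq_krullDim, ringKrullDim_fiber_stalk_eq_krullDim]
  have hne : Nonempty ↥{t : X | t ⤳ x ∧ g t = g x} := ⟨⟨x, specializes_rfl, rfl⟩⟩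
  rw [Order.krullDim_eq_iSup_length, ← WithBot.coe_one, ← WithBot.coe_add, ENat.iSup_add]
  rw [WithBot.coe_iSup (OrderTop.bddAbove _)]
  refine iSup_le fun p => ?_
  -- extend the chain `p` by a maximal generization of its last element
  obtain ⟨n, hn⟩ := exists_ringKrullDim_fiber_stalk_eq_natCast (g ≫ π) p.last.1
  obtain ⟨z, hfz, hzl, hzmax, -⟩ := exists_maximal_fiber_generization (g ≫ π) p.last.1 n hn
  have hlastf : (g ≫ π) p.last.1 = (g ≫ π) x := by
    change π (g p.last.1) = π (g x)
    rw [p.last.2.2]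
  have hzx : z ⤳ x := hzl.trans p.last.2.1
  have hzf : (g ≫ π) z = (g ≫ π) x := hfz.trans hlastf
  have hgz : g z ≠ g x := hcut z hzx hzf (fun t' ht' hft' => hzmax t' ht' hft')
  have hzne : z ≠ p.last.1 := fun e => hgz (by rw [e]; exact p.last.2.2)
  let G : Set X := {t : X | t ⤳ x ∧ (g ≫ π) t = (g ≫ π) x}
  have hmem : ∀ i, (p i).1 ∈ G := fun i => ⟨(p i).2.1, by
    change π (g (p i).1) = π (g x)
    rw [(p i).2.2]⟩
  let p' : LTSeries G := LTSeries.mk p.length (fun i => ⟨(p i).1, hmem i⟩)
    (fun i j hij => p.strictMono hij)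
  let z' : G := ⟨z, hzx, hzf⟩
  have hlt : p'.last < z' := by
    refine lt_of_le_not_ge (show p.last.1 ≤ z from hzl) ?_
    intro e
    have e' : p.last.1 ⤳ z := e
    exact hzne (Specializes.antisymm hzl e').eq
  have hlen := Order.LTSeries.length_le_krullDim (p'.snoc z' hlt)
  rw [RelSeries.snoc_length] at hlen
  refine le_trans ?_ hlen
  push_cast
  rfl

end Groth.Agent.Lib.Helper73

namespace Groth.Agent.Lib.Helper73

/-- In a quasi-sober T0 space, a point with a Noetherian open neighbourhood has only finitely many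
maximal generizations. -/
lemma finite_maximal_generizations {W : Type*} [TopologicalSpace W] [QuasiSober W] [T0Space W]
    (x : W) (N : Set W) (hN : IsOpen N) (hxN : x ∈ N) [NoetherianSpace ↥N] :
    {ζ : W | ζ ⤳ x ∧ ∀ t : W, t ⤳ ζ → t = ζ}.Finite := by
  have hqs : QuasiSober ↥N := hN.isOpenEmbedding_subtypeVal.quasiSober
  have hfin : (irreducibleComponents ↥N).Finite := NoetherianSpace.finite_irreducibleComponents
  have hfin' : Finite ↥(irreducibleComponents ↥N) := hfin
  rw [← Set.finite_coe_iff]
  let Φ : ↥{ζ : W | ζ ⤳ x ∧ ∀ t : W, t ⤳ ζ → t = ζ} → ↥(irreducibleComponents ↥N) := fun ζ =>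
    ⟨closure {(⟨ζ.1, ζ.2.1.mem_open hN hxN⟩ : ↥N)},
      closure_singleton_mem_irreducibleComponents_of_maximal _ (by
        intro t ht
        have := ζ.2.2 t.1 (subtype_specializes_iff t _ |>.mp ht)
        exact Subtype.ext this)⟩
  refine Finite.of_injective Φ ?_
  intro ζ1 ζ2 h12
  have h := congrArg Subtype.val h12
  change closure {(⟨ζ1.1, _⟩ : ↥N)} = closure {(⟨ζ2.1, _⟩ : ↥N)} at h
  have h1 : (⟨ζ1.1, ζ1.2.1.mem_open hN hxN⟩ : ↥N) ⤳ ⟨ζ2.1, ζ2.2.1.mem_open hN hxN⟩ := by
    rw [specializes_iff_mem_closure, h]; exact subset_closure rfl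
  have h2 : (⟨ζ2.1, ζ2.2.1.mem_open hN hxN⟩ : ↥N) ⤳ ⟨ζ1.1, ζ1.2.1.mem_open hN hxN⟩ := by
    rw [specializes_iff_mem_closure, ← h]; exact subset_closure rfl
  have h1' : ζ1.1 ⤳ ζ2.1 := h1.map continuous_subtype_val
  have h2' : ζ2.1 ⤳ ζ1.1 := h2.map continuous_subtype_val
  exact Subtype.ext (h1'.antisymm h2').eq

/-- A point has only finitely many maximal generizations inside its fibre. -/
theorem finite_maximal_fiber_generizations {X S : Scheme.{u}} (f : X ⟶ S) [LocallyOfFiniteType f]
    (x : X) :
    {z : X | z ⤳ x ∧ f z = f x ∧ ∀ t' : X, t' ⤳ z → f t' = f z → t' = z}.Finite := by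
  obtain ⟨N, hN, hxN, hNoeth⟩ := exists_open_noetherianSpace (k := S.residueField (f x))
    (f.fiberToSpecResidueField (f x)) (f.asFiber x)
  have hfin := finite_maximal_generizations (f.asFiber x) N hN hxN
  refine (hfin.image (f.fiberι (f x))).subset ?_
  rintro z ⟨hzx, hfz, hzmax⟩
  have hzr : z ∈ Set.range (f.fiberι (f x)) := by rw [f.range_fiberι (f x)]; exact hfz
  obtain ⟨ζ, rfl⟩ := hzr
  refine ⟨ζ, ⟨?_, ?_⟩, rfl⟩
  · rw [← (f.fiberι (f x)).isEmbedding.isInducing.specializes_iff, f.fiberι_asFiber x]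
    exact hzx
  · intro t ht
    have h1 : f.fiberι (f x) t ⤳ f.fiberι (f x) ζ := ht.map (f.fiberι (f x)).continuous
    have h2 : f (f.fiberι (f x) t) = f (f.fiberι (f x) ζ) := by
      have : f.fiberι (f x) t ∈ Set.range (f.fiberι (f x)) := ⟨_, rfl⟩
      rw [f.range_fiberι (f x)] at this
      exact this.trans hfz.symm
    exact (f.fiberι (f x)).isEmbedding.injective (hzmax _ h1 h2)

end Groth.Agent.Lib.Helper73

namespace Groth.Agent.Lib.Helper73

open Polynomial in
/-- Evaluating at the class of `X` the reduction of a polynomial gives its class. -/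
lemma aeval_mk_X_map_mk {A : Type u} [CommRing A] (p : Ideal A)
    (P : Ideal A[X]) [P.LiesOver p] (G : A[X]) :
    Polynomial.aeval (Ideal.Quotient.mk P X) (G.map (Ideal.Quotient.mk p)) =
      Ideal.Quotient.mk P G := by
  rw [Polynomial.aeval_def, Polynomial.eval₂_map]
  have h1 : (algebraMap (A ⧸ p) (A[X] ⧸ P)).comp (Ideal.Quotient.mk p) =
      (Ideal.Quotient.mk P).comp Polynomial.C := by
    ext a
    simp only [RingHom.comp_apply]
    rw [Ideal.Quotient.algebraMap_mk_of_liesOver]
    rfl
  rw [h1, ← Polynomial.hom_eval₂, Polynomial.eval₂_C_X]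

open Polynomial in
/-- The residue domains of a polynomial ring in one variable have residual transcendence degree
at most one. -/
theorem trdeg_quotient_polynomial_le_one {A : Type u} [CommRing A] (p : Ideal A) [p.IsPrime]
    (P : Ideal A[X]) [P.IsPrime] [P.LiesOver p] :
    Algebra.trdeg (A ⧸ p) (A[X] ⧸ P) ≤ 1 := by
  have hd : IsDomain (A ⧸ p) := Ideal.Quotient.isDomain p
  let F : (A ⧸ p)[X] →ₐ[A ⧸ p] (A[X] ⧸ P) := Polynomial.aeval (Ideal.Quotient.mk P X)
  have hF : Function.Surjective F := by
    intro y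
    obtain ⟨G, rfl⟩ := Ideal.Quotient.mk_surjective y
    exact ⟨G.map (Ideal.Quotient.mk p), aeval_mk_X_map_mk p P G⟩
  have := trdeg_le_of_surjective F hF
  rwa [Polynomial.trdeg_of_isDomain] at this

open Polynomial in
/-- If `t` has transcendental class in `B/q`, the residue domain of `A[X]` at the contraction of
`q` along `X ↦ t` has positive residual transcendence degree. -/
theorem one_le_trdeg_quotient_polynomial {A B : Type u} [CommRing A] [CommRing B] [Algebra A B]
    (p : Ideal A) [p.IsPrime] (q : Ideal B) [q.IsPrime] [q.LiesOver p] (t : B)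
    (ht : Transcendental (A ⧸ p) (Ideal.Quotient.mk q t))
    (P : Ideal A[X]) [P.IsPrime] [P.LiesOver p]
    (hP : P = q.comap (Polynomial.aeval t : A[X] →ₐ[A] B).toRingHom) :
    1 ≤ Algebra.trdeg (A ⧸ p) (A[X] ⧸ P) := by
  have htr : Transcendental (A ⧸ p) (Ideal.Quotient.mk P (X : A[X])) := by
    intro halg
    apply ht
    obtain ⟨G, hG0, hG⟩ := halg
    obtain ⟨G0, rfl⟩ := Polynomial.map_surjective (Ideal.Quotient.mk p) Ideal.Quotient.mk_surjective G
    refine ⟨G0.map (Ideal.Quotient.mk p), hG0, ?_⟩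
    rw [aeval_mk_X_map_mk p P G0, Ideal.Quotient.eq_zero_iff_mem, hP, Ideal.mem_comap] at hG
    rw [Polynomial.aeval_def, Polynomial.eval₂_map]
    have h1 : (algebraMap (A ⧸ p) (B ⧸ q)).comp (Ideal.Quotient.mk p) =
        (Ideal.Quotient.mk q).comp (algebraMap A B) := by
      ext a
      simp only [RingHom.comp_apply]
      rw [Ideal.Quotient.algebraMap_mk_of_liesOver]
    rw [h1, ← Polynomial.hom_eval₂, Ideal.Quotient.eq_zero_iff_mem]
    exact hG
  have : Algebra.Transcendental (A ⧸ p) (A[X] ⧸ P) := ⟨⟨_, htr⟩⟩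
  exact Cardinal.one_le_iff_pos.mpr (trdeg_pos (A ⧸ p) (A[X] ⧸ P))

/-- Positive residual transcendence degree is witnessed by an element. -/
theorem exists_transcendental_of_trdeg_ne_zero {A B : Type u} [CommRing A] [CommRing B]
    [Algebra A B] (p : Ideal A) (q : Ideal B) [q.LiesOver p]
    (h : Algebra.trdeg (A ⧸ p) (B ⧸ q) ≠ 0) :
    ∃ t : B, Transcendental (A ⧸ p) (Ideal.Quotient.mk q t) := by
  rw [trdeg_ne_zero_iff] at h
  obtain ⟨y, hy⟩ := h.transcendental
  obtain ⟨t, rfl⟩ := Ideal.Quotient.mk_surjective y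
  exact ⟨t, hy⟩

end Groth.Agent.Lib.Helper73

namespace Groth.Agent.Lib.Helper73

section AffineStep

open Polynomial

variable (A B : Type u) [CommRing A] [CommRing B] [Algebra A B]

/-- The projection `Spec A[X] ⟶ Spec A`. -/
noncomputable abbrev specPolyProj : Spec (CommRingCat.of A[X]) ⟶ Spec (CommRingCat.of A) :=
  Spec.map (CommRingCat.ofHom (algebraMap A A[X]))

variable {B} in
/-- The morphism `Spec B ⟶ Spec A[X]` defined by an element of `B`. -/
noncomputable abbrev specPolyMap (t : B) : Spec (CommRingCat.of B) ⟶ Spec (CommRingCat.of A[X]) :=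
  Spec.map (CommRingCat.ofHom (Polynomial.aeval t : A[X] →ₐ[A] B).toRingHom)

lemma specPolyMap_comp_proj (t : B) :
    specPolyMap A t ≫ specPolyProj A = Spec.map (CommRingCat.ofHom (algebraMap A B)) := by
  rw [← Spec.map_comp, ← CommRingCat.ofHom_comp]
  congr 2
  ext a
  simp

instance : LocallyOfFiniteType (specPolyProj A) :=
  (HasRingHomProperty.Spec_iff (P := @LocallyOfFiniteType)).mpr
    (RingHom.finiteType_algebraMap.mpr inferInstance)

set_option backward.isDefEq.respectTransparency.types false in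
lemma resTrdegNat_specPolyProj_le_one (w : Spec (CommRingCat.of A[X])) :
    resTrdegNat (specPolyProj A) w ≤ 1 := by
  have h1 := resTrdeg_SpecMap (R := A) (R' := A[X]) w (w.asIdeal.under A) w.asIdeal rfl
  have h2 := trdeg_quotient_polynomial_le_one (w.asIdeal.under A) w.asIdeal
  rw [← h1, resTrdeg_eq_resTrdegNat] at h2
  exact_mod_cast h2

variable [Algebra.FiniteType A B]

set_option backward.isDefEq.respectTransparency.types false in
/-- Existence of a coordinate cutting down the fibre dimension at `x`. -/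
theorem exists_specPolyMap_fibreDimAt_le (n : ℕ) (x : Spec (CommRingCat.of B))
    (hx : FlatMor.fibreDimAt (Spec.map (CommRingCat.ofHom (algebraMap A B))) x ≤
      ((n + 1 : ℕ) : WithBot ℕ∞))
    (hx' : ¬ FlatMor.fibreDimAt (Spec.map (CommRingCat.ofHom (algebraMap A B))) x ≤
      ((n : ℕ) : WithBot ℕ∞)) :
    ∃ t : B, ∃ _ : LocallyOfFiniteType (specPolyMap A t),
      FlatMor.fibreDimAt (specPolyMap A t) x ≤ ((n : ℕ) : WithBot ℕ∞) := by
  have hf : LocallyOfFiniteType (Spec.map (CommRingCat.ofHom (algebraMap A B))) :=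
    (HasRingHomProperty.Spec_iff (P := @LocallyOfFiniteType)).mpr
      (RingHom.finiteType_algebraMap.mpr inferInstance)
  have hg : ∀ t : B, LocallyOfFiniteType (specPolyMap A t) := by
    intro t
    have : LocallyOfFiniteType (specPolyMap A t ≫ specPolyProj A) := by
      rw [specPolyMap_comp_proj]; exact hf
    exact locallyOfFiniteType_of_comp (specPolyMap A t) (specPolyProj A)
  let q : Ideal B := x.asIdeal
  let p : Ideal A := q.under A
  by_cases hr : resTrdegNat (Spec.map (CommRingCat.ofHom (algebraMap A B))) x = 0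
  · -- algebraic residue field: cut by an element vanishing at `x` but at no maximal generization
    have hZfin := finite_maximal_fiber_generizations
      (Spec.map (CommRingCat.ofHom (algebraMap A B))) x
    have hxZ : x ∉ {z : Spec (CommRingCat.of B) | z ⤳ x ∧
        (Spec.map (CommRingCat.ofHom (algebraMap A B))) z =
          (Spec.map (CommRingCat.ofHom (algebraMap A B))) x ∧
        ∀ t' : Spec (CommRingCat.of B), t' ⤳ z →
          (Spec.map (CommRingCat.ofHom (algebraMap A B))) t' =
            (Spec.map (CommRingCat.ofHom (algebraMap A B))) z → t' = z} := by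
      rintro ⟨-, -, hmax⟩
      apply hx'
      rw [fibreDimAt_eq, ringKrullDim_fiber_stalk_eq_zero_of_maximal _ x
        (fun t ht hft => hmax t ht hft), hr]
      simp
    have hnot : ¬ ((q : Set B) ⊆ ⋃ z ∈ (hZfin.toFinset : Set (Spec (CommRingCat.of B))),
        (z.asIdeal : Set B)) := by
      rw [Ideal.subset_union_prime x x (fun z _ _ _ => z.isPrime)]
      rintro ⟨z, hz, hqz⟩
      have hzZ := hZfin.mem_toFinset.mp hz
      let x' : PrimeSpectrum B := x
      let z' : PrimeSpectrum B := z
      have hxz : x ⤳ z := (PrimeSpectrum.le_iff_specializes x' z').mp hqz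
      have hzx : z = x := (hzZ.1.antisymm hxz).eq
      rw [hzx] at hzZ
      exact hxZ hzZ
    obtain ⟨t, htq, htZ⟩ := Set.not_subset.mp hnot
    have htZ' : ∀ z : Spec (CommRingCat.of B), z ⤳ x →
        (Spec.map (CommRingCat.ofHom (algebraMap A B))) z =
          (Spec.map (CommRingCat.ofHom (algebraMap A B))) x →
        (∀ t' : Spec (CommRingCat.of B), t' ⤳ z →
          (Spec.map (CommRingCat.ofHom (algebraMap A B))) t' =
            (Spec.map (CommRingCat.ofHom (algebraMap A B))) z → t' = z) → t ∉ z.asIdeal := by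
      intro z h1 h2 h3 htz
      apply htZ
      simp only [Set.mem_iUnion]
      exact ⟨z, hZfin.mem_toFinset.mpr ⟨h1, h2, h3⟩, htz⟩
    refine ⟨t, hg t, ?_⟩
    have := hg t
    have hcut : ∀ z : Spec (CommRingCat.of B), z ⤳ x →
        (specPolyMap A t ≫ specPolyProj A) z = (specPolyMap A t ≫ specPolyProj A) x →
        (∀ t' : Spec (CommRingCat.of B), t' ⤳ z →
          (specPolyMap A t ≫ specPolyProj A) t' = (specPolyMap A t ≫ specPolyProj A) z → t' = z) →
        (specPolyMap A t) z ≠ (specPolyMap A t) x := by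
      intro z hzx hfz hzmax hgz
      rw [specPolyMap_comp_proj] at hfz hzmax
      have hX : (X : A[X]) ∈ ((specPolyMap A t) x).asIdeal := by
        change Polynomial.aeval t X ∈ q
        rw [Polynomial.aeval_X]; exact htq
      rw [← hgz] at hX
      have hX' : Polynomial.aeval t (X : A[X]) ∈ z.asIdeal := hX
      rw [Polynomial.aeval_X] at hX'
      exact htZ' z hzx hfz hzmax hX'
    have h1 := ringKrullDim_fiber_stalk_add_one_le (specPolyMap A t) (specPolyProj A) x hcut
    have hx2 : FlatMor.fibreDimAt (specPolyMap A t ≫ specPolyProj A) x ≤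
        ((n + 1 : ℕ) : WithBot ℕ∞) := by
      rw [specPolyMap_comp_proj]; exact hx
    have hr2 : resTrdegNat (specPolyMap A t ≫ specPolyProj A) x = 0 := by
      rw [specPolyMap_comp_proj]; exact hr
    rw [fibreDimAt_eq] at hx2 ⊢
    obtain ⟨m, hm⟩ := exists_ringKrullDim_fiber_stalk_eq_natCast
      (specPolyMap A t ≫ specPolyProj A) x
    obtain ⟨m', hm'⟩ := exists_ringKrullDim_fiber_stalk_eq_natCast (specPolyMap A t) x
    rw [hm, hm'] at h1
    rw [hm, hr2] at hx2
    rw [hm']
    have hrg : resTrdegNat (specPolyMap A t) x = 0 := by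
      have := resTrdegNat_comp (specPolyMap A t) (specPolyProj A) x
      omega
    rw [hrg]
    have e1 : m' + 1 ≤ m := by exact_mod_cast h1
    have e2 : m + 0 ≤ n + 1 := by exact_mod_cast hx2
    have : m' + 0 ≤ n := by omega
    exact_mod_cast this
  · -- transcendental residue field: cut by a transcendental coordinate
    have h1 := resTrdeg_SpecMap (R := A) (R' := B) x p q rfl
    have h2 : Algebra.trdeg (A ⧸ p) (B ⧸ q) ≠ 0 := by
      rw [← h1, resTrdeg_eq_resTrdegNat]
      exact_mod_cast hr
    obtain ⟨t, ht⟩ := exists_transcendental_of_trdeg_ne_zero p q h2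
    refine ⟨t, hg t, ?_⟩
    have := hg t
    let P : Ideal A[X] := ((specPolyMap A t) x).asIdeal
    have hPdef : P = q.comap (Polynomial.aeval t : A[X] →ₐ[A] B).toRingHom := rfl
    have hPp : P.LiesOver p := ⟨by
      rw [hPdef]
      change p = (q.comap _).comap _
      rw [Ideal.comap_comap]
      change q.comap (algebraMap A B) = q.comap _
      congr 1
      ext a
      simp⟩
    have h3 := one_le_trdeg_quotient_polynomial p q t ht P hPdef
    have h4 := resTrdeg_SpecMap (R := A) (R' := A[X]) ((specPolyMap A t) x) p P rfl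
    have h5 : 1 ≤ resTrdegNat (specPolyProj A) ((specPolyMap A t) x) := by
      rw [← h4, resTrdeg_eq_resTrdegNat] at h3
      exact_mod_cast h3
    refine fibreDimAt_le_of_one_le_resTrdegNat (specPolyMap A t) (specPolyProj A) x h5 n ?_
    rw [specPolyMap_comp_proj]
    exact hx

end AffineStep

end Groth.Agent.Lib.Helper73

namespace Groth.Agent.Lib.Helper73

/-- The affine inductive step of Chevalley's semicontinuity theorem. -/
theorem exists_open_fibreDimAt_le_affine (n : ℕ)
    (IH : ∀ (X S : Scheme.{u}) (f : X ⟶ S) [LocallyOfFiniteType f],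
      IsOpen {x : X | FlatMor.fibreDimAt f x ≤ ((n : ℕ) : WithBot ℕ∞)})
    (A B : Type u) [CommRing A] [CommRing B] [Algebra A B] [Algebra.FiniteType A B]
    (x : Spec (CommRingCat.of B))
    (hx : FlatMor.fibreDimAt (Spec.map (CommRingCat.ofHom (algebraMap A B))) x ≤
      ((n + 1 : ℕ) : WithBot ℕ∞)) :
    ∃ W : Set (Spec (CommRingCat.of B)), IsOpen W ∧ x ∈ W ∧ ∀ x' ∈ W,
      FlatMor.fibreDimAt (Spec.map (CommRingCat.ofHom (algebraMap A B))) x' ≤
        ((n + 1 : ℕ) : WithBot ℕ∞) := by
  have hf : LocallyOfFiniteType (Spec.map (CommRingCat.ofHom (algebraMap A B))) :=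
    (HasRingHomProperty.Spec_iff (P := @LocallyOfFiniteType)).mpr
      (RingHom.finiteType_algebraMap.mpr inferInstance)
  by_cases hx' : FlatMor.fibreDimAt (Spec.map (CommRingCat.ofHom (algebraMap A B))) x ≤
      ((n : ℕ) : WithBot ℕ∞)
  · refine ⟨_, IH _ _ (Spec.map (CommRingCat.ofHom (algebraMap A B))), hx', ?_⟩
    intro x' hx'
    refine le_trans hx' ?_
    exact_mod_cast Nat.le_succ n
  · obtain ⟨t, hg, ht⟩ := exists_specPolyMap_fibreDimAt_le A B n x hx hx'
    have hopen := IH _ _ (specPolyMap A t)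
    refine ⟨_, hopen, ht, ?_⟩
    intro x' hx'W
    have := fibreDimAt_comp_le (specPolyMap A t) (specPolyProj A) n 1
      (resTrdegNat_specPolyProj_le_one A) x' (fun η hη => hη.mem_open hopen hx'W)
    rw [specPolyMap_comp_proj] at this
    exact this

set_option backward.isDefEq.respectTransparency.types false in
/-- **Chevalley's semicontinuity theorem**: for a morphism locally of finite type, the set of
points where the fibre has local dimension `≤ n` is open. -/
theorem isOpen_fibreDimAt_le (n : ℕ) : ∀ (X S : Scheme.{u}) (f : X ⟶ S) [LocallyOfFiniteType f],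
    IsOpen {x : X | FlatMor.fibreDimAt f x ≤ ((n : ℕ) : WithBot ℕ∞)} := by
  induction n with
  | zero =>
    intro X S f _
    have : {x : X | FlatMor.fibreDimAt f x ≤ ((0 : ℕ) : WithBot ℕ∞)} =
        {x : X | f.QuasiFiniteAt x} := by
      ext x
      rw [Set.mem_setOf_eq, Set.mem_setOf_eq, quasiFiniteAt_iff_fibreDimAt_le_zero]
      simp
    rw [this]
    exact f.isOpen_quasiFiniteAt
  | succ n IH =>
    intro X S f _
    rw [isOpen_iff_forall_mem_open]
    intro x hx
    obtain ⟨V, hV, hfxV, -⟩ :=
      exists_isAffineOpen_mem_and_subset (X := S) (x := f x) (U := ⊤) trivial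
    obtain ⟨U, hU, hxU, hUV⟩ :=
      exists_isAffineOpen_mem_and_subset (X := X) (x := x) (U := f ⁻¹ᵁ V) hfxV
    let _ : Algebra Γ(S, V) Γ(X, U) := (f.appLE V U hUV).hom.toAlgebra
    have hft : Algebra.FiniteType Γ(S, V) Γ(X, U) :=
      HasRingHomProperty.appLE @LocallyOfFiniteType f inferInstance ⟨V, hV⟩ ⟨U, hU⟩ hUV
    have hf' : LocallyOfFiniteType (Spec.map (CommRingCat.ofHom (algebraMap Γ(S, V) Γ(X, U)))) :=
      (HasRingHomProperty.Spec_iff (P := @LocallyOfFiniteType)).mpr
        (RingHom.finiteType_algebraMap.mpr inferInstance)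
    have hsq : Spec.map (CommRingCat.ofHom (algebraMap Γ(S, V) Γ(X, U))) ≫ hV.fromSpec =
        hU.fromSpec ≫ f := IsAffineOpen.SpecMap_appLE_fromSpec f hV hU hUV
    have hloc := fibreDimAt_eq_of_isOpenImmersion_square hU.fromSpec hV.fromSpec
      (Spec.map (CommRingCat.ofHom (algebraMap Γ(S, V) Γ(X, U)))) f hsq
    let x0 : Spec Γ(X, U) := hU.primeIdealOf ⟨x, hxU⟩
    have hx0 : hU.fromSpec x0 = x := hU.fromSpec_primeIdealOf ⟨x, hxU⟩
    have hx0' : FlatMor.fibreDimAt (Spec.map (CommRingCat.ofHom (algebraMap Γ(S, V) Γ(X, U)))) x0 ≤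
        ((n + 1 : ℕ) : WithBot ℕ∞) := by
      rw [hloc x0, hx0]; exact hx
    obtain ⟨W, hW, hx0W, hWle⟩ :=
      exists_open_fibreDimAt_le_affine n IH Γ(S, V) Γ(X, U) x0 hx0'
    refine ⟨hU.fromSpec '' W, ?_, hU.fromSpec.isOpenEmbedding.isOpenMap W hW, ⟨x0, hx0W, hx0⟩⟩
    rintro _ ⟨u, hu, rfl⟩
    change FlatMor.fibreDimAt f (hU.fromSpec u) ≤ _
    rw [← hloc u]
    exact hWle u hu

end Groth.Agent.Lib.Helper73

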