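import Groth.Agent.Lib.Helper73.DimFormula.ClosedSubscheme

/-!
# Equidimensionality at a point on schemes with a generic point (helper73)

* `isEquidimAt_iff_of_generic`: for `g : Z ⟶ S` locally of finite type with `Z` having a generic
  point `ξ`, `g` is equidimensional at `w` iff `g ξ` is a maximal point of `S` and the local fibre
  dimension at `w` is at most `trdeg κ(ξ)/κ(g ξ)`.
* `fibreDimAt_comp_le_of_isPreimmersion`, `exists_generic_of_range_eq_closure`,
  `isEquidimAt_comp_of_maximal`, `exists_maximal_fiber_resTrdegNat_eq_fibreDimAt`,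
  `isEquidimAt_comp_of_fibreDimAt_le` (EGA IV 13.3.x).
-/

set_option autoImplicit false
open CategoryTheory AlgebraicGeometry
universe u

namespace Groth.Agent.Lib.Helper73

/-- Equidimensionality at a point for a morphism from a scheme with a generic point `ξ`. -/
theorem isEquidimAt_iff_of_generic {Z S : Scheme.{u}} (g : Z ⟶ S) [LocallyOfFiniteType g]
    (ξ : Z) (hgen : ∀ t : Z, ξ ⤳ t) (w : Z) :
    EGA43.IsEquidimAt g w ↔ (∀ t : S, t ⤳ g ξ → t = g ξ) ∧
      FlatMor.fibreDimAt g w ≤ ((resTrdegNat g ξ : ℕ) : WithBot ℕ∞) := by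
  have hξmax : ∀ t : Z, t ⤳ ξ → t = ξ := fun t ht => (ht.antisymm (hgen t)).eq
  constructor
  · intro h
    obtain ⟨e, U, hwU, hA, hB⟩ := (isEquidimAt_iff g w).mp h
    have hξU : ξ ∈ U := (hgen w).mem_open U.isOpen hwU
    refine ⟨(hA ξ hξU hξmax).1, ?_⟩
    have hre : resTrdegNat g ξ = e := hB ξ hξU (fun t ht _ => hξmax t ht)
    have hfd : FlatMor.fibreDimAt g w = e := by
      apply fibreDimAt_eq_of_forall_maximal
      intro ζ hζw _ hζmax
      exact hB ζ (hζw.mem_open U.isOpen hwU) hζmax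
    rw [hfd, hre]
  · rintro ⟨hmax, hle⟩
    let U : Z.Opens := ⟨{x' : Z | FlatMor.fibreDimAt g x' ≤ ((resTrdegNat g ξ : ℕ) : WithBot ℕ∞)},
      isOpen_fibreDimAt_le _ Z S g⟩
    rw [isEquidimAt_iff]
    refine ⟨resTrdegNat g ξ, U, hle, ?_, ?_⟩
    · intro ξ₁ _ hξ₁max
      have : ξ = ξ₁ := hξ₁max ξ (hgen ξ₁)
      rw [← this]
      exact ⟨hmax, (hgen w).map g.continuous⟩
    · intro ζ hζU hζmax
      apply le_antisymm
      · have h3 : FlatMor.fibreDimAt g ζ ≤ ((resTrdegNat g ξ : ℕ) : WithBot ℕ∞) := hζU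
        have h4 := (resTrdegNat_le_fibreDimAt g ζ).trans h3
        exact_mod_cast h4
      · exact resTrdegNat_le_of_specializes_of_maximal g ξ ζ (hgen ζ) hζmax

/-- The fibre dimension of a preimmersed subscheme is at most that of the ambient scheme. -/
theorem fibreDimAt_comp_le_of_isPreimmersion {Z X S : Scheme.{u}} (i : Z ⟶ X) [IsPreimmersion i]
    (f : X ⟶ S) [LocallyOfFiniteType f] [LocallyOfFiniteType (i ≫ f)] (w : Z) :
    FlatMor.fibreDimAt (i ≫ f) w ≤ FlatMor.fibreDimAt f (i w) := by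
  obtain ⟨d, hd⟩ := exists_fibreDimAt_eq_natCast f (i w)
  rw [hd]
  apply fibreDimAt_le_of_forall_generization
  intro η hηw hfη
  rw [resTrdegNat_comp_of_isPreimmersion]
  have := resTrdegNat_le_fibreDimAt_of_specializes f (i w) (i η) (hηw.map i.continuous) hfη
  rw [hd] at this
  exact_mod_cast this

/-- A subscheme supported on the closure of a maximal point has a generic point. -/
lemma exists_generic_of_range_eq_closure {Z X : Scheme.{u}} (i : Z ⟶ X) [IsPreimmersion i]
    (ξ : X) (hrange : Set.range i = closure ({ξ} : Set X)) :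
    ∃ ξ'' : Z, i ξ'' = ξ ∧ ∀ t : Z, ξ'' ⤳ t := by
  have hξr : ξ ∈ Set.range i := by rw [hrange]; exact subset_closure rfl
  obtain ⟨ξ'', hξ''⟩ := hξr
  refine ⟨ξ'', hξ'', ?_⟩
  intro t
  rw [← i.isEmbedding.isInducing.specializes_iff, hξ'']
  have : i t ∈ Set.range i := ⟨t, rfl⟩
  rw [hrange] at this
  exact specializes_iff_mem_closure.mpr this

/-- If `f` is equidimensional at `i w`, where `i : Z ⟶ X` is a preimmersion with range the closure
of a maximal point `ξ`, then `i ≫ f` is equidimensional at `w`. -/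
theorem isEquidimAt_comp_of_maximal {Z X S : Scheme.{u}} (i : Z ⟶ X) [IsPreimmersion i]
    (f : X ⟶ S) [LocallyOfFiniteType f] [LocallyOfFiniteType (i ≫ f)]
    (ξ : X) (hrange : Set.range i = closure ({ξ} : Set X)) (hξmax : ∀ t : X, t ⤳ ξ → t = ξ)
    (w : Z) (h : EGA43.IsEquidimAt f (i w)) : EGA43.IsEquidimAt (i ≫ f) w := by
  obtain ⟨ξ'', hξ'', hgen⟩ := exists_generic_of_range_eq_closure i ξ hrange
  rw [isEquidimAt_iff_of_generic (i ≫ f) ξ'' hgen w]
  obtain ⟨e, U, hwU, hA, hB⟩ := (isEquidimAt_iff f (i w)).mp h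
  have hξw : ξ ⤳ i w := by
    rw [← hξ'']; exact (hgen w).map i.continuous
  have hξU : ξ ∈ U := hξw.mem_open U.isOpen hwU
  have hre : resTrdegNat f ξ = e := hB ξ hξU (fun t ht _ => hξmax t ht)
  have hfd : FlatMor.fibreDimAt f (i w) = e := by
    apply fibreDimAt_eq_of_forall_maximal
    intro ζ hζw _ hζmax
    exact hB ζ (hζw.mem_open U.isOpen hwU) hζmax
  constructor
  · have : (i ≫ f) ξ'' = f ξ := by
      rw [← hξ'']; rfl
    rw [this]
    exact (hA ξ hξU hξmax).1
  · rw [resTrdegNat_comp_of_isPreimmersion, hξ'', hre, ← hfd]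
    exact fibreDimAt_comp_le_of_isPreimmersion i f w


/-- The local fibre dimension at `x` is attained as the residual transcendence degree of a maximal
point of the fibre specializing to `x`. -/
theorem exists_maximal_fiber_resTrdegNat_eq_fibreDimAt {X S : Scheme.{u}} (f : X ⟶ S)
    [LocallyOfFiniteType f] (x : X) :
    ∃ z : X, z ⤳ x ∧ f z = f x ∧ (∀ t : X, t ⤳ z → f t = f z → t = z) ∧
      FlatMor.fibreDimAt f x = ((resTrdegNat f z : ℕ) : WithBot ℕ∞) := by
  obtain ⟨d, hd⟩ := exists_fibreDimAt_eq_natCast f x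
  by_contra hcon
  have hlt : ∀ z : X, z ⤳ x → f z = f x → (∀ t : X, t ⤳ z → f t = f z → t = z) →
      resTrdegNat f z + 1 ≤ d := by
    intro z hzx hfz hzmax
    have h1 := resTrdegNat_le_fibreDimAt_of_specializes f x z hzx hfz
    rw [hd] at h1
    have h1' : resTrdegNat f z ≤ d := by exact_mod_cast h1
    have h2 : resTrdegNat f z ≠ d := by
      intro heq
      apply hcon
      refine ⟨z, hzx, hfz, hzmax, ?_⟩
      rw [hd, heq]
    omega
  obtain ⟨z₀, hz₀x, hfz₀, hz₀max⟩ := exists_maximal_fiber_specializes f x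
  have hd1 : 1 ≤ d := (Nat.le_add_left _ _).trans (hlt z₀ hz₀x hfz₀ hz₀max)
  have hle : FlatMor.fibreDimAt f x ≤ ((d - 1 : ℕ) : WithBot ℕ∞) := by
    apply fibreDimAt_le_of_forall_generization
    intro η hηx hfη
    obtain ⟨z, hzη, hfz, hzmax⟩ := exists_maximal_fiber_specializes f η
    have h3 := resTrdegNat_le_of_specializes_fiber f η z hzη hfz
    have h4 := hlt z (hzη.trans hηx) (hfz.trans hfη) hzmax
    omega
  rw [hd] at hle
  have : d ≤ d - 1 := by exact_mod_cast hle
  omega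

/-- Propagation of equidimensionality along a scheme with a generic point: if `i ≫ f` is
equidimensional at `wz` and the fibre dimension of `f` at `i wx` is at most the residual
transcendence degree at `i wz`, then `i ≫ f` is equidimensional at `wx`. -/
theorem isEquidimAt_comp_of_fibreDimAt_le {Z X S : Scheme.{u}} (i : Z ⟶ X) [IsPreimmersion i]
    (f : X ⟶ S) [LocallyOfFiniteType f] [LocallyOfFiniteType (i ≫ f)]
    (ξ'' : Z) (hgen : ∀ t : Z, ξ'' ⤳ t) (wz wx : Z)
    (hz : EGA43.IsEquidimAt (i ≫ f) wz)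
    (hle : FlatMor.fibreDimAt f (i wx) ≤ ((resTrdegNat f (i wz) : ℕ) : WithBot ℕ∞)) :
    EGA43.IsEquidimAt (i ≫ f) wx := by
  rw [isEquidimAt_iff_of_generic (i ≫ f) ξ'' hgen] at hz ⊢
  refine ⟨hz.1, ?_⟩
  calc FlatMor.fibreDimAt (i ≫ f) wx ≤ FlatMor.fibreDimAt f (i wx) :=
        fibreDimAt_comp_le_of_isPreimmersion i f wx
    _ ≤ ((resTrdegNat f (i wz) : ℕ) : WithBot ℕ∞) := hle
    _ = ((resTrdegNat (i ≫ f) wz : ℕ) : WithBot ℕ∞) := by
        rw [resTrdegNat_comp_of_isPreimmersion]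
    _ ≤ FlatMor.fibreDimAt (i ≫ f) wz := resTrdegNat_le_fibreDimAt (i ≫ f) wz
    _ ≤ _ := hz.2


end Groth.Agent.Lib.Helper73
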