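import Groth.Agent.Lib.Helper73.DimFormula.FiberDimBC
import Groth.Agent.Lib.Helper73.DimFormula.IrrEq
import Groth.Agent.Lib.Helper67.FiberStalk3

/-!
# Additivity of fibre dimensions (helper73)

* `fibreDimAt_le_of_specializes` (Chevalley), `fibreDimAt_comp_le_add`,
  `ringKrullDim_fiber_stalk_comp`, `fibreDimAt_comp_eq_add` (flat at the point).
* `hasRelDim_iff_forall_maximal`, `hasRelDim_comp`, `fibreDimAt_eq_of_hasRelDim`.
* `topologicalKrullDim_opens_eq_iSup_stalk`, `exists_specializes_resTrdegNat_eq_zero`,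
  `localDim_eq_add_of_hasRelDim` (flat, relative dimension `d`, locally Noetherian:
  `dim_x X = dim_{f x} Y + d`), `iSup_add_le_withBot`.
-/

set_option autoImplicit false
open CategoryTheory AlgebraicGeometry TopologicalSpace Topology Limits
universe u

namespace Groth.Agent.Lib.Helper73


/-- Chevalley: the fibre dimension does not increase under generization. -/
theorem fibreDimAt_le_of_specializes {X Y : Scheme.{u}} (f : X ⟶ Y) [LocallyOfFiniteType f]
    {z x : X} (h : z ⤳ x) : FlatMor.fibreDimAt f z ≤ FlatMor.fibreDimAt f x := by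
  obtain ⟨d, hd⟩ := exists_fibreDimAt_eq_natCast f x
  have hopen := isOpen_fibreDimAt_le d X Y f
  have hx : x ∈ {x : X | FlatMor.fibreDimAt f x ≤ ((d : ℕ) : WithBot ℕ∞)} := hd.le
  have hz := h.mem_open hopen hx
  rw [hd]
  exact hz

/-- Subadditivity of fibre dimensions. -/
theorem fibreDimAt_comp_le_add {X Y S : Scheme.{u}} (f : X ⟶ Y) (g : Y ⟶ S)
    [LocallyOfFiniteType f] [LocallyOfFiniteType g] (x : X) :
    FlatMor.fibreDimAt (f ≫ g) x ≤ FlatMor.fibreDimAt f x + FlatMor.fibreDimAt g (f x) := by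
  obtain ⟨z, hzx, hgz, -, hz⟩ := exists_maximal_fiber_resTrdegNat_eq_fibreDimAt (f ≫ g) x
  rw [hz, resTrdegNat_comp f g z]
  have h1 := resTrdegNat_le_fibreDimAt_of_specializes g (f x) (f z) (hzx.map f.continuous) hgz
  have h2 := (resTrdegNat_le_fibreDimAt f z).trans (fibreDimAt_le_of_specializes f hzx)
  push_cast
  rw [add_comm]
  exact add_le_add h2 h1

open Groth.Agent.Lib.Helper67.FiberStalk Groth.Agent.Lib.Helper67.FiberTower in
/-- Additivity of the dimensions of the local rings of the fibres for a composite whose first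
morphism is flat at the point. -/
theorem ringKrullDim_fiber_stalk_comp {X Y S : Scheme.{u}} (f : X ⟶ Y) (g : Y ⟶ S)
    [LocallyOfFiniteType f] [LocallyOfFiniteType g] (x : X) (hfl : (f.stalkMap x).hom.Flat) :
    ringKrullDim (((f ≫ g).fiber ((f ≫ g).base x)).presheaf.stalk ((f ≫ g).asFiber x)) =
      ringKrullDim ((g.fiber (g.base (f x))).presheaf.stalk (g.asFiber (f x))) +
        ringKrullDim ((f.fiber (f.base x)).presheaf.stalk (f.asFiber x)) := by
  have hN1 : IsLocallyNoetherian ((f ≫ g).fiber ((f ≫ g) x)) :=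
    LocallyOfFiniteType.isLocallyNoetherian ((f ≫ g).fiberToSpecResidueField ((f ≫ g) x))
  have hN2 : IsLocallyNoetherian (g.fiber (g (f x))) :=
    LocallyOfFiniteType.isLocallyNoetherian (g.fiberToSpecResidueField (g (f x)))
  have hQ1 : IsNoetherianRing (Q (f ≫ g) x) := isNoetherianRing_Q (f ≫ g) x hN1
  have hQ2 : IsNoetherianRing (Q g (f x)) := isNoetherianRing_Q g (f x) hN2
  rw [ringKrullDim_eq_of_ringEquiv (fiberStalkEquiv (f ≫ g) x),
    ringKrullDim_eq_of_ringEquiv (fiberStalkEquiv g (f x)),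
    ringKrullDim_eq_of_ringEquiv (fiberStalkEquiv f x),
    ringKrullDim_eq_of_ringEquiv (qCompEquiv f g x)]
  haveI : IsNoetherianRing (Y.presheaf.stalk (f x) ⧸ IA (g.stalkMap (f x)).hom) := hQ2
  haveI : IsNoetherianRing
      (X.presheaf.stalk x ⧸ IB (g.stalkMap (f x)).hom (f.stalkMap x).hom) :=
    isNoetherianRing_of_ringEquiv _ (qCompEquiv f g x)
  letI : Algebra (Y.presheaf.stalk (f x) ⧸ IA (g.stalkMap (f x)).hom)
      (X.presheaf.stalk x ⧸ IB (g.stalkMap (f x)).hom (f.stalkMap x).hom) :=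
    (φ' (g.stalkMap (f x)).hom (f.stalkMap x).hom).toAlgebra
  haveI : IsLocalHom (algebraMap (Y.presheaf.stalk (f x) ⧸ IA (g.stalkMap (f x)).hom)
      (X.presheaf.stalk x ⧸ IB (g.stalkMap (f x)).hom (f.stalkMap x).hom)) :=
    isLocalHom_φ' (g.stalkMap (f x)).hom (f.stalkMap x).hom
  haveI : Module.Flat (Y.presheaf.stalk (f x) ⧸ IA (g.stalkMap (f x)).hom)
      (X.presheaf.stalk x ⧸ IB (g.stalkMap (f x)).hom (f.stalkMap x).hom) :=
    flat_φ' (g.stalkMap (f x)).hom (f.stalkMap x).hom hfl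
  have h := Groth.Agent.Lib.Helper67.ringKrullDim_eq_add_fibre_of_flat
    (R := Y.presheaf.stalk (f x) ⧸ IA (g.stalkMap (f x)).hom)
    (S := X.presheaf.stalk x ⧸ IB (g.stalkMap (f x)).hom (f.stalkMap x).hom)
  rw [h]
  congr 1
  exact ringKrullDim_eq_of_ringEquiv (fibreEquiv (g.stalkMap (f x)).hom (f.stalkMap x).hom)

/-- Additivity of fibre dimensions for a composite whose first morphism is flat at the point. -/
theorem fibreDimAt_comp_eq_add {X Y S : Scheme.{u}} (f : X ⟶ Y) (g : Y ⟶ S)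
    [LocallyOfFiniteType f] [LocallyOfFiniteType g] (x : X) (hfl : (f.stalkMap x).hom.Flat) :
    FlatMor.fibreDimAt (f ≫ g) x = FlatMor.fibreDimAt f x + FlatMor.fibreDimAt g (f x) := by
  rw [fibreDimAt_eq, fibreDimAt_eq, fibreDimAt_eq, ringKrullDim_fiber_stalk_comp f g x hfl,
    resTrdegNat_comp f g x]
  obtain ⟨m, hm⟩ := exists_ringKrullDim_fiber_stalk_eq_natCast f x
  obtain ⟨m', hm'⟩ := exists_ringKrullDim_fiber_stalk_eq_natCast g (f x)
  rw [hm, hm']
  push_cast
  ring




/-- Relative dimension `r` in terms of the maximal points of the fibres. -/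
theorem hasRelDim_iff_forall_maximal {X Y : Scheme.{u}} (f : X ⟶ Y) [LocallyOfFiniteType f]
    (r : ℕ) :
    Cyc.HasRelDim f r ↔
      ∀ ζ : X, (∀ t : X, t ⤳ ζ → f t = f ζ → t = ζ) → resTrdegNat f ζ = r := by
  constructor
  · intro h ζ hζ
    have h1 := (mem_fiberDims_iff f (f ζ) ((resTrdegNat f ζ : ℕ) : WithBot ℕ∞)).mpr
      ⟨ζ, rfl, hζ, rfl⟩
    obtain ⟨Z, hZ, hZd⟩ := h1
    have h2 := h (f ζ) Z hZ
    simp only at hZd
    rw [h2] at hZd
    exact_mod_cast hZd.symm
  · intro h y T hT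
    have h1 := (mem_fiberDims_iff f y (topologicalKrullDim ↥T)).mp ⟨T, hT, rfl⟩
    obtain ⟨ζ, -, hζmax, hζd⟩ := h1
    rw [hζd, h ζ hζmax]

/-- Relative dimensions add under composition when the first morphism is flat. -/
theorem hasRelDim_comp {X Y Z : Scheme.{u}} (f : X ⟶ Y) (g : Y ⟶ Z) [LocallyOfFiniteType f]
    [LocallyOfFiniteType g] [Flat f] (d e : ℕ) (hf : Cyc.HasRelDim f d)
    (hg : Cyc.HasRelDim g e) : Cyc.HasRelDim (f ≫ g) (d + e) := by
  rw [hasRelDim_iff_forall_maximal] at hf hg ⊢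
  intro ζ hζ
  rw [resTrdegNat_comp f g ζ]
  have h1 : resTrdegNat f ζ = d := by
    apply hf
    intro t ht hft
    apply hζ t ht
    change g (f t) = g (f ζ)
    rw [hft]
  have h2 : resTrdegNat g (f ζ) = e := by
    apply hg
    intro y' hy' hgy'
    obtain ⟨t, ht, hft⟩ := Flat.generalizingMap f hy'
    have := hζ t ht (by change g (f t) = g (f ζ); rw [hft, hgy'])
    rw [← hft, this]
  omega





lemma iSup_add_le_withBot {ι : Sort*} (a : ι → WithBot ℕ∞) (d : ℕ) (N : WithBot ℕ∞)
    (h : ∀ i, a i + (d : WithBot ℕ∞) ≤ N) : (⨆ i, a i) + (d : WithBot ℕ∞) ≤ N := by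
  by_cases hall : ∀ i, a i = ⊥
  · have : (⨆ i, a i) = ⊥ := by
      rw [iSup_eq_bot]; exact hall
    rw [this, WithBot.bot_add]; exact bot_le
  · push Not at hall
    obtain ⟨i₀, hi₀⟩ := hall
    induction N with
    | bot =>
      exfalso
      have := h i₀
      rw [le_bot_iff, WithBot.add_eq_bot] at this
      rcases this with h1 | h1
      · exact hi₀ h1
      · exact WithBot.natCast_ne_bot d h1
    | coe N =>
      induction N with
      | top => exact le_top
      | coe n =>
        have hdn : d ≤ n := by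
          have := h i₀
          obtain ⟨m, hm⟩ := WithBot.ne_bot_iff_exists.mp hi₀
          rw [← hm] at this
          have h2 : (m : ℕ∞) + (d : ℕ∞) ≤ (n : ℕ∞) := by exact_mod_cast this
          have h3 : (d : ℕ∞) ≤ (n : ℕ∞) := le_trans le_add_self h2
          exact_mod_cast h3
        have hle : (⨆ i, a i) ≤ (((n - d : ℕ) : ℕ∞) : WithBot ℕ∞) := by
          refine iSup_le fun i => ?_
          have := h i
          induction hai : a i with
          | bot => exact bot_le
          | coe m =>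
            rw [hai] at this
            have h2 : (m : ℕ∞) + (d : ℕ∞) ≤ (n : ℕ∞) := by exact_mod_cast this
            induction m with
            | top => simp at h2
            | coe m =>
              have h3 : m + d ≤ n := by exact_mod_cast h2
              have h4 : m ≤ n - d := by omega
              exact_mod_cast h4
        calc (⨆ i, a i) + (d : WithBot ℕ∞) ≤ (((n - d : ℕ) : ℕ∞) : WithBot ℕ∞) + (d : WithBot ℕ∞) := by
              gcongr
          _ = ((n : ℕ∞) : WithBot ℕ∞) := by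
              have : (n - d) + d = n := by omega
              exact_mod_cast this


/-- The dimension of an open subset of a scheme is the supremum of the dimensions of the local
rings at its points. -/
theorem topologicalKrullDim_opens_eq_iSup_stalk {X : Scheme.{u}} (U : X.Opens) :
    topologicalKrullDim ↥(U : Set X) = ⨆ x : ↥(U : Set X), ringKrullDim (X.presheaf.stalk x.1) := by
  have h := topologicalKrullDim_eq_iSup_stalk (U : Scheme.{u})
  change topologicalKrullDim ↥(U : Scheme.{u}) = _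
  rw [h]
  refine iSup_congr fun x => ?_
  exact ringKrullDim_eq_of_ringEquiv (U.stalkIso x).commRingCatIsoToRingEquiv

/-- Under relative dimension `d`, every fibre has local dimension `d` at every point. -/
theorem fibreDimAt_eq_of_hasRelDim {X Y : Scheme.{u}} (f : X ⟶ Y) [LocallyOfFiniteType f]
    (d : ℕ) (hd : Cyc.HasRelDim f d) (x : X) : FlatMor.fibreDimAt f x = (d : WithBot ℕ∞) := by
  rw [hasRelDim_iff_forall_maximal] at hd
  exact fibreDimAt_eq_of_forall_maximal f x d fun ζ _ _ hζ => hd ζ hζ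

/-- Every point of an open subset specializes, inside its fibre and inside the open subset, to a
point of residual transcendence degree zero. -/
theorem exists_specializes_resTrdegNat_eq_zero {X Y : Scheme.{u}} (f : X ⟶ Y)
    [LocallyOfFiniteType f] (U : X.Opens) (a₀ : X) (ha₀ : a₀ ∈ U) :
    ∃ a ∈ U, a₀ ⤳ a ∧ f a = f a₀ ∧ resTrdegNat f a = 0 := by
  have hδ := isDimFun_trdegNat (k := Y.residueField (f a₀)) (f.fiberToSpecResidueField (f a₀))
  have hW : IsOpen ((f.fiberι (f a₀)) ⁻¹' (U : Set X)) :=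
    U.isOpen.preimage (f.fiberι (f a₀)).continuous
  have hx : f.asFiber a₀ ∈ (f.fiberι (f a₀)) ⁻¹' (U : Set X) := by
    change f.fiberι (f a₀) (f.asFiber a₀) ∈ U
    rw [f.fiberι_asFiber a₀]; exact ha₀
  obtain ⟨z, hzW, hxz, hz0⟩ := hδ.exists_specializes_zero hW hx
  refine ⟨f.fiberι (f a₀) z, hzW, ?_, ?_, ?_⟩
  · have := hxz.map (f.fiberι (f a₀)).continuous
    rwa [f.fiberι_asFiber a₀] at this
  · have : f.fiberι (f a₀) z ∈ Set.range (f.fiberι (f a₀)) := ⟨z, rfl⟩
    rw [f.range_fiberι (f a₀)] at this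
    exact this
  · rw [← trdegNat_fiber_eq_resTrdegNat]; exact hz0

section Noeth

variable {X Y : Scheme.{u}} [IsLocallyNoetherian X] [IsLocallyNoetherian Y] (f : X ⟶ Y)
  [Flat f] [LocallyOfFiniteType f] (d : ℕ) (hd : Cyc.HasRelDim f d)
include hd

theorem ringKrullDim_stalk_le_of_hasRelDim (a : X) :
    ringKrullDim (X.presheaf.stalk a) ≤ ringKrullDim (Y.presheaf.stalk (f a)) + (d : WithBot ℕ∞) := by
  rw [Groth.Agent.Lib.Helper67.FiberStalk.ringKrullDim_stalk_eq_add f a (Flat.stalkMap f a)]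
  have h1 := fibreDimAt_eq_of_hasRelDim f d hd a
  rw [fibreDimAt_eq] at h1
  gcongr
  rw [← h1]
  exact le_add_of_nonneg_right (Nat.cast_nonneg _)

theorem ringKrullDim_stalk_eq_of_hasRelDim (a : X) (ha : resTrdegNat f a = 0) :
    ringKrullDim (X.presheaf.stalk a) = ringKrullDim (Y.presheaf.stalk (f a)) + (d : WithBot ℕ∞) := by
  rw [Groth.Agent.Lib.Helper67.FiberStalk.ringKrullDim_stalk_eq_add f a (Flat.stalkMap f a)]
  have h1 := fibreDimAt_eq_of_hasRelDim f d hd a
  rw [fibreDimAt_eq, ha] at h1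
  congr 1
  rw [← h1]
  simp

/-- `dim f⁻¹(V) ≤ dim V + d`. -/
theorem topologicalKrullDim_preimage_le_of_hasRelDim (V : Y.Opens) :
    topologicalKrullDim ↥((f ⁻¹ᵁ V : X.Opens) : Set X) ≤
      topologicalKrullDim ↥(V : Set Y) + (d : WithBot ℕ∞) := by
  rw [topologicalKrullDim_opens_eq_iSup_stalk, topologicalKrullDim_opens_eq_iSup_stalk]
  refine iSup_le fun a => ?_
  refine (ringKrullDim_stalk_le_of_hasRelDim f d hd a.1).trans ?_
  gcongr
  exact le_iSup (fun b : ↥(V : Set Y) => ringKrullDim (Y.presheaf.stalk b.1)) ⟨f a.1, a.2⟩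

/-- `dim f(U) + d ≤ dim U`. -/
theorem topologicalKrullDim_image_add_le_of_hasRelDim (U : X.Opens) (V : Y.Opens)
    (hV : (V : Set Y) ⊆ f '' (U : Set X)) :
    topologicalKrullDim ↥(V : Set Y) + (d : WithBot ℕ∞) ≤ topologicalKrullDim ↥(U : Set X) := by
  have key : ∀ b : ↥(V : Set Y), ringKrullDim (Y.presheaf.stalk b.1) + (d : WithBot ℕ∞) ≤
      topologicalKrullDim ↥(U : Set X) := by
    intro b
    obtain ⟨a₀, ha₀U, ha₀b⟩ := hV b.2
    obtain ⟨a, haU, -, hfa, ha0⟩ := exists_specializes_resTrdegNat_eq_zero f U a₀ ha₀U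
    have h1 := ringKrullDim_stalk_eq_of_hasRelDim f d hd a ha0
    rw [hfa, ha₀b] at h1
    rw [← h1, topologicalKrullDim_opens_eq_iSup_stalk]
    exact le_iSup (fun a : ↥(U : Set X) => ringKrullDim (X.presheaf.stalk a.1)) ⟨a, haU⟩
  rw [topologicalKrullDim_opens_eq_iSup_stalk V]
  exact iSup_add_le_withBot _ d _ key

/-- EGA/Stacks: for a flat morphism locally of finite type of relative dimension `d` between locally
Noetherian schemes, `dim_x X = dim_{f x} Y + d`. -/
theorem localDim_eq_add_of_hasRelDim (x : X) :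
    FlatMor.localDim ↑X x = FlatMor.localDim ↑Y (f.base x) + (d : WithBot ℕ∞) := by
  apply le_antisymm
  · have : Nonempty {V : TopologicalSpace.Opens Y // f x ∈ V} := ⟨⟨⊤, trivial⟩⟩
    obtain ⟨V, hV⟩ := ciInf_mem (fun V : {V : TopologicalSpace.Opens Y // f x ∈ V} =>
      topologicalKrullDim ↥(V.1 : Set Y))
    change _ = FlatMor.localDim ↑Y (f.base x) at hV
    rw [← hV]
    refine le_trans ?_ (topologicalKrullDim_preimage_le_of_hasRelDim f d hd V.1)
    exact iInf_le (fun U : {U : TopologicalSpace.Opens X // x ∈ U} =>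
      topologicalKrullDim ↥(U.1 : Set X)) ⟨f ⁻¹ᵁ V.1, V.2⟩
  · unfold FlatMor.localDim
    refine le_iInf fun U => ?_
    have hopen : IsOpen (f '' (U.1 : Set X)) := f.isOpenMap _ U.1.isOpen
    let V : Y.Opens := ⟨f '' (U.1 : Set X), hopen⟩
    refine le_trans ?_ (topologicalKrullDim_image_add_le_of_hasRelDim f d hd U.1 V le_rfl)
    gcongr
    exact iInf_le (fun V : {V : TopologicalSpace.Opens Y // f x ∈ V} =>
      topologicalKrullDim ↥(V.1 : Set Y)) ⟨V, ⟨x, U.2, rfl⟩⟩

end Noeth


end Groth.Agent.Lib.Helper73
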