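import Groth.Agent.Lib.Helper73.DimFormula.OpenFT

/-!
# Cutting an equidimensional morphism by an irreducible closed subset (helper73)

* `resTrdegNat_le_fibreDimAt_of_specializes'` (Chevalley's lower bound),
  `localDim_interFiber_eq_fibreDimAt_comp`.
* `equidim_closure_of_codim_le` (EGA IV 13.3.x): if `f` is equidimensional at `x`, `x' ⤳ x` has
  `dim O_{X,x'} ≤ n` and the fibre of `closure {x'}` at `x` has dimension `≤ dim_x X_{f x} - n`,
  then equalities hold and `closure {x'} ⟶ Y` is equidimensional at `x`.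
-/

set_option autoImplicit false
open CategoryTheory AlgebraicGeometry TopologicalSpace Topology
universe u

namespace Groth.Agent.Lib.Helper73

/-- Chevalley's lower bound: the fibre dimension at a specialization is at least the residual
transcendence degree of the generization. -/
lemma resTrdegNat_le_fibreDimAt_of_specializes' {Z Y : Scheme.{u}} (g : Z ⟶ Y)
    [LocallyOfFiniteType g] (ξ w : Z) (h : ξ ⤳ w) :
    ((resTrdegNat g ξ : ℕ) : WithBot ℕ∞) ≤ FlatMor.fibreDimAt g w := by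
  obtain ⟨d, hd⟩ := exists_fibreDimAt_eq_natCast g w
  have hopen := isOpen_fibreDimAt_le d Z Y g
  have hmem : ξ ∈ {x' : Z | FlatMor.fibreDimAt g x' ≤ ((d : ℕ) : WithBot ℕ∞)} :=
    h.mem_open hopen (by rw [Set.mem_setOf_eq, hd])
  rw [hd]
  exact (resTrdegNat_le_fibreDimAt g ξ).trans hmem

/-- The local dimension at `x` of `closure {ξ'} ∩ f⁻¹(f x)` is the local fibre dimension of a
subscheme supported on `closure {ξ'}`. -/
theorem localDim_interFiber_eq_fibreDimAt_comp {X Y Z : Scheme.{u}} [IsLocallyNoetherian X]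
    (f : X ⟶ Y) [LocallyOfFiniteType f] (ξ' : X)
    (i : Z ⟶ X) [IsPreimmersion i] [LocallyOfFiniteType (i ≫ f)]
    (hi : Set.range i = closure ({ξ'} : Set X)) (w : Z)
    (hx : i w ∈ closure ({ξ'} : Set X) ∩ f ⁻¹' {f (i w)}) :
    FlatMor.localDim ↥(closure ({ξ'} : Set X) ∩ f ⁻¹' {f (i w)}) ⟨i w, hx⟩ =
      FlatMor.fibreDimAt (i ≫ f) w := by
  obtain ⟨n', hn'⟩ := exists_ringKrullDim_fiber_stalk_eq_natCast (i ≫ f) w
  have hT3 := ringKrullDim_fiber_stalk_eq_krullDim_of_range_eq_closure i ξ' hi f w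
  rw [fibreDimAt_eq (i ≫ f) w, hn', resTrdegNat_comp_of_isPreimmersion,
    localDim_interFiber_eq f _ _ isClosed_closure]
  have h1 := coheight_interFiber_eq_krullDim f ξ' (i w) hx
  rw [← hT3, hn'] at h1
  have h2 : @Order.coheight _ (specializationPreorder _)
      (⟨i w, hx⟩ : ↥(closure ({ξ'} : Set X) ∩ f ⁻¹' {f (i w)})) = (n' : ℕ∞) := by
    exact_mod_cast h1
  rw [h2]
  push_cast; rfl

/-- EGA IV 13.3.x / 14.x: cutting an equidimensional morphism by an irreducible closed subset of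
small codimension and small fibre dimension. -/
theorem equidim_closure_of_codim_le {X Y Z : Scheme.{u}} [IsLocallyNoetherian Y]
    (f : X ⟶ Y) [LocallyOfFiniteType f] (x : X) (hf : EGA43.IsEquidimAt f x)
    (x' : X) (hx'x : x' ⤳ x) (i : Z ⟶ X) [IsPreimmersion i] [LocallyOfFiniteType (i ≫ f)]
    (hi : Set.range i = closure ({x'} : Set X)) (w : Z) (hw : i w = x) (n : ℕ)
    (hcodim : ringKrullDim (X.presheaf.stalk x') ≤ n)
    (hdim : FlatMor.fibreDimAt (i ≫ f) w + n ≤ FlatMor.fibreDimAt f x) :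
    ringKrullDim (X.presheaf.stalk x') = n ∧
      FlatMor.fibreDimAt (i ≫ f) w + n = FlatMor.fibreDimAt f x ∧
      EGA43.IsEquidimAt (i ≫ f) w := by
  have hLN : IsLocallyNoetherian X := LocallyOfFiniteType.isLocallyNoetherian f
  obtain ⟨e, U, hxU, hA, hB⟩ := (isEquidimAt_iff f x).mp hf
  have hfd : FlatMor.fibreDimAt f x = e := by
    apply fibreDimAt_eq_of_forall_maximal
    intro ζ hζx _ hζmax
    exact hB ζ (hζx.mem_open U.isOpen hxU) hζmax
  have hx'U : x' ∈ U := hx'x.mem_open U.isOpen hxU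
  obtain ⟨ζ', hζ'x', hfζ', hζ'max⟩ := exists_maximal_fiber_specializes f x'
  have hζ'U : ζ' ∈ U := hζ'x'.mem_open U.isOpen hx'U
  have hrζ' : resTrdegNat f ζ' = e := hB ζ' hζ'U hζ'max
  obtain ⟨c, hc⟩ := exists_codim_eq_natCast ζ' x' hζ'x'
  obtain ⟨D, hD⟩ := exists_ringKrullDim_stalk_eq_natCast x'
  have h4 := resTrdegNat_le_codim_add f ζ' x' hζ'x' hfζ'
  rw [hc] at h4
  have h4' : resTrdegNat f ζ' ≤ c + resTrdegNat f x' := by exact_mod_cast h4
  have hcD : c ≤ D := by
    have := codim_le_ringKrullDim_stalk ζ' x'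
    rw [hc, hD] at this
    exact_mod_cast this
  have hDn : D ≤ n := by
    rw [hD] at hcodim
    exact_mod_cast hcodim
  -- the generic point of `Z`
  obtain ⟨ξ'', hξ'', hgen⟩ := exists_generic_of_range_eq_closure i x' hi
  obtain ⟨l, hl⟩ := exists_fibreDimAt_eq_natCast (i ≫ f) w
  have h5 := resTrdegNat_le_fibreDimAt_of_specializes' (i ≫ f) ξ'' w (hgen w)
  rw [resTrdegNat_comp_of_isPreimmersion, hξ'', hl] at h5
  have h5' : resTrdegNat f x' ≤ l := by exact_mod_cast h5
  rw [hl, hfd] at hdim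
  have hdim' : l + n ≤ e := by exact_mod_cast hdim
  have hDeq : D = n := by omega
  have hceq : c = n := by omega
  have hleq : l = resTrdegNat f x' := by omega
  refine ⟨by rw [hD, hDeq], by rw [hl, hfd]; exact_mod_cast (by omega : l + n = e), ?_⟩
  rw [isEquidimAt_iff_of_generic (i ≫ f) ξ'' hgen w]
  constructor
  · obtain ⟨ξ, hξζ', hξmax⟩ := exists_maximal_specializes ζ'
    have hξU : ξ ∈ U := hξζ'.mem_open U.isOpen hζ'U
    have hfξmax := (hA ξ hξU hξmax).1
    have hfeq : f ξ = f ζ' := by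
      by_contra hne
      have hne' : ξ ≠ ζ' := fun h => hne (by rw [h])
      have h6 := one_le_codim ξ ζ' hξζ' hne'
      have h7 := codim_add_le ξ ζ' x' hξζ' hζ'x'
      have h8 := codim_le_ringKrullDim_stalk ξ x'
      obtain ⟨c', hc'⟩ := exists_codim_eq_natCast ξ ζ' hξζ'
      obtain ⟨c'', hc''⟩ := exists_codim_eq_natCast ξ x' (hξζ'.trans hζ'x')
      rw [hc'] at h6 h7
      rw [hc, hc''] at h7
      rw [hc'', hD] at h8
      have h6' : 1 ≤ c' := by exact_mod_cast h6
      have h7' : c' + c ≤ c'' := by exact_mod_cast h7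
      have h8' : c'' ≤ D := by exact_mod_cast h8
      omega
    have : (i ≫ f) ξ'' = f ξ := by
      change f (i ξ'') = f ξ
      rw [hξ'', hfeq, hfζ']
    rw [this]
    exact hfξmax
  · rw [hl, resTrdegNat_comp_of_isPreimmersion, hξ'', hleq]

end Groth.Agent.Lib.Helper73
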