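import Groth.Agent.Lib.Helper73.DimFormula.FieldExt
import Groth.Agent.Lib.Helper73.DimFormula.CutEquidim
import Mathlib.AlgebraicGeometry.Morphisms.Flat
import Groth.Prelude.Def_Cyc

/-!
# Dimensions of fibres under base change (helper73)

For a pullback square `X' = X ×_{Spec k} Spec K` over a field extension `K/k` (any, given as a
ring homomorphism `ι : k →+* K`), with `X` locally of finite type over `k`:

* `trdegNat_le_of_isPullback`, `trdegNat_eq_of_isPullback_of_maximal`,
  `maximal_map_of_isPullback_field`, `localDim_eq_of_isPullback_field`,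
  `flat_of_isPullback_field`, `universallyOpen_of_isPullback_field`.

For an arbitrary pullback square `X' = X ×_S S'` with `f : X ⟶ S` locally of finite type:

* `localDim_fiber_eq_fibreDimAt`, `fiberMapOfIsPullback`, `fiberMapOfIsPullback_fiberι`.
* `fibreDimAt_eq_of_isPullback`: the fibre dimension at a point is invariant under base change.
* `hasRelDim_of_isPullback`.
-/

set_option autoImplicit false
open CategoryTheory AlgebraicGeometry TopologicalSpace Topology Limits
universe u

namespace Groth.Agent.Lib.Helper73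

section SchemeFE

variable {k K : Type u} [Field k] [Field K] (ι : k →+* K) {X X' : Scheme.{u}}
  (f : X ⟶ Spec (CommRingCat.of k)) [LocallyOfFiniteType f]
  (f' : X' ⟶ Spec (CommRingCat.of K)) [LocallyOfFiniteType f']
  (π : X' ⟶ X) (hsq : IsPullback π f' f (Spec.map (CommRingCat.ofHom ι)))

omit [LocallyOfFiniteType f] [LocallyOfFiniteType f'] in
include hsq in
lemma isAffineHom_of_isPullback_field : IsAffineHom π :=
  MorphismProperty.of_isPullback hsq.flip (inferInstance : IsAffineHom (Spec.map _))

include hsq in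
/-- Under extension of the base field, the transcendence degree of residue fields does not
increase. -/
theorem trdegNat_le_of_isPullback (x' : X') : trdegNat f' x' ≤ trdegNat f (π x') := by
  have : IsAffineHom π := isAffineHom_of_isPullback_field ι f f' π hsq
  obtain ⟨V, hV, hxV, -⟩ :=
    exists_isAffineOpen_mem_and_subset (X := X) (x := π x') (U := ⊤) trivial
  have hV' : IsAffineOpen (π ⁻¹ᵁ V) := hV.preimage π
  have hx' : x' ∈ Set.range hV'.fromSpec := by rw [hV'.range_fromSpec]; exact hxV
  obtain ⟨q', rfl⟩ := hx'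
  have hnat : Spec.map (π.app V) ≫ hV.fromSpec = hV'.fromSpec ≫ π := by
    have := IsAffineOpen.SpecMap_appLE_fromSpec π hV hV' le_rfl
    rwa [← Scheme.Hom.app_eq_appLE] at this
  have hpt : π (hV'.fromSpec q') = hV.fromSpec (Spec.map (π.app V) q') := by
    rw [← Scheme.Hom.comp_apply, ← hnat, Scheme.Hom.comp_apply]
  rw [hpt, chart_trdegNat f' hV' q', chart_trdegNat f hV]
  -- the pushout square of rings
  have hUST : (⊤ : (Spec (CommRingCat.of K)).Opens) ≤ (Spec.map (CommRingCat.ofHom ι)) ⁻¹ᵁ ⊤ := le_top
  have hUSX : V ≤ f ⁻¹ᵁ ⊤ := le_top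
  have hUY : π ⁻¹ᵁ V = π ⁻¹ᵁ V ⊓ f' ⁻¹ᵁ ⊤ := by simp
  have hPO := (isIso_pushoutSection_iff hsq hUST hUSX hUY).mp
    (isIso_pushoutSection_of_isAffineOpen hsq hUST hUSX hUY (isAffineOpen_top _)
      (isAffineOpen_top _) hV)
  -- algebra structures
  let a₀ : Γ(Spec (CommRingCat.of k), ⊤) ⟶ Γ(X, V) := Scheme.Hom.appLE f ⊤ V hUSX
  let b₀ : Γ(Spec (CommRingCat.of k), ⊤) ⟶ Γ(Spec (CommRingCat.of K), ⊤) :=
    Scheme.Hom.appLE (Spec.map (CommRingCat.ofHom ι)) ⊤ ⊤ hUST
  let c₀ : Γ(X, V) ⟶ Γ(X', π ⁻¹ᵁ V) := Scheme.Hom.appLE π V (π ⁻¹ᵁ V) le_rfl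
  let d₀ : Γ(Spec (CommRingCat.of K), ⊤) ⟶ Γ(X', π ⁻¹ᵁ V) :=
    Scheme.Hom.appLE f' ⊤ (π ⁻¹ᵁ V) (by simp)
  have hPO' : IsPushout a₀ b₀ c₀ d₀ := hPO
  have hc₀ : c₀ = π.app V := Scheme.Hom.appLE_eq_app π
  let algA : Algebra k Γ(X, V) := ((Scheme.ΓSpecIso (CommRingCat.of k)).inv ≫ a₀).hom.toAlgebra
  let algA' : Algebra K Γ(X', π ⁻¹ᵁ V) :=
    ((Scheme.ΓSpecIso (CommRingCat.of K)).inv ≫ d₀).hom.toAlgebra
  have hft : Algebra.FiniteType k Γ(X, V) := by
    have h1 : a₀.hom.FiniteType := Scheme.Hom.finiteType_appLE f (isAffineOpen_top _) hV hUSX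
    have h2 : ((Scheme.ΓSpecIso (CommRingCat.of k)).inv).hom.FiniteType :=
      RingHom.FiniteType.of_surjective _
        ((ConcreteCategory.bijective_of_isIso (Scheme.ΓSpecIso (CommRingCat.of k)).inv).2)
    have h3 : ((Scheme.ΓSpecIso (CommRingCat.of k)).inv ≫ a₀).hom.FiniteType := h1.comp h2
    exact h3
  have hb₀ : (CommRingCat.ofHom ι) ≫ (Scheme.ΓSpecIso (CommRingCat.of K)).inv =
      (Scheme.ΓSpecIso (CommRingCat.of k)).inv ≫ b₀ := by
    have := Scheme.ΓSpecIso_inv_naturality (CommRingCat.ofHom ι)
    rw [this]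
    rfl
  have hφ : ∀ c : k, c₀.hom (algebraMap k Γ(X, V) c) = algebraMap K Γ(X', π ⁻¹ᵁ V) (ι c) := by
    intro c
    change ((Scheme.ΓSpecIso (CommRingCat.of k)).inv ≫ a₀ ≫ c₀).hom c =
      (CommRingCat.ofHom ι ≫ (Scheme.ΓSpecIso (CommRingCat.of K)).inv ≫ d₀).hom c
    rw [hPO'.w, ← Category.assoc, ← hb₀, Category.assoc]
  have hgen : Algebra.adjoin K (Set.range c₀.hom) = ⊤ := by
    have hcl := CommRingCat.closure_range_union_range_eq_top_of_isPushout hPO'
    rw [← top_le_iff]
    intro x _
    have hx : x ∈ Subring.closure (Set.range c₀ ∪ Set.range d₀) := by rw [hcl]; trivial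
    have hle : Subring.closure (Set.range c₀ ∪ Set.range d₀) ≤
        (Algebra.adjoin K (Set.range c₀.hom)).toSubring := by
      rw [Subring.closure_le]
      rintro y (⟨a, rfl⟩ | ⟨b, rfl⟩)
      · exact Algebra.subset_adjoin ⟨a, rfl⟩
      · have : d₀ b = algebraMap K Γ(X', π ⁻¹ᵁ V) ((Scheme.ΓSpecIso (CommRingCat.of K)).hom b) := by
          change d₀ b = ((Scheme.ΓSpecIso (CommRingCat.of K)).inv ≫ d₀).hom
            ((Scheme.ΓSpecIso (CommRingCat.of K)).hom b)
          rw [CommRingCat.comp_apply, ← CommRingCat.comp_apply (Scheme.ΓSpecIso _).hom,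
            Iso.hom_inv_id]
          rfl
        rw [this]
        exact Subalgebra.algebraMap_mem _ _
    exact hle hx
  have : q'.asIdeal.IsPrime := q'.isPrime
  have hmain := ringKrullDim_quotient_le_of_adjoin_eq_top ι c₀.hom hφ hgen q'.asIdeal
  let _ := chartAlgebra f' hV'
  have := chart_finiteType f' hV'
  rw [← coe_quotDim K q'] at hmain
  have h2 := coe_quotDim k (Spec.map (π.app V) q')
  have h3 : (Spec.map (π.app V) q').asIdeal = q'.asIdeal.comap c₀.hom := by
    rw [hc₀]; rfl
  rw [h3] at h2
  rw [← h2] at hmain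
  exact_mod_cast hmain

omit [LocallyOfFiniteType f] [LocallyOfFiniteType f'] in
include hsq in
lemma flat_of_isPullback_field : Flat π := by
  have : Subsingleton ↥(Spec (CommRingCat.of k)) :=
    inferInstanceAs (Subsingleton (PrimeSpectrum k))
  exact MorphismProperty.of_isPullback hsq.flip (inferInstance : Flat (Spec.map _))

omit [LocallyOfFiniteType f] [LocallyOfFiniteType f'] in
include hsq in
lemma universallyOpen_of_isPullback_field : UniversallyOpen π := by
  have : Subsingleton ↥(Spec (CommRingCat.of k)) :=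
    inferInstanceAs (Subsingleton (PrimeSpectrum k))
  exact MorphismProperty.of_isPullback hsq.flip (inferInstance : UniversallyOpen (Spec.map _))

include hsq in
/-- Under extension of the base field, the transcendence degree of the residue field is preserved
at points without proper generizations. -/
theorem trdegNat_eq_of_isPullback_of_maximal (ζ' : X') (hmax : ∀ t : X', t ⤳ ζ' → t = ζ') :
    trdegNat f' ζ' = trdegNat f (π ζ') := by
  have := flat_of_isPullback_field ι f f' π hsq
  have := universallyOpen_of_isPullback_field ι f f' π hsq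
  exact (isDimFun_trdegNat f).eq_of_maximal (isDimFun_trdegNat f') π (Flat.generalizingMap π)
    π.isOpenMap (trdegNat_le_of_isPullback ι f f' π hsq)
    (fun x' => exists_open_forall_exists_generic_scheme f' x') ζ' hmax

omit [LocallyOfFiniteType f] [LocallyOfFiniteType f'] in
include hsq in
/-- Under extension of the base field, points without proper generizations map to such points. -/
theorem maximal_map_of_isPullback_field (ζ' : X') (hmax : ∀ t : X', t ⤳ ζ' → t = ζ') :
    ∀ t : X, t ⤳ π ζ' → t = π ζ' := by
  have := flat_of_isPullback_field ι f f' π hsq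
  exact IsDimFun.maximal_map_of_generalizingMap π (Flat.generalizingMap π) ζ' hmax

include hsq in
/-- Invariance of the local dimension under extension of the base field. -/
theorem localDim_eq_of_isPullback_field (x' : X') :
    FlatMor.localDim X' x' = FlatMor.localDim X (π x') := by
  have := flat_of_isPullback_field ι f f' π hsq
  have := universallyOpen_of_isPullback_field ι f f' π hsq
  obtain ⟨W', hW', hxW', hLN'⟩ := exists_open_forall_exists_generic_scheme f' x'
  obtain ⟨W, hW, hxW, hLN⟩ := exists_open_forall_exists_generic_scheme f (π x')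
  have h1 := (isDimFun_trdegNat f').iInf_topologicalKrullDim_eq x' W' hW' hxW' hLN'
  have h2 := (isDimFun_trdegNat f).iInf_topologicalKrullDim_eq (π x') W hW hxW hLN
  change FlatMor.localDim X' x' = _ at h1
  change FlatMor.localDim X (π x') = _ at h2
  rw [h1, h2]
  congr 1
  exact (isDimFun_trdegNat f).coheight_add_eq_of_generalizingMap (isDimFun_trdegNat f') π
    π.continuous (Flat.generalizingMap π) π.isOpenMap (trdegNat_le_of_isPullback ι f f' π hsq)
    (fun x' => exists_open_forall_exists_generic_scheme f' x') x'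

end SchemeFE

/-- The local dimension of a fibre at one of its points is the fibre dimension at the image point. -/
lemma localDim_fiber_eq_fibreDimAt {X Y : Scheme.{u}} (f : X ⟶ Y) (x : X) :
    ∀ (y : Y) (_ : f x = y) (z : f.fiber y), f.fiberι y z = x →
      FlatMor.localDim (f.fiber y) z = FlatMor.fibreDimAt f x := by
  intro y hy
  subst hy
  intro z hz
  have : z = f.asFiber x := by
    apply (f.fiberι (f x)).isEmbedding.injective
    rw [hz, f.fiberι_asFiber x]
  rw [this]
  rfl

section BaseChange

variable {X S X' S' : Scheme.{u}} (f : X ⟶ S) [LocallyOfFiniteType f] (g : S' ⟶ S)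
    (g' : X' ⟶ X) (f' : X' ⟶ S') (hsq : IsPullback g' f' f g)

/-- The comparison morphism between the fibres of a base change. -/
noncomputable abbrev fiberMapOfIsPullback (y' : S') : f'.fiber y' ⟶ f.fiber (g y') :=
  pullback.map _ _ _ _ g' (Spec.map (g.residueFieldMap y')) g hsq.w.symm (by simp)

omit [LocallyOfFiniteType f] in
lemma fiberMapOfIsPullback_fiberι (y' : S') :
    fiberMapOfIsPullback f g g' f' hsq y' ≫ f.fiberι (g y') = f'.fiberι y' ≫ g' := by
  exact pullback.lift_fst _ _ _

include hsq in
lemma locallyOfFiniteType_of_isPullback' : LocallyOfFiniteType f' :=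
  MorphismProperty.of_isPullback hsq ‹_›

include hsq in
/-- The fibre dimension is invariant under base change. -/
theorem fibreDimAt_eq_of_isPullback (x' : X') :
    FlatMor.fibreDimAt f' x' = FlatMor.fibreDimAt f (g' x') := by
  have hlft : LocallyOfFiniteType f' := locallyOfFiniteType_of_isPullback' f g g' f' hsq
  have hP := isPullback_fiberToSpecResidueField_of_isPullback hsq (f' x')
  have h1 := localDim_eq_of_isPullback_field (k := S.residueField (g (f' x')))
    (K := S'.residueField (f' x')) (g.residueFieldMap (f' x')).hom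
    (f.fiberToSpecResidueField (g (f' x'))) (f'.fiberToSpecResidueField (f' x'))
    (fiberMapOfIsPullback f g g' f' hsq (f' x')) hP (f'.asFiber x')
  change FlatMor.fibreDimAt f' x' = _ at h1
  rw [h1]
  apply localDim_fiber_eq_fibreDimAt f (g' x') (g (f' x'))
  · have := congrArg (fun φ => φ x') hsq.w
    exact this
  · have := congrArg (fun φ => φ (f'.asFiber x')) (fiberMapOfIsPullback_fiberι f g g' f' hsq (f' x'))
    simp only [Scheme.Hom.comp_apply] at this
    rw [this, f'.fiberι_asFiber x']

include hsq in
/-- Relative dimension `d` (all irreducible components of all fibres of dimension `d`) is stable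
under base change. -/
theorem hasRelDim_of_isPullback (d : ℕ) (h : Cyc.HasRelDim f d) : Cyc.HasRelDim f' d := by
  intro y' T hT
  have hlft : LocallyOfFiniteType f' := locallyOfFiniteType_of_isPullback' f g g' f' hsq
  obtain ⟨ζ', hζ'T, hζ'max⟩ := exists_maximal_of_mem_irreducibleComponents T hT
  have hP := isPullback_fiberToSpecResidueField_of_isPullback hsq y'
  have h1 : topologicalKrullDim ↥T = ((trdegNat (k := S'.residueField y')
      (f'.fiberToSpecResidueField y') ζ' : ℕ∞) : WithBot ℕ∞) := by
    rw [← hζ'T]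
    exact (isDimFun_trdegNat (k := S'.residueField y')
      (f'.fiberToSpecResidueField y')).topologicalKrullDim_closure_singleton ζ'
  have h2 := trdegNat_eq_of_isPullback_of_maximal (k := S.residueField (g y'))
    (K := S'.residueField y') (g.residueFieldMap y').hom
    (f.fiberToSpecResidueField (g y')) (f'.fiberToSpecResidueField y')
    (fiberMapOfIsPullback f g g' f' hsq y') hP ζ' hζ'max
  have h3 := maximal_map_of_isPullback_field (k := S.residueField (g y'))
    (K := S'.residueField y') (g.residueFieldMap y').hom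
    (f.fiberToSpecResidueField (g y')) (f'.fiberToSpecResidueField y')
    (fiberMapOfIsPullback f g g' f' hsq y') hP ζ' hζ'max
  have h4 := closure_singleton_mem_irreducibleComponents_of_maximal _ h3
  have h5 := h (g y') _ h4
  rw [(isDimFun_trdegNat (k := S.residueField (g y'))
      (f.fiberToSpecResidueField (g y'))).topologicalKrullDim_closure_singleton] at h5
  rw [h1, h2]
  exact h5

end BaseChange

end Groth.Agent.Lib.Helper73
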