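import Groth.Agent.Lib.Helper73.DimFormula.FiberCut

/-!
# Hypersurface sections of equidimensional morphisms (helper73)

* `ringKrullDim_stalk_le_one_of_maximal_zeroLocus`: Krull's principal ideal theorem on schemes.
* `exists_maximal_fiber_specializes`, `resTrdegNat_lt_of_specializes_fiber`,
  `resTrdegNat_eq_add_one_of_immediate`, `immediate_of_codim_eq_one`,
  `resTrdegNat_comp_of_isPreimmersion`, `exists_maximal_specializes_of_isClosed`.
* `resTrdegNat_add_one_le_of_mem_closed`, `maximal_point_of_cut`, `isEquidimAt_of_cut`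
  (EGA IV 13.3.x): cutting an equidimensional morphism by a closed set containing no maximal
  point of the fibre.
-/

set_option autoImplicit false
open CategoryTheory AlgebraicGeometry
universe u

namespace Groth.Agent.Lib.Helper73

set_option backward.isDefEq.respectTransparency.types false in
/-- Krull's principal ideal theorem on a locally Noetherian scheme: at a maximal point of the zero
locus of a global section the local ring has dimension at most one. -/
theorem ringKrullDim_stalk_le_one_of_maximal_zeroLocus {X : Scheme.{u}} [IsLocallyNoetherian X]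
    (g : Γ(X, ⊤)) (ξ : X) (hξ : ξ ∈ X.zeroLocus ({g} : Set Γ(X, ⊤)))
    (hmax : ∀ t ∈ X.zeroLocus ({g} : Set Γ(X, ⊤)), t ⤳ ξ → t = ξ) :
    ringKrullDim (X.presheaf.stalk ξ) ≤ 1 := by
  obtain ⟨U, hU, hξU, -⟩ := exists_isAffineOpen_mem_and_subset (X := X) (x := ξ) (U := ⊤) trivial
  have hN : IsNoetherianRing Γ(X, U) := IsLocallyNoetherian.component_noetherian ⟨U, hU⟩
  let g' : Γ(X, U) := X.presheaf.map (homOfLE le_top).op g
  have hbo : X.basicOpen g' = U ⊓ X.basicOpen g := Scheme.basicOpen_res X g _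
  have hzl : ∀ t : X, t ∈ X.zeroLocus ({g} : Set Γ(X, ⊤)) ↔ t ∉ X.basicOpen g := by
    intro t
    rw [Scheme.mem_zeroLocus_iff]
    simp
  let q : Ideal Γ(X, U) := (hU.primeIdealOf ⟨ξ, hξU⟩).asIdeal
  have hgq : g' ∈ q := by
    by_contra hne
    have := (mem_basicOpen_iff_not_mem_primeIdealOf hU g' ξ hξU).mpr hne
    rw [hbo] at this
    exact (hzl ξ).mp hξ this.2
  have hmin : q ∈ (Ideal.span {g'}).minimalPrimes := by
    refine ⟨⟨(hU.primeIdealOf ⟨ξ, hξU⟩).isPrime, ?_⟩, ?_⟩
    · rw [Ideal.span_le, Set.singleton_subset_iff]; exact hgq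
    · rintro q0 ⟨hq0p, hq0g⟩ hq0q
      let y0 : Spec Γ(X, U) := ⟨q0, hq0p⟩
      let t : X := hU.fromSpec y0
      have htU : t ∈ U := fromSpec_mem hU y0
      have ht0 : hU.primeIdealOf ⟨t, htU⟩ = y0 := primeIdealOf_fromSpec hU y0
      have hg0 : g' ∈ q0 := hq0g (Ideal.subset_span rfl)
      have htz : t ∈ X.zeroLocus ({g} : Set Γ(X, ⊤)) := by
        rw [hzl]
        intro hmem
        have h1 : t ∈ X.basicOpen g' := by rw [hbo]; exact ⟨htU, hmem⟩
        rw [mem_basicOpen_iff_not_mem_primeIdealOf hU g' t htU, ht0] at h1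
        exact h1 hg0
      have htξ : t ⤳ ξ := by
        apply specializes_of_primeIdealOf_le hU t ξ htU hξU
        rw [ht0]
        exact hq0q
      have hteq := hmax t htz htξ
      have : hU.primeIdealOf ⟨t, htU⟩ = hU.primeIdealOf ⟨ξ, hξU⟩ := by
        congr 1
        exact Subtype.ext hteq
      rw [ht0] at this
      change q ≤ q0
      have h2 : q0 = q := congrArg PrimeSpectrum.asIdeal this
      rw [h2]
  have hht : q.height ≤ 1 :=
    Ideal.height_le_one_of_isPrincipal_of_mem_minimalPrimes (Ideal.span {g'}) q hmin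
  rw [ringKrullDim_stalk_eq_height hU ξ hξU]
  exact_mod_cast hht

end Groth.Agent.Lib.Helper73

namespace Groth.Agent.Lib.Helper73

/-- Every point has a generization in its fibre which is maximal in the fibre. -/
theorem exists_maximal_fiber_specializes {X Y : Scheme.{u}} (f : X ⟶ Y) (η : X) :
    ∃ ζ : X, ζ ⤳ η ∧ f ζ = f η ∧ ∀ t : X, t ⤳ ζ → f t = f ζ → t = ζ := by
  let ηb : f.fiber (f η) := f.asFiber η
  have hηb : f.fiberι (f η) ηb = η := f.fiberι_asFiber η
  obtain ⟨ζb, hζη, hζmax⟩ := exists_maximal_specializes ηb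
  obtain ⟨hfz, hzmax⟩ := fiberι_maximal_of_maximal f (f η) ζb hζmax
  refine ⟨f.fiberι (f η) ζb, ?_, hfz, fun t ht hft => hzmax t ht (hft.trans hfz)⟩
  have := hζη.map (f.fiberι (f η)).continuous
  rwa [hηb] at this

/-- Inside a fibre the residual transcendence degree strictly decreases under proper
specialization. -/
theorem resTrdegNat_lt_of_specializes_fiber {X Y : Scheme.{u}} (f : X ⟶ Y)
    [LocallyOfFiniteType f] (η ζ : X) (h1 : ζ ⤳ η) (h2 : f ζ = f η) (hne : ζ ≠ η) :
    resTrdegNat f η < resTrdegNat f ζ := by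
  have hδ := isDimFun_trdegNat (k := Y.residueField (f η)) (f.fiberToSpecResidueField (f η))
  let ζb : f.fiber (f η) := (f.fiberHomeo (f η)).symm ⟨ζ, h2⟩
  have hζb : f.fiberι (f η) ζb = ζ := f.fiberι_fiberHomeo_symm (f η) ⟨ζ, h2⟩
  have hsp : ζb ⤳ f.asFiber η := by
    rw [← (f.fiberι (f η)).isEmbedding.isInducing.specializes_iff, hζb, f.fiberι_asFiber η]
    exact h1
  have hne' : ζb ≠ f.asFiber η := by
    intro e
    apply hne
    rw [← hζb, e, f.fiberι_asFiber η]
  have := hδ.lt_of_specializes hsp hne'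
  rw [trdegNat_fiber_eq_resTrdegNat, trdegNat_fiber_eq_resTrdegNat, hζb, f.fiberι_asFiber η] at this
  exact this

/-- Inside a fibre the residual transcendence degree drops by one along immediate
specializations. -/
theorem resTrdegNat_eq_add_one_of_immediate {X Y : Scheme.{u}} (f : X ⟶ Y)
    [LocallyOfFiniteType f] (η ζ : X) (h1 : ζ ⤳ η) (h2 : f ζ = f η) (hne : ζ ≠ η)
    (himm : ∀ s : X, ζ ⤳ s → s ⤳ η → s = ζ ∨ s = η) :
    resTrdegNat f ζ = resTrdegNat f η + 1 := by
  have hδ := isDimFun_trdegNat (k := Y.residueField (f η)) (f.fiberToSpecResidueField (f η))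
  let ζb : f.fiber (f η) := (f.fiberHomeo (f η)).symm ⟨ζ, h2⟩
  have hζb : f.fiberι (f η) ζb = ζ := f.fiberι_fiberHomeo_symm (f η) ⟨ζ, h2⟩
  have hsp : ζb ⤳ f.asFiber η := by
    rw [← (f.fiberι (f η)).isEmbedding.isInducing.specializes_iff, hζb, f.fiberι_asFiber η]
    exact h1
  have hne' : ζb ≠ f.asFiber η := by
    intro e
    apply hne
    rw [← hζb, e, f.fiberι_asFiber η]
  have := hδ.eq_add_one_of_immediate hsp hne' (by
    intro z hz1 hz2
    have h3 := hz1.map (f.fiberι (f η)).continuous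
    have h4 := hz2.map (f.fiberι (f η)).continuous
    rw [hζb] at h3
    rw [f.fiberι_asFiber η] at h4
    rcases himm _ h3 h4 with e | e
    · left
      apply (f.fiberι (f η)).isEmbedding.injective
      rw [e, hζb]
    · right
      apply (f.fiberι (f η)).isEmbedding.injective
      rw [e, f.fiberι_asFiber η])
  rw [trdegNat_fiber_eq_resTrdegNat, trdegNat_fiber_eq_resTrdegNat, hζb, f.fiberι_asFiber η] at this
  exact this

/-- A specialization of codimension one is immediate. -/
theorem immediate_of_codim_eq_one {X : Scheme.{u}} (x x' : X) (h : codim x x' = 1)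
    (s : X) (h1 : x ⤳ s) (h2 : s ⤳ x') : s = x ∨ s = x' := by
  by_contra hcon
  rw [not_or] at hcon
  have hlt1 : x' < s := by
    refine lt_of_le_not_ge h2 ?_
    intro h3
    exact hcon.2 (Specializes.antisymm h2 h3).eq
  have hlt2 : s < x := by
    refine lt_of_le_not_ge h1 ?_
    intro h3
    exact hcon.1 (Specializes.antisymm h3 h1).eq
  have hxx' : x ⤳ x' := h1.trans h2
  let p : LTSeries (Set.Icc x' x) :=
    RelSeries.fromListIsChain [⟨x', le_refl _, hxx'⟩, ⟨s, h2, h1⟩,
      ⟨x, hxx', le_refl _⟩] (by simp) (by simp; exact ⟨hlt1, hlt2⟩)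
  have hlen := Order.LTSeries.length_le_krullDim p
  unfold codim at h
  rw [h] at hlen
  have : p.length = 2 := rfl
  rw [this] at hlen
  exact absurd hlen (by norm_num)

/-- Preimmersions do not change residual transcendence degrees. -/
lemma resTrdegNat_comp_of_isPreimmersion {Z X Y : Scheme.{u}} (j : Z ⟶ X) [IsPreimmersion j]
    (f : X ⟶ Y) (u : Z) : resTrdegNat (j ≫ f) u = resTrdegNat f (j u) := by
  unfold resTrdegNat
  rw [resTrdeg_comp_of_bijective_left j f u (residueFieldMap_bijective_of_isPreimmersion j u)]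

/-- A point of a closed subset of a scheme has a generization which is a maximal point of the
closed subset. -/
lemma exists_maximal_specializes_of_isClosed {X : Scheme.{u}} (K : Set X) (hK : IsClosed K)
    (x : X) (hx : x ∈ K) :
    ∃ ξ ∈ K, ξ ⤳ x ∧ ∀ t ∈ K, t ⤳ ξ → t = ξ := by
  have : QuasiSober ↥K := hK.isClosedEmbedding_subtypeVal.quasiSober
  obtain ⟨ξ, hξx, hξmax⟩ := exists_maximal_specializes (⟨x, hx⟩ : ↥K)
  refine ⟨ξ.1, ξ.2, (subtype_specializes_iff ξ _).mp hξx, ?_⟩
  intro t ht htξ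
  have := hξmax ⟨t, ht⟩ ((subtype_specializes_iff _ ξ).mpr htξ)
  exact congrArg Subtype.val this

end Groth.Agent.Lib.Helper73

namespace Groth.Agent.Lib.Helper73

section Cut

variable {X Y : Scheme.{u}} (f : X ⟶ Y) [LocallyOfFiniteType f] (x : X) (e : ℕ) (U : X.Opens)
  (hxU : x ∈ U)
  (hB : ∀ ζ ∈ U, (∀ t : X, t ⤳ ζ → f t = f ζ → t = ζ) → resTrdegNat f ζ = e)
  (K : Set X) (hK : IsClosed K)
  (hmaxK : ∀ z : X, f z = f x → (∀ t : X, t ⤳ z → f t = f z → t = z) → z ∉ K)

include hxU hB hK hmaxK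

/-- If a closed set `K` contains no maximal point of the fibre through `x`, all of whose maximal
points near `x` have residual transcendence degree `e`, then generizations of `x` in `K` have
residual transcendence degree at most `e - 1`. -/
theorem resTrdegNat_add_one_le_of_mem_closed (t : X) (htK : t ∈ K) (htx : t ⤳ x) :
    resTrdegNat f t + 1 ≤ e := by
  obtain ⟨z, htz, hzx, hfz, hzmax⟩ := exists_maximal_fiber_between f t x htx
  have h1 := resTrdegNat_le_of_maximal_in_closure_fiber f t z htz hzmax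
  have hzK : z ∈ K := htz.mem_closed hK htK
  obtain ⟨z', hz'z, hfz', hz'max⟩ := exists_maximal_fiber_specializes f z
  have hz'U : z' ∈ U := (hz'z.trans hzx).mem_open U.isOpen hxU
  have h2 := hB z' hz'U hz'max
  have hne : z' ≠ z := by
    intro e'
    apply hmaxK z' (hfz'.trans hfz) hz'max
    rw [e']; exact hzK
  have h3 := resTrdegNat_lt_of_specializes_fiber f z z' hz'z hfz' hne
  omega

variable [IrreducibleSpace Y] [IsLocallyNoetherian Y]
  (hA : ∀ ξ ∈ U, (∀ t : X, t ⤳ ξ → t = ξ) → (∀ t : Y, t ⤳ f ξ → t = f ξ) ∧ f ξ ⤳ f x)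

include hA

/-- A maximal point of `K` generizing `x`, at which the local ring of `X` has dimension at most
one, lies over the generic point, has residual transcendence degree `e - 1`, and the local ring
has dimension exactly one. -/
theorem maximal_point_of_cut (ξ' : X) (hξ'K : ξ' ∈ K) (hξ'x : ξ' ⤳ x)
    (hdim : ringKrullDim (X.presheaf.stalk ξ') ≤ 1) :
    f ξ' = genericPoint Y ∧ resTrdegNat f ξ' + 1 = e ∧ ringKrullDim (X.presheaf.stalk ξ') = 1 := by
  have hLN : IsLocallyNoetherian X := LocallyOfFiniteType.isLocallyNoetherian f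
  have hP := resTrdegNat_add_one_le_of_mem_closed f x e U hxU hB K hK hmaxK
  obtain ⟨ξj, hξjξ', hξjmax, hξjc⟩ := exists_maximal_codim_eq_stalk ξ'
  have hξjU : ξj ∈ U := (hξjξ'.trans hξ'x).mem_open U.isOpen hxU
  have hrj : resTrdegNat f ξj = e := hB ξj hξjU (fun t ht _ => hξjmax t ht)
  obtain ⟨hηmax, -⟩ := hA ξj hξjU hξjmax
  have hη : f ξj = genericPoint Y := (hηmax _ (genericPoint_specializes (f ξj))).symm
  have hξjK : ξj ∉ K := by
    intro hmem
    have := hP ξj hmem (hξjξ'.trans hξ'x)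
    omega
  have hne : ξj ≠ ξ' := by
    intro e'
    apply hξjK
    rw [e']; exact hξ'K
  have h1 := one_le_codim ξj ξ' hξjξ' hne
  have hdim1 : ringKrullDim (X.presheaf.stalk ξ') = 1 := le_antisymm hdim (hξjc ▸ h1)
  have hcod1 : codim ξj ξ' = 1 := by rw [hξjc, hdim1]
  have himm := immediate_of_codim_eq_one ξj ξ' hcod1
  have hP' := hP ξ' hξ'K hξ'x
  have hfξ' : f ξ' = genericPoint Y := by
    by_contra hcon
    have hmax' : ∀ s : X, ξj ⤳ s → s ⤳ ξ' → f s = f ξ' → s = ξ' := by
      intro s h1 h2 h3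
      rcases himm s h1 h2 with e' | e'
      · exfalso
        apply hcon
        rw [← h3, e', hη]
      · exact e'
    have := resTrdegNat_le_of_maximal_in_closure_fiber f ξj ξ' hξjξ' hmax'
    omega
  refine ⟨hfξ', ?_, hdim1⟩
  have := resTrdegNat_eq_add_one_of_immediate f ξ' ξj hξjξ' (hη.trans hfξ'.symm) hne himm
  omega

/-- The reduced subscheme on `K` (or any preimmersion with range `K`) is equidimensional over `Y`
at the points over `x`, of relative dimension `e - 1`. -/
theorem isEquidimAt_of_cut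
    (hKrull : ∀ ξ' ∈ K, (∀ t ∈ K, t ⤳ ξ' → t = ξ') → ringKrullDim (X.presheaf.stalk ξ') ≤ 1)
    {Z : Scheme.{u}} (i : Z ⟶ X) [IsPreimmersion i] [LocallyOfFiniteType (i ≫ f)]
    (hrange : Set.range i = K) (w : Z) (hw : i w = x) :
    EGA43.IsEquidimAt (i ≫ f) w := by
  have hP := resTrdegNat_add_one_le_of_mem_closed f x e U hxU hB K hK hmaxK
  have hiK : ∀ t : Z, i t ∈ K := fun t => by rw [← hrange]; exact ⟨t, rfl⟩
  apply isEquidimAt_of_forall_maximal (i ≫ f) w (e - 1)
  · apply fibreDimAt_le_of_forall_generization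
    intro η' hη'w _
    rw [resTrdegNat_comp_of_isPreimmersion]
    have h1 : i η' ⤳ x := by rw [← hw]; exact hη'w.map i.continuous
    have := hP (i η') (hiK η') h1
    omega
  · intro ξ'' hξ''w hξ''max
    have h1 : i ξ'' ⤳ x := by rw [← hw]; exact hξ''w.map i.continuous
    have hmaxK' : ∀ t ∈ K, t ⤳ i ξ'' → t = i ξ'' := by
      intro t ht htξ
      rw [← hrange] at ht
      obtain ⟨t'', rfl⟩ := ht
      rw [hξ''max t'' (i.isEmbedding.isInducing.specializes_iff.mp htξ)]
    obtain ⟨h2, h3, -⟩ := maximal_point_of_cut f x e U hxU hB K hK hmaxK hA (i ξ'') (hiK ξ'') h1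
      (hKrull (i ξ'') (hiK ξ'') hmaxK')
    refine ⟨?_, ?_⟩
    · intro t ht
      change t ⤳ f (i ξ'') at ht
      change t = f (i ξ'')
      rw [h2] at ht ⊢
      exact (ht.antisymm (genericPoint_specializes t)).eq
    · rw [resTrdegNat_comp_of_isPreimmersion]
      omega

end Cut

end Groth.Agent.Lib.Helper73
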