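import Groth.Agent.Lib.Helper73.DimFormula.EquidimBaseChange
import Mathlib.AlgebraicGeometry.AffineSpace
import Mathlib.RingTheory.KrullDimension.Polynomial

/-!
# Quasi-finite morphisms to affine spaces (EGA IV 13.3.1) (helper73)

* `flat_affineSpace_over`, `generalizingMap_affineSpace_over`: `𝔸(n; S) ⟶ S` is flat.
* `topologicalKrullDim_affineSpace_fiber`, `resTrdegNat_affineSpace_le`,
  `resTrdegNat_affineSpace_eq_of_maximal`, `maximal_fiber_of_resTrdegNat_affineSpace_eq`,
  `maximal_affineSpace_of_maximal_fiber`, `maximal_image_of_maximal_affineSpace`: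
  residual transcendence degrees of points of affine spaces.
* `exists_mvPolynomial_quasiFiniteAt`: a finite type `A`-algebra `B` with fibre dimension `≤ n` at
  `x` admits `A[t_1..t_n] → B` quasi-finite at `x`.
* `affineSpaceChart`, `chartVector`, `chart_square`, `quasiFiniteAt_homOfVector_iff`: dictionary
  between morphisms to `𝔸(n; Y)` and ring maps from polynomial rings on affine charts.
* `exists_locallyQuasiFinite_toAffineSpace`: if `dim_x f⁻¹(f x) ≤ e`, a neighbourhood of `x` admits a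
  locally quasi-finite `Y`-morphism to `𝔸^e_Y`.
-/

set_option autoImplicit false
open CategoryTheory AlgebraicGeometry TopologicalSpace Topology Limits
universe u

namespace Groth.Agent.Lib.Helper73

section AffineSpaceFacts

variable (n : Type u) (S : Scheme.{u})

set_option backward.isDefEq.respectTransparency.types false in
instance flat_affineSpace_over : Flat (𝔸(n; S) ↘ S) :=
  MorphismProperty.pullback_fst _ _ <| by
  have := isIso_of_isTerminal specULiftZIsTerminal.{u} terminalIsTerminal (terminal.from _)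
  rw [← terminal.comp_from (Spec.map (CommRingCat.ofHom MvPolynomial.C)),
    MorphismProperty.cancel_right_of_respectsIso (P := @Flat),
    HasRingHomProperty.Spec_iff (P := @Flat)]
  rw [CommRingCat.hom_ofHom, ← MvPolynomial.algebraMap_eq, RingHom.flat_algebraMap_iff]
  infer_instance

theorem generalizingMap_affineSpace_over : GeneralizingMap (𝔸(n; S) ↘ S) :=
  Flat.generalizingMap _

/-- The fibre of the affine space over a point is the affine space over the residue field. -/
noncomputable def affineSpaceFiberIso (s : S) :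
    (𝔸(n; S) ↘ S).fiber s ≅ Spec (.of (MvPolynomial n (S.residueField s))) :=
  (AffineSpace.isPullback_map (n := n) (S.fromSpecResidueField s)).isoPullback.symm ≪≫
    AffineSpace.SpecIso n (S.residueField s)

theorem topologicalKrullDim_affineSpace_fiber [Finite n] (s : S) :
    topologicalKrullDim ↥((𝔸(n; S) ↘ S).fiber s) = ((Nat.card n : ℕ∞) : WithBot ℕ∞) := by
  rw [IsHomeomorph.topologicalKrullDim_eq _
    (Scheme.homeoOfIso (affineSpaceFiberIso n S s)).isHomeomorph]
  change topologicalKrullDim (PrimeSpectrum (MvPolynomial n (S.residueField s))) = _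
  rw [PrimeSpectrum.topologicalKrullDim_eq_ringKrullDim,
    MvPolynomial.ringKrullDim_of_isNoetherianRing, ringKrullDim_eq_zero_of_field, zero_add]
  rfl

/-- The residual transcendence degrees of the affine space of dimension `n` are at most `n`. -/
theorem resTrdegNat_affineSpace_le [Finite n] (θ : 𝔸(n; S)) :
    resTrdegNat (𝔸(n; S) ↘ S) θ ≤ Nat.card n := by
  set p := 𝔸(n; S) ↘ S with hp
  have hδ := isDimFun_trdegNat (k := S.residueField (p θ)) (p.fiberToSpecResidueField (p θ))
  have h1 := hδ.topologicalKrullDim_closure_singleton (p.asFiber θ)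
  rw [trdegNat_fiber_eq_resTrdegNat, p.fiberι_asFiber θ] at h1
  have h2 := topologicalKrullDim_subspace_le ↥(p.fiber (p θ)) (closure {p.asFiber θ})
  rw [h1, topologicalKrullDim_affineSpace_fiber] at h2
  exact_mod_cast h2

/-- A point of the affine space of dimension `n` which is maximal in its fibre has residual
transcendence degree `n`. -/
theorem resTrdegNat_affineSpace_eq_of_maximal [Finite n] (θ : 𝔸(n; S))
    (hmax : ∀ t : 𝔸(n; S), t ⤳ θ → (𝔸(n; S) ↘ S) t = (𝔸(n; S) ↘ S) θ → t = θ) :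
    resTrdegNat (𝔸(n; S) ↘ S) θ = Nat.card n := by
  set p := 𝔸(n; S) ↘ S with hp
  have hδ := isDimFun_trdegNat (k := S.residueField (p θ)) (p.fiberToSpecResidueField (p θ))
  let z : p.fiber (p θ) := (p.fiberHomeo (p θ)).symm ⟨θ, rfl⟩
  have hz : p.fiberι (p θ) z = θ := p.fiberι_fiberHomeo_symm (p θ) ⟨θ, rfl⟩
  have hzmax := maximal_fiberHomeo_symm p (p θ) θ rfl hmax
  have h1 := hδ.topologicalKrullDim_closure_singleton z
  rw [trdegNat_fiber_eq_resTrdegNat, hz] at h1
  have h3 := closure_singleton_mem_irreducibleComponents_of_maximal z hzmax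
  have h4 : closure ({z} : Set ↥(p.fiber (p θ))) = Set.univ := by
    have := irreducibleComponents_eq_singleton (X := ↥(p.fiber (p θ)))
    rw [this] at h3
    exact h3
  have h5 : topologicalKrullDim ↥(closure ({z} : Set ↥(p.fiber (p θ)))) =
      topologicalKrullDim ↥(p.fiber (p θ)) := by
    rw [h4]
    exact IsHomeomorph.topologicalKrullDim_eq _ (Homeomorph.Set.univ _).isHomeomorph
  rw [h5, topologicalKrullDim_affineSpace_fiber] at h1
  exact_mod_cast h1.symm

/-- A point of the affine space of dimension `n` with residual transcendence degree `n` is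
maximal in its fibre. -/
theorem maximal_fiber_of_resTrdegNat_affineSpace_eq [Finite n] (θ : 𝔸(n; S))
    (h : resTrdegNat (𝔸(n; S) ↘ S) θ = Nat.card n) :
    ∀ t : 𝔸(n; S), t ⤳ θ → (𝔸(n; S) ↘ S) t = (𝔸(n; S) ↘ S) θ → t = θ := by
  intro t ht hpt
  by_contra hne
  have h1 := resTrdegNat_lt_of_specializes_fiber (𝔸(n; S) ↘ S) θ t ht hpt hne
  have h2 := resTrdegNat_affineSpace_le n S t
  omega

/-- A point of the affine space which is maximal in its fibre over a maximal point is maximal. -/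
theorem maximal_affineSpace_of_maximal_fiber (θ : 𝔸(n; S))
    (hmax : ∀ t : 𝔸(n; S), t ⤳ θ → (𝔸(n; S) ↘ S) t = (𝔸(n; S) ↘ S) θ → t = θ)
    (hs : ∀ t : S, t ⤳ (𝔸(n; S) ↘ S) θ → t = (𝔸(n; S) ↘ S) θ) :
    ∀ t : 𝔸(n; S), t ⤳ θ → t = θ := by
  intro t ht
  exact hmax t ht (hs _ (ht.map (𝔸(n; S) ↘ S).continuous))

/-- A maximal point of the affine space lies over a maximal point and is maximal in its fibre. -/
theorem maximal_image_of_maximal_affineSpace (θ : 𝔸(n; S))
    (hmax : ∀ t : 𝔸(n; S), t ⤳ θ → t = θ) :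
    ∀ t : S, t ⤳ (𝔸(n; S) ↘ S) θ → t = (𝔸(n; S) ↘ S) θ := by
  intro t ht
  obtain ⟨θ', hθ', rfl⟩ := generalizingMap_affineSpace_over n S ht
  rw [hmax θ' hθ']

end AffineSpaceFacts

end Groth.Agent.Lib.Helper73

namespace Groth.Agent.Lib.Helper73

lemma quasiFiniteAt_of_comp {X Y Z : Scheme.{u}} (f : X ⟶ Y) (g : Y ⟶ Z) (x : X)
    (h : (f ≫ g).QuasiFiniteAt x) : f.QuasiFiniteAt x := by
  simp only [Scheme.Hom.QuasiFiniteAt, Scheme.Hom.stalkMap_comp, CommRingCat.hom_comp] at h ⊢
  exact RingHom.QuasiFinite.of_comp h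

lemma locallyQuasiFinite_SpecMap_ringEquiv {R R' : Type u} [CommRing R] [CommRing R']
    (e : R ≃+* R') : LocallyQuasiFinite (Spec.map (CommRingCat.ofHom e.toRingHom)) := by
  rw [HasRingHomProperty.Spec_iff (P := @LocallyQuasiFinite)]
  exact RingHom.QuasiFinite.of_finite (RingHom.Finite.of_surjective _ e.surjective)

lemma quasiFiniteAt_SpecMap_comp_ringEquiv {R R' T : Type u} [CommRing R] [CommRing R']
    [CommRing T] (e : R ≃+* R') (ψ : R' →+* T) (x : Spec (CommRingCat.of T)) :
    (Spec.map (CommRingCat.ofHom (ψ.comp e.toRingHom))).QuasiFiniteAt x ↔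
      (Spec.map (CommRingCat.ofHom ψ)).QuasiFiniteAt x := by
  rw [CommRingCat.ofHom_comp, Spec.map_comp]
  have := locallyQuasiFinite_SpecMap_ringEquiv e
  exact Scheme.Hom.quasiFiniteAt_comp_iff

open Polynomial in
/-- A morphism of finite type of affine schemes whose fibre at `x` has dimension `≤ n` factors,
through a morphism quasi-finite at `x`, over the affine space of dimension `n`. -/
theorem exists_mvPolynomial_quasiFiniteAt (n : ℕ) : ∀ (A B : Type u) [CommRing A] [CommRing B]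
    [Algebra A B] [Algebra.FiniteType A B] (x : Spec (CommRingCat.of B)),
    FlatMor.fibreDimAt (Spec.map (CommRingCat.ofHom (algebraMap A B))) x ≤
      ((n : ℕ) : WithBot ℕ∞) →
    ∃ π : MvPolynomial (Fin n) A →ₐ[A] B,
      (Spec.map (CommRingCat.ofHom π.toRingHom)).QuasiFiniteAt x := by
  induction n with
  | zero =>
    intro A B _ _ _ _ x hx
    have hf : LocallyOfFiniteType (Spec.map (CommRingCat.ofHom (algebraMap A B))) :=
      (HasRingHomProperty.Spec_iff (P := @LocallyOfFiniteType)).mpr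
        (RingHom.finiteType_algebraMap.mpr inferInstance)
    let e : MvPolynomial (Fin 0) A ≃ₐ[A] A := MvPolynomial.isEmptyAlgEquiv A (Fin 0)
    refine ⟨(Algebra.ofId A B).comp e.toAlgHom, ?_⟩
    have h1 : ((Algebra.ofId A B).comp e.toAlgHom).toRingHom =
        (algebraMap A B).comp e.toRingEquiv.toRingHom := rfl
    rw [h1, quasiFiniteAt_SpecMap_comp_ringEquiv, quasiFiniteAt_iff_fibreDimAt_le_zero]
    exact hx
  | succ n IH =>
    intro A B _ _ _ _ x hx
    have hf : LocallyOfFiniteType (Spec.map (CommRingCat.ofHom (algebraMap A B))) :=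
      (HasRingHomProperty.Spec_iff (P := @LocallyOfFiniteType)).mpr
        (RingHom.finiteType_algebraMap.mpr inferInstance)
    by_cases hx' : FlatMor.fibreDimAt (Spec.map (CommRingCat.ofHom (algebraMap A B))) x ≤
        ((n : ℕ) : WithBot ℕ∞)
    · obtain ⟨π₀, hπ₀⟩ := IH A B x hx'
      let w : Fin (n + 1) → B := fun i => Fin.lastCases (0 : B) (fun j => π₀ (MvPolynomial.X j)) i
      let π : MvPolynomial (Fin (n + 1)) A →ₐ[A] B := MvPolynomial.aeval w
      have hπ : π.comp (MvPolynomial.rename Fin.castSucc) = π₀ := by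
        apply MvPolynomial.algHom_ext
        intro j
        change π (MvPolynomial.rename Fin.castSucc (MvPolynomial.X j)) = _
        rw [MvPolynomial.rename_X]
        change MvPolynomial.aeval w (MvPolynomial.X (Fin.castSucc j)) = _
        rw [MvPolynomial.aeval_X]
        simp only [w, Fin.lastCases_castSucc]
      refine ⟨π, ?_⟩
      have h1 : π₀.toRingHom = π.toRingHom.comp
          (MvPolynomial.rename (R := A) (Fin.castSucc (n := n))).toRingHom := by
        rw [← hπ]; rfl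
      rw [h1, CommRingCat.ofHom_comp, Spec.map_comp] at hπ₀
      exact quasiFiniteAt_of_comp _ _ x hπ₀
    · obtain ⟨t, hg, ht⟩ := exists_specPolyMap_fibreDimAt_le A B n x hx hx'
      let _ : Algebra A[X] B := (Polynomial.aeval t : A[X] →ₐ[A] B).toRingHom.toAlgebra
      have hst : IsScalarTower A A[X] B := IsScalarTower.of_algebraMap_eq fun a => by
        change algebraMap A B a = Polynomial.aeval t (Polynomial.C a)
        rw [Polynomial.aeval_C]
      have hft : Algebra.FiniteType A[X] B := Algebra.FiniteType.of_restrictScalars_finiteType A _ _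
      obtain ⟨π₁, hπ₁⟩ := IH A[X] B x ht
      let E : MvPolynomial (Fin (n + 1)) A ≃ₐ[A] MvPolynomial (Fin n) A[X] :=
        (MvPolynomial.renameEquiv A (finSuccEquiv n)).trans (MvPolynomial.optionEquivRight A (Fin n))
      refine ⟨(π₁.restrictScalars A).comp E.toAlgHom, ?_⟩
      have h1 : ((π₁.restrictScalars A).comp E.toAlgHom).toRingHom =
          π₁.toRingHom.comp E.toRingEquiv.toRingHom := rfl
      rw [h1, quasiFiniteAt_SpecMap_comp_ringEquiv]
      exact hπ₁

end Groth.Agent.Lib.Helper73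

namespace Groth.Agent.Lib.Helper73

section Square

variable {X Y : Scheme.{u}} (f : X ⟶ Y) {U : X.Opens} (hU : IsAffineOpen U) {V : Y.Opens}
  (hV : IsAffineOpen V) (hUV : U ≤ f ⁻¹ᵁ V) (n : Type u)

/-- The chart of the affine space over `Y` lying over an affine open of `Y`. -/
noncomputable def affineSpaceChart : Spec (.of (MvPolynomial n Γ(Y, V))) ⟶ 𝔸(n; Y) :=
  (AffineSpace.SpecIso n Γ(Y, V)).inv ≫ AffineSpace.map n hV.fromSpec

instance isOpenImmersion_affineSpaceChart : IsOpenImmersion (affineSpaceChart hV n) := by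
  have : IsOpenImmersion (AffineSpace.map n hV.fromSpec) :=
    MorphismProperty.of_isPullback (P := @IsOpenImmersion)
      (AffineSpace.isPullback_map (n := n) hV.fromSpec).flip inferInstance
  unfold affineSpaceChart
  infer_instance

lemma affineSpaceChart_over :
    affineSpaceChart hV n ≫ (𝔸(n; Y) ↘ Y) =
      Spec.map (CommRingCat.ofHom MvPolynomial.C) ≫ hV.fromSpec := by
  unfold affineSpaceChart
  rw [Category.assoc, AffineSpace.map_over, AffineSpace.SpecIso_inv_over_assoc]

lemma affineSpaceChart_appTop_coord (i : n) :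
    (affineSpaceChart hV n).appTop (AffineSpace.coord Y i) =
      (Scheme.ΓSpecIso (.of (MvPolynomial n Γ(Y, V)))).inv (MvPolynomial.X i) := by
  unfold affineSpaceChart
  rw [Scheme.Hom.comp_appTop, CommRingCat.comp_apply, AffineSpace.map_appTop_coord,
    AffineSpace.SpecIso_inv_appTop_coord]

/-- The vector of global sections of an affine open defined by a ring homomorphism from a
polynomial ring. -/
noncomputable def chartVector (ψ : MvPolynomial n Γ(Y, V) →+* Γ(X, U)) :
    n → Γ(U.toScheme, ⊤) :=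
  fun i => hU.isoSpec.hom.appTop ((Scheme.ΓSpecIso Γ(X, U)).inv (ψ (MvPolynomial.X i)))

theorem chart_square (ψ : MvPolynomial n Γ(Y, V) →+* Γ(X, U))
    (hψ : ψ.comp MvPolynomial.C = (f.appLE V U hUV).hom) :
    hU.isoSpec.inv ≫ AffineSpace.homOfVector (U.ι ≫ f) (chartVector hU n ψ) =
      Spec.map (CommRingCat.ofHom ψ) ≫ affineSpaceChart hV n := by
  apply AffineSpace.hom_ext
  · rw [Category.assoc, AffineSpace.homOfVector_over, Category.assoc, affineSpaceChart_over,
      ← Spec.map_comp_assoc, ← CommRingCat.ofHom_comp, hψ]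
    have := IsAffineOpen.SpecMap_appLE_fromSpec f hV hU hUV
    rw [CommRingCat.ofHom_hom, this]
    rfl
  · intro i
    rw [Scheme.Hom.comp_appTop, CommRingCat.comp_apply, AffineSpace.homOfVector_appTop_coord,
      Scheme.Hom.comp_appTop, CommRingCat.comp_apply, affineSpaceChart_appTop_coord]
    unfold chartVector
    rw [← CommRingCat.comp_apply, ← Scheme.Hom.comp_appTop, Iso.inv_hom_id]
    have h1 := Scheme.ΓSpecIso_inv_naturality (CommRingCat.ofHom ψ)
    have h2 := congrArg (fun φ => φ.hom (MvPolynomial.X i)) h1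
    have h3 : (Scheme.Hom.appTop (𝟙 (Spec Γ(X, U)))) = 𝟙 _ := by simp
    rw [h3]
    exact h2

include hV in
theorem quasiFiniteAt_homOfVector_iff (ψ : MvPolynomial n Γ(Y, V) →+* Γ(X, U))
    (hψ : ψ.comp MvPolynomial.C = (f.appLE V U hUV).hom) (x₀ : Spec Γ(X, U)) :
    (AffineSpace.homOfVector (U.ι ≫ f) (chartVector hU n ψ)).QuasiFiniteAt (hU.isoSpec.inv x₀) ↔
      (Spec.map (CommRingCat.ofHom ψ)).QuasiFiniteAt x₀ := by
  rw [← Scheme.Hom.quasiFiniteAt_comp_iff_of_isOpenImmersion (f := hU.isoSpec.inv),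
    chart_square f hU hV hUV n ψ hψ, Scheme.Hom.quasiFiniteAt_comp_iff]

end Square

end Groth.Agent.Lib.Helper73

namespace Groth.Agent.Lib.Helper73

set_option backward.isDefEq.respectTransparency.types false in
/-- If the fibre of `f` through `x` has dimension `≤ e` at `x`, a neighbourhood of `x` admits a
locally quasi-finite morphism to the affine space of dimension `e` over the base. -/
theorem exists_locallyQuasiFinite_toAffineSpace {X Y : Scheme.{u}} (f : X ⟶ Y)
    [LocallyOfFiniteType f] (x : X) (e : ℕ)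
    (hfd : FlatMor.fibreDimAt f x ≤ ((e : ℕ) : WithBot ℕ∞)) (U₀ : X.Opens) (hxU₀ : x ∈ U₀) :
    ∃ (U : X.Opens) (g : (U : Scheme.{u}) ⟶ 𝔸(ULift.{u} (Fin e); Y)),
      x ∈ U ∧ U ≤ U₀ ∧ g ≫ (𝔸(ULift.{u} (Fin e); Y) ↘ Y) = U.ι ≫ f ∧ LocallyQuasiFinite g := by
  obtain ⟨V, hV, hfxV, -⟩ :=
    exists_isAffineOpen_mem_and_subset (X := Y) (x := f x) (U := ⊤) trivial
  obtain ⟨U₁, hU₁, hxU₁, hU₁le⟩ :=
    exists_isAffineOpen_mem_and_subset (X := X) (x := x) (U := f ⁻¹ᵁ V ⊓ U₀) ⟨hfxV, hxU₀⟩
  have hUV : U₁ ≤ f ⁻¹ᵁ V := hU₁le.trans inf_le_left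
  have hU₁U₀ : U₁ ≤ U₀ := hU₁le.trans inf_le_right
  let _ : Algebra Γ(Y, V) Γ(X, U₁) := (f.appLE V U₁ hUV).hom.toAlgebra
  have hft : Algebra.FiniteType Γ(Y, V) Γ(X, U₁) :=
    HasRingHomProperty.appLE @LocallyOfFiniteType f inferInstance ⟨V, hV⟩ ⟨U₁, hU₁⟩ hUV
  have hf' : LocallyOfFiniteType (Spec.map (CommRingCat.ofHom (algebraMap Γ(Y, V) Γ(X, U₁)))) :=
    (HasRingHomProperty.Spec_iff (P := @LocallyOfFiniteType)).mpr
      (RingHom.finiteType_algebraMap.mpr inferInstance)
  have hsq : Spec.map (CommRingCat.ofHom (algebraMap Γ(Y, V) Γ(X, U₁))) ≫ hV.fromSpec =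
      hU₁.fromSpec ≫ f := IsAffineOpen.SpecMap_appLE_fromSpec f hV hU₁ hUV
  have hloc := fibreDimAt_eq_of_isOpenImmersion_square hU₁.fromSpec hV.fromSpec
    (Spec.map (CommRingCat.ofHom (algebraMap Γ(Y, V) Γ(X, U₁)))) f hsq
  let x0 : Spec Γ(X, U₁) := hU₁.primeIdealOf ⟨x, hxU₁⟩
  have hx0 : hU₁.fromSpec x0 = x := hU₁.fromSpec_primeIdealOf ⟨x, hxU₁⟩
  have hx0' : FlatMor.fibreDimAt (Spec.map (CommRingCat.ofHom (algebraMap Γ(Y, V) Γ(X, U₁)))) x0 ≤
      ((e : ℕ) : WithBot ℕ∞) := by
    rw [hloc x0, hx0]; exact hfd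
  obtain ⟨π, hπ⟩ := exists_mvPolynomial_quasiFiniteAt e Γ(Y, V) Γ(X, U₁) x0 hx0'
  let E : MvPolynomial (ULift.{u} (Fin e)) Γ(Y, V) ≃ₐ[Γ(Y, V)] MvPolynomial (Fin e) Γ(Y, V) :=
    MvPolynomial.renameEquiv _ Equiv.ulift
  let ψ : MvPolynomial (ULift.{u} (Fin e)) Γ(Y, V) →+* Γ(X, U₁) :=
    π.toRingHom.comp E.toRingEquiv.toRingHom
  have hψQF : (Spec.map (CommRingCat.ofHom ψ)).QuasiFiniteAt x0 :=
    (quasiFiniteAt_SpecMap_comp_ringEquiv _ _ _).mpr hπ
  have hψC : ψ.comp MvPolynomial.C = (f.appLE V U₁ hUV).hom := by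
    ext a
    change π (E (MvPolynomial.C a)) = algebraMap Γ(Y, V) Γ(X, U₁) a
    have h1 : E (MvPolynomial.C a) = MvPolynomial.C a := by
      change MvPolynomial.rename _ (MvPolynomial.C a) = _
      rw [MvPolynomial.rename_C]
    rw [h1, ← MvPolynomial.algebraMap_eq, AlgHom.commutes]
  let g₁ := AffineSpace.homOfVector (U₁.ι ≫ f) (chartVector hU₁ (ULift.{u} (Fin e)) ψ)
  have hg₁over : g₁ ≫ (𝔸(ULift.{u} (Fin e); Y) ↘ Y) = U₁.ι ≫ f :=
    AffineSpace.homOfVector_over _ _
  have hg₁QF : g₁.QuasiFiniteAt (hU₁.isoSpec.inv x0) :=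
    (quasiFiniteAt_homOfVector_iff f hU₁ hV hUV _ ψ hψC x0).mpr hψQF
  have hg₁lft : LocallyOfFiniteType g₁ := by
    have : LocallyOfFiniteType (g₁ ≫ (𝔸(ULift.{u} (Fin e); Y) ↘ Y)) := by
      rw [hg₁over]; infer_instance
    exact locallyOfFiniteType_of_comp g₁ (𝔸(ULift.{u} (Fin e); Y) ↘ Y)
  let W := g₁.quasiFiniteLocus
  let U : X.Opens := U₁.ι ''ᵁ W
  have hUU₁ : U ≤ U₁ := by
    rintro _ ⟨w, -, rfl⟩
    exact w.2
  have hxU : x ∈ U := by
    refine ⟨hU₁.isoSpec.inv x0, hg₁QF, ?_⟩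
    rw [← hx0]
    rfl
  refine ⟨U, X.homOfLE hUU₁ ≫ g₁, hxU, hUU₁.trans hU₁U₀, ?_, ?_⟩
  · rw [Category.assoc, hg₁over, Scheme.homOfLE_ι_assoc]
  · have hlft : LocallyOfFiniteType (X.homOfLE hUU₁ ≫ g₁) := inferInstance
    rw [← Scheme.Hom.quasiFiniteLocus_eq_top_iff, Scheme.Hom.quasiFiniteLocus_comp]
    rw [eq_top_iff]
    intro u _
    obtain ⟨w, hw, hwu⟩ : (U.ι u) ∈ U := u.2
    change X.homOfLE hUU₁ u ∈ W
    have h1 : U₁.ι (X.homOfLE hUU₁ u) = U.ι u := by
      rw [← Scheme.Hom.comp_apply, Scheme.homOfLE_ι]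
    have h2 : X.homOfLE hUU₁ u = w := by
      apply U₁.ι.isOpenEmbedding.injective
      rw [h1]; exact hwu.symm
    rw [h2]
    exact hw

end Groth.Agent.Lib.Helper73

namespace Groth.Agent.Lib.Helper73

/-- A locally quasi-finite morphism locally of finite type has residual transcendence degree
zero. -/
lemma resTrdegNat_eq_zero_of_locallyQuasiFinite {X Y : Scheme.{u}} (g : X ⟶ Y)
    [LocallyOfFiniteType g] [LocallyQuasiFinite g] (x : X) : resTrdegNat g x = 0 := by
  have h1 := (quasiFiniteAt_iff_fibreDimAt_le_zero g x).mp (g.quasiFiniteAt x)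
  have h2 := (resTrdegNat_le_fibreDimAt g x).trans h1
  have h3 : resTrdegNat g x ≤ 0 := by exact_mod_cast h2
  omega

lemma resTrdegNat_congr {X Y : Scheme.{u}} {f g : X ⟶ Y} (h : f = g) (x : X) :
    resTrdegNat f x = resTrdegNat g x := by
  subst h; rfl

lemma natCard_ulift_fin (e : ℕ) : Nat.card (ULift.{u} (Fin e)) = e := by
  rw [Nat.card_congr Equiv.ulift, Nat.card_fin]

end Groth.Agent.Lib.Helper73
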