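import Mathlib
import Groth.Agent.Lib.Helper73.DimFormula.OrderCodim

/-!
# Catenary local rings and the dimension function `p ↦ dim A/p` (helper73)

* `ringKrullDim_quotient_eq_krullDim_Icc`, `isCatenary_iff_ringKrullDim_quotient_dimFun`.
-/

set_option autoImplicit false
universe u

open Order

namespace Groth.Agent.Lib.Helper73

open Groth.Agent.Lib.Helper70 Groth.Agent.Lib.Helper44

/-- In a local ring, `dim A/p` is the Krull dimension of the interval `[p, m]` of the spectrum. -/
theorem ringKrullDim_quotient_eq_krullDim_Icc (A : Type*) [CommRing A] [IsLocalRing A]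
    (p : PrimeSpectrum A) :
    ringKrullDim (A ⧸ p.asIdeal) = Order.krullDim (Set.Icc p (IsLocalRing.closedPoint A)) := by
  have hset : PrimeSpectrum.zeroLocus (p.asIdeal : Set A) =
      Set.Icc p (IsLocalRing.closedPoint A) := by
    ext P
    simp only [PrimeSpectrum.mem_zeroLocus, SetLike.coe_subset_coe, Set.mem_Icc]
    constructor
    · intro hP
      exact ⟨hP, IsLocalRing.le_maximalIdeal P.2.ne_top⟩
    · intro hP
      exact hP.1
  rw [← hset]
  exact Order.krullDim_eq_of_orderIso (Ideal.primeSpectrumQuotientOrderIsoZeroLocus p.asIdeal)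

/-- A Noetherian local ring is catenary iff `p ↦ dim A/p` is a dimension function. -/
theorem isCatenary_iff_ringKrullDim_quotient_dimFun (A : Type u) [CommRing A] [IsNoetherianRing A]
    [IsLocalRing A] :
    CAlg.IsCatenary A ↔
      ∀ p q : PrimeSpectrum A, p < q →
        ringKrullDim (A ⧸ q.asIdeal) < ringKrullDim (A ⧸ p.asIdeal) ∧
          (p ⋖ q → ringKrullDim (A ⧸ p.asIdeal) = ringKrullDim (A ⧸ q.asIdeal) + 1) := by
  let M : PrimeSpectrum A := IsLocalRing.closedPoint A
  have hleM : ∀ p : PrimeSpectrum A, p ≤ M := fun p => IsLocalRing.le_maximalIdeal p.2.ne_top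
  -- finiteness
  have hfinA : ringKrullDim A < ⊤ := ringKrullDim_lt_top
  have hfin : ∀ p q : PrimeSpectrum A, p ≤ q → ∃ n : ℕ, Order.krullDim (Set.Icc p q) = n := by
    intro p q hpq
    have h1 : Order.krullDim (Set.Icc p q) ≤ ringKrullDim A :=
      Order.krullDim_le_of_strictMono Subtype.val (fun a b hab => hab)
    have h2 : Order.krullDim (Set.Icc p q) ≠ ⊤ := fun e => by
      rw [e] at h1; exact absurd (lt_of_le_of_lt h1 hfinA) (lt_irrefl _)
    have : Nonempty (Set.Icc p q) := ⟨⟨p, le_refl _, hpq⟩⟩
    have h3 : Order.krullDim (Set.Icc p q) ≠ ⊥ := by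
      intro e
      have := Order.krullDim_nonneg (α := Set.Icc p q)
      rw [e] at this
      exact absurd this (by simp)
    obtain ⟨m, hm⟩ := WithBot.ne_bot_iff_exists.mp h3
    have hm' : m ≠ ⊤ := by
      intro e; rw [e] at hm; exact h2 hm.symm
    obtain ⟨n, hn⟩ := ENat.ne_top_iff_exists.mp hm'
    exact ⟨n, by rw [← hm, ← hn]; rfl⟩
  have hone : ∀ p q : PrimeSpectrum A, p < q → 1 ≤ Order.krullDim (Set.Icc p q) := by
    intro p q hpq
    let s : LTSeries (Set.Icc p q) :=
      RelSeries.fromListIsChain [⟨p, le_refl _, hpq.le⟩, ⟨q, hpq.le, le_refl _⟩] (by simp)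
        (by simp; exact hpq)
    exact s.length_le_krullDim
  have hcov : ∀ p q : PrimeSpectrum A, p ⋖ q → Order.krullDim (Set.Icc p q) = 1 := by
    intro p q hpq
    apply le_antisymm _ (hone p q hpq.lt)
    rw [Order.krullDim_le_one_iff]
    intro z
    by_cases hz : z.1 = p
    · left
      intro w _
      change z.1 ≤ w.1
      rw [hz]; exact w.2.1
    · right
      have hpz : p < z.1 := lt_of_le_of_ne z.2.1 (Ne.symm hz)
      have hzq : z.1 = q := by
        by_contra hne
        exact hpq.2 hpz (lt_of_le_of_ne z.2.2 hne)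
      intro w _
      change w.1 ≤ z.1
      rw [hzq]; exact w.2.2
  constructor
  · intro hcat p q hpq
    have hP : PosetCat (PrimeSpectrum A) := hcat
    have hadd := PosetCat.krullDim_Icc_add hP hpq.le (hleM q)
    rw [ringKrullDim_quotient_eq_krullDim_Icc A p, ringKrullDim_quotient_eq_krullDim_Icc A q, hadd]
    obtain ⟨a, ha⟩ := hfin p q hpq.le
    obtain ⟨b, hb⟩ := hfin q M (hleM q)
    have h1 := hone p q hpq
    rw [ha, hb]
    rw [ha] at h1
    have h1' : 1 ≤ a := by exact_mod_cast h1
    constructor
    · have : b < a + b := by omega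
      exact_mod_cast this
    · intro hc
      have h2 := hcov p q hc
      rw [ha] at h2
      have : a = 1 := by exact_mod_cast h2
      rw [this, add_comm]
      rfl
  · intro hd
    -- `d p := dim A/p` as a natural number
    have hdnat : ∀ p : PrimeSpectrum A, ∃ n : ℕ, ringKrullDim (A ⧸ p.asIdeal) = n := by
      intro p
      rw [ringKrullDim_quotient_eq_krullDim_Icc A p]
      exact hfin p M (hleM p)
    choose d hdspec using hdnat
    have hdrop : ∀ p q : PrimeSpectrum A, p ⋖ q → d p = d q + 1 := by
      intro p q hc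
      have := (hd p q hc.lt).2 hc
      rw [hdspec p, hdspec q] at this
      exact_mod_cast this
    have hchain : ∀ s : LTSeries (PrimeSpectrum A),
        (∀ i : Fin s.length, s (Fin.castSucc i) ⋖ s (Fin.succ i)) →
        d s.head = d s.last + s.length := by
      intro s hs
      have key : ∀ (n : ℕ) (hn : n < s.length + 1), d s.head = d (s ⟨n, hn⟩) + n := by
        intro n
        induction n with
        | zero => intro hn; rfl
        | succ n ih =>
          intro hn
          have h1 := ih (by omega)
          have h2 := hdrop _ _ (hs ⟨n, by omega⟩)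
          have e1 : s (Fin.castSucc (⟨n, by omega⟩ : Fin s.length)) = s ⟨n, by omega⟩ := rfl
          have e2 : s (Fin.succ (⟨n, by omega⟩ : Fin s.length)) = s ⟨n + 1, hn⟩ := rfl
          rw [e1, e2] at h2
          omega
      exact key s.length (by omega)
    refine ⟨?_, ?_⟩
    · intro p q _
      have h0 : ringKrullDim A ≠ ⊥ := ringKrullDim_ne_bot
      have hT : ringKrullDim A ≠ ⊤ := ringKrullDim_ne_top
      obtain ⟨m, hm⟩ := WithBot.ne_bot_iff_exists.mp h0
      have hm' : m ≠ ⊤ := by
        intro e; rw [e] at hm; exact hT hm.symm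
      obtain ⟨n, hn⟩ := ENat.ne_top_iff_exists.mp hm'
      refine ⟨n, fun s _ _ => ?_⟩
      have h1 : (s.length : WithBot ℕ∞) ≤ ringKrullDim A := s.length_le_krullDim
      rw [← hm, ← hn] at h1
      exact_mod_cast h1
    · intro s t hst hst' hs ht
      have h1 := hchain s hs
      have h2 := hchain t ht
      rw [hst, hst'] at h1
      omega

end Groth.Agent.Lib.Helper73
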