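import Groth.Agent.Lib.Helper73.DimFormula.PairLe
import Groth.Agent.Lib.Helper73.DimFormula.CatenaryLocal
import Groth.Prelude.Def_EGA4b
import Groth.Prelude.Def_EGA43

/-!
# Equidimensional local rings of schemes (helper73)

* `fromSpecStalk_le_iff`, `ringKrullDim_stalk_quotient_eq_codim`: `dim O_{X,x}/p = codim(ξ_p, x)`.
* `isEquidim_stalk_iff`: `O_{X,x}` is equidimensional iff `codim(ξ, x) = dim O_{X,x}` for all
  maximal generizations `ξ` of `x`.
* `maximal_image_of_closure_image_mem_irreducibleComponents`.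
* `isEquidim_stalk_of_equidim`: EGA IV 13.3.6 (i), global form.
* `isEquidim_of_ringEquiv`, `isEquidim_stalk_of_isOpenImmersion`.
-/

set_option autoImplicit false
universe u

open AlgebraicGeometry CategoryTheory TopologicalSpace Opposite Order

namespace Groth.Agent.Lib.Helper73

set_option backward.isDefEq.respectTransparency.types false in
/-- The canonical map `Spec O_{X,x} → X` reverses and reflects the order. -/
lemma fromSpecStalk_le_iff {X : Scheme.{u}} (x : X) (a a' : PrimeSpectrum (X.presheaf.stalk x)) :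
    (X.fromSpecStalk x) a ≤ (X.fromSpecStalk x) a' ↔ a' ≤ a := by
  change (X.fromSpecStalk x) a' ⤳ (X.fromSpecStalk x) a ↔ a' ≤ a
  rw [(X.fromSpecStalk x).isEmbedding.isInducing.specializes_iff]
  exact (PrimeSpectrum.le_iff_specializes a' a).symm

set_option backward.isDefEq.respectTransparency.types false in
/-- `dim O_{X,x}/p` is the codimension of `x` in the closure of the point corresponding to `p`. -/
theorem ringKrullDim_stalk_quotient_eq_codim {X : Scheme.{u}} (x : X)
    (p : PrimeSpectrum (X.presheaf.stalk x)) :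
    ringKrullDim (X.presheaf.stalk x ⧸ p.asIdeal) = codim ((X.fromSpecStalk x) p) x := by
  rw [ringKrullDim_quotient_eq_krullDim_Icc]
  unfold codim
  have h := krullDim_Icc_eq_of_antitone (fun a : PrimeSpectrum (X.presheaf.stalk x) =>
      (X.fromSpecStalk x) a) (fromSpecStalk_le_iff x) p
      (IsLocalRing.closedPoint (X.presheaf.stalk x)) (by
    intro t ht _
    have : t ∈ Set.range (X.fromSpecStalk x) := by
      rw [Scheme.range_fromSpecStalk]
      have h1 : (X.fromSpecStalk x) (IsLocalRing.closedPoint (X.presheaf.stalk x)) = x :=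
        Scheme.fromSpecStalk_closedPoint
      rw [← h1]
      exact ht
    exact this)
  have h1 : (X.fromSpecStalk x) (IsLocalRing.closedPoint (X.presheaf.stalk x)) = x :=
    Scheme.fromSpecStalk_closedPoint
  have key : ∀ y : X, (X.fromSpecStalk x) (IsLocalRing.closedPoint (X.presheaf.stalk x)) = y →
      Order.krullDim (Set.Icc y ((X.fromSpecStalk x) p)) =
        Order.krullDim (Set.Icc p (IsLocalRing.closedPoint (X.presheaf.stalk x))) := by
    rintro _ rfl
    exact h
  exact (key x h1).symm

set_option backward.isDefEq.respectTransparency.types false in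
/-- `O_{X,x}` is equidimensional iff `x` has the same codimension in all irreducible components
through it. -/
theorem isEquidim_stalk_iff {X : Scheme.{u}} (x : X) :
    EGA4.IsEquidim (X.presheaf.stalk x) ↔
      ∀ ξ : X, ξ ⤳ x → (∀ t : X, t ⤳ ξ → t = ξ) →
        codim ξ x = ringKrullDim (X.presheaf.stalk x) := by
  constructor
  · intro h ξ hξx hξmax
    have hr : ξ ∈ Set.range (X.fromSpecStalk x) := by
      rw [Scheme.range_fromSpecStalk]; exact hξx
    obtain ⟨P, rfl⟩ := hr
    let P' : PrimeSpectrum (X.presheaf.stalk x) := P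
    have hmin : P'.asIdeal ∈ minimalPrimes (X.presheaf.stalk x) := by
      rw [minimalPrimes_eq_minimals]
      refine ⟨P'.2, ?_⟩
      intro q hq hqP
      let Q : PrimeSpectrum (X.presheaf.stalk x) := ⟨q, hq⟩
      have h1 : (X.fromSpecStalk x) P' ≤ (X.fromSpecStalk x) Q :=
        (fromSpecStalk_le_iff x P' Q).mpr hqP
      have h2 := hξmax _ h1
      have h3 : Q = P' := (X.fromSpecStalk x).isEmbedding.injective h2
      rw [← h3]
    rw [← ringKrullDim_stalk_quotient_eq_codim x P']
    exact h _ hmin
  · intro h p hp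
    have hpp : p.IsPrime := hp.1.1
    let P : PrimeSpectrum (X.presheaf.stalk x) := ⟨p, hpp⟩
    have hξx : (X.fromSpecStalk x) P ⤳ x := by
      have : (X.fromSpecStalk x) P ∈ Set.range (X.fromSpecStalk x) := ⟨_, rfl⟩
      rw [Scheme.range_fromSpecStalk] at this
      exact this
    have hmax : ∀ t : X, t ⤳ (X.fromSpecStalk x) P → t = (X.fromSpecStalk x) P := by
      intro t ht
      have hr : t ∈ Set.range (X.fromSpecStalk x) := by
        rw [Scheme.range_fromSpecStalk]; exact ht.trans hξx
      obtain ⟨Q, rfl⟩ := hr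
      let Q' : PrimeSpectrum (X.presheaf.stalk x) := Q
      have h1 : Q' ≤ P := (fromSpecStalk_le_iff x P Q').mp ht
      have h2 : P ≤ Q' := hp.2 ⟨Q'.2, bot_le⟩ h1
      have : Q' = P := le_antisymm h1 h2
      rw [show Q = Q' from rfl, this]
    have := h _ hξx hmax
    rw [← ringKrullDim_stalk_quotient_eq_codim x P] at this
    exact this

end Groth.Agent.Lib.Helper73

namespace Groth.Agent.Lib.Helper73

/-- If the closure of the image of `closure {ξ}` is an irreducible component `W`, then `f ξ` is a
maximal point, the generic point of `W`. -/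
lemma maximal_image_of_closure_image_mem_irreducibleComponents {X Y : Scheme.{u}} (f : X ⟶ Y)
    (ξ : X) (W : Set Y) (hW : W ∈ irreducibleComponents Y)
    (hcl : closure (f '' closure ({ξ} : Set X)) = W) :
    closure ({f ξ} : Set Y) = W ∧ ∀ t : Y, t ⤳ f ξ → t = f ξ := by
  have h1 : closure ({f ξ} : Set Y) = W := by
    rw [← hcl]
    apply subset_antisymm
    · exact closure_mono (Set.singleton_subset_iff.mpr ⟨ξ, subset_closure rfl, rfl⟩)
    · apply closure_minimal _ isClosed_closure
      have := image_closure_subset_closure_image (s := ({ξ} : Set X)) f.continuous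
      rwa [Set.image_singleton] at this
  refine ⟨h1, ?_⟩
  intro t ht
  have h2 : W ⊆ closure ({t} : Set Y) := by
    rw [← h1]; exact ht.closure_subset
  have h3 : closure ({t} : Set Y) ⊆ W := hW.2 isIrreducible_singleton.closure h2
  have h4 : f ξ ⤳ t := by
    rw [specializes_iff_mem_closure, h1]
    exact h3 (subset_closure rfl)
  exact (ht.antisymm h4).eq

/-- EGA IV 13.3.6 (i), global form. -/
theorem isEquidim_stalk_of_equidim {X Y : Scheme.{u}} [IsLocallyNoetherian Y] (f : X ⟶ Y)
    [LocallyOfFiniteType f] (x : X) (e : ℕ)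
    (h1 : ∀ Z ∈ irreducibleComponents (X : Type u), ∃ W ∈ irreducibleComponents (Y : Type u),
      f x ∈ W ∧ closure (f '' Z) = W)
    (h2 : ∀ x' : X, ∀ Z ∈ irreducibleComponents (↥(f.fiber (f x')) : Type u),
      topologicalKrullDim (↥Z : Type u) = e)
    (hcat : CAlg.IsUniversallyCatenary (Y.presheaf.stalk (f x)))
    (hY : EGA4.IsEquidim (Y.presheaf.stalk (f x))) :
    EGA4.IsEquidim (X.presheaf.stalk x) := by
  have hLN : IsLocallyNoetherian X := LocallyOfFiniteType.isLocallyNoetherian f
  obtain ⟨d, hd⟩ := exists_ringKrullDim_stalk_eq_natCast (f x)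
  -- the key computation
  have key : ∀ ξ : X, ξ ⤳ x → (∀ t : X, t ⤳ ξ → t = ξ) →
      ∃ a : ℕ, codim ξ x = a ∧ a + resTrdegNat f x = d + e := by
    intro ξ hξx hξmax
    obtain ⟨W, hW, hxW, hcl⟩ := h1 _ (closure_singleton_mem_irreducibleComponents_of_maximal ξ hξmax)
    obtain ⟨hclη, hηmax⟩ := maximal_image_of_closure_image_mem_irreducibleComponents f ξ W hW hcl
    have hηx : f ξ ⤳ f x := hξx.map f.continuous
    have hcod : codim (f ξ) (f x) = d := by
      rw [(isEquidim_stalk_iff (f x)).mp hY (f ξ) hηx hηmax, hd]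
    -- the fibre through ξ
    obtain ⟨ζ, hζξ, hζmax⟩ := maximal_fiber_of_maximal f (f ξ) ξ rfl hξmax
    have hcomp := closure_singleton_mem_irreducibleComponents_of_maximal ζ hζmax
    have hdim := h2 ξ _ hcomp
    have hdim' := (isDimFun_trdegNat (k := Y.residueField (f ξ))
      (f.fiberToSpecResidueField (f ξ))).topologicalKrullDim_closure_singleton ζ
    rw [hdim, trdegNat_fiber_eq_resTrdegNat, hζξ] at hdim'
    have hre : e = resTrdegNat f ξ := by exact_mod_cast hdim'
    obtain ⟨a, b, ha, hb, hab⟩ := codim_add_resTrdeg_eq_local f ξ x hξx hcat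
    rw [resTrdeg_eq_resTrdegNat, resTrdeg_eq_resTrdegNat] at hab
    have hab' : a + resTrdegNat f x = b + resTrdegNat f ξ := by exact_mod_cast hab
    rw [hb] at hcod
    have hbd : b = d := by exact_mod_cast hcod
    exact ⟨a, ha, by omega⟩
  rw [isEquidim_stalk_iff]
  intro ξ hξx hξmax
  obtain ⟨ξ0, hξ0x, hξ0max, hξ0c⟩ := exists_maximal_codim_eq_stalk x
  obtain ⟨a, ha, hae⟩ := key ξ hξx hξmax
  obtain ⟨a0, ha0, ha0e⟩ := key ξ0 hξ0x hξ0max
  rw [← hξ0c, ha, ha0]
  have : a = a0 := by omega
  rw [this]

end Groth.Agent.Lib.Helper73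

namespace Groth.Agent.Lib.Helper73

/-- Equidimensionality is invariant under ring isomorphisms. -/
theorem isEquidim_of_ringEquiv {R S : Type u} [CommRing R] [CommRing S] (e : R ≃+* S)
    (h : EGA4.IsEquidim R) : EGA4.IsEquidim S := by
  intro p hp
  have hsurj : Function.Surjective (e : R →+* S) := e.surjective
  have h1 : p.comap (e : R →+* S) ∈ minimalPrimes R := by
    have := Ideal.minimalPrimes_comap_of_surjective hsurj (I := (⊥ : Ideal S)) hp
    have hb : Ideal.comap (e : R →+* S) ⊥ = ⊥ :=
      Ideal.comap_bot_of_injective (e : R →+* S) e.injective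
    rw [hb] at this
    exact this
  have h2 := h _ h1
  have hmap : p = (p.comap (e : R →+* S)).map (e : R →+* S) :=
    (Ideal.map_comap_of_surjective _ hsurj p).symm
  rw [← ringKrullDim_eq_of_ringEquiv e,
    ← ringKrullDim_eq_of_ringEquiv (Ideal.quotientEquiv _ p e hmap)]
  exact h2

/-- Equidimensionality of a local ring of a scheme can be checked on an open subscheme. -/
theorem isEquidim_stalk_of_isOpenImmersion {U X : Scheme.{u}} (j : U ⟶ X) [IsOpenImmersion j]
    (u : U) (h : EGA4.IsEquidim (U.presheaf.stalk u)) :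
    EGA4.IsEquidim (X.presheaf.stalk (j u)) :=
  isEquidim_of_ringEquiv (asIso (j.stalkMap u)).commRingCatIsoToRingEquiv.symm h

end Groth.Agent.Lib.Helper73
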