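import Groth.Agent.Lib.Helper73.DimFormula.OpenDim

/-!
# Irreducible components of fibres (helper73)

* `mem_fiberDims_iff`: the set of dimensions of the irreducible components of a fibre in terms of
  maximal points of the fibre; `topologicalKrullDim_fiber_le_iff_forall_maximal`,
  `resTrdegNat_le_topologicalKrullDim_fiber`, `maximal_fiberHomeo_symm`.
* `exists_generic_of_fiber_component`: generic points of irreducible components of `f⁻¹(y)`.
-/

set_option autoImplicit false
open CategoryTheory AlgebraicGeometry TopologicalSpace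
universe u

namespace Groth.Agent.Lib.Helper73

/-- A point of `X` which is maximal in its fibre gives a maximal point of the fibre scheme. -/
lemma maximal_fiberHomeo_symm {X Y : Scheme.{u}} (f : X ⟶ Y) (y : Y) (ζ : X) (hfζ : f ζ = y)
    (hζmax : ∀ t : X, t ⤳ ζ → f t = f ζ → t = ζ) :
    ∀ t : f.fiber y, t ⤳ (f.fiberHomeo y).symm ⟨ζ, hfζ⟩ → t = (f.fiberHomeo y).symm ⟨ζ, hfζ⟩ := by
  intro t ht
  have hz : f.fiberι y ((f.fiberHomeo y).symm ⟨ζ, hfζ⟩) = ζ :=
    f.fiberι_fiberHomeo_symm y ⟨ζ, hfζ⟩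
  apply (f.fiberι y).isEmbedding.injective
  rw [hz]
  apply hζmax
  · rw [← hz]; exact ht.map (f.fiberι y).continuous
  · have : f.fiberι y t ∈ Set.range (f.fiberι y) := ⟨t, rfl⟩
    rw [f.range_fiberι y] at this
    exact this.trans hfζ.symm

/-- The set of dimensions of the irreducible components of a fibre, in terms of the maximal points
of the fibre. -/
lemma mem_fiberDims_iff {X Y : Scheme.{u}} (f : X ⟶ Y) [LocallyOfFiniteType f] (y : Y)
    (n : WithBot ℕ∞) :
    n ∈ (fun Z : Set ↥(f.fiber y) => topologicalKrullDim ↥Z) '' irreducibleComponents ↥(f.fiber y) ↔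
      ∃ ζ : X, f ζ = y ∧ (∀ t : X, t ⤳ ζ → f t = f ζ → t = ζ) ∧
        n = ((resTrdegNat f ζ : ℕ) : WithBot ℕ∞) := by
  have hδ := isDimFun_trdegNat (k := Y.residueField y) (f.fiberToSpecResidueField y)
  constructor
  · rintro ⟨Z, hZ, rfl⟩
    obtain ⟨ζb, hζbZ, hζbmax⟩ := exists_maximal_of_mem_irreducibleComponents Z hZ
    obtain ⟨hfz, hzmax⟩ := fiberι_maximal_of_maximal f y ζb hζbmax
    refine ⟨f.fiberι y ζb, hfz, fun t ht hft => hzmax t ht (hft.trans hfz), ?_⟩
    have := hδ.topologicalKrullDim_closure_singleton ζb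
    rw [trdegNat_fiber_eq_resTrdegNat, hζbZ] at this
    exact this
  · rintro ⟨ζ, hfζ, hζmax, rfl⟩
    let ζb : f.fiber y := (f.fiberHomeo y).symm ⟨ζ, hfζ⟩
    have hz : f.fiberι y ζb = ζ := f.fiberι_fiberHomeo_symm y ⟨ζ, hfζ⟩
    have hζbmax := maximal_fiberHomeo_symm f y ζ hfζ hζmax
    refine ⟨closure {ζb}, closure_singleton_mem_irreducibleComponents_of_maximal ζb hζbmax, ?_⟩
    have := hδ.topologicalKrullDim_closure_singleton ζb
    rw [trdegNat_fiber_eq_resTrdegNat, hz] at this
    exact this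

/-- The dimension of a fibre is bounded by `N` iff all maximal points of the fibre have residual
transcendence degree at most `N`. -/
lemma topologicalKrullDim_fiber_le_iff_forall_maximal {X Y : Scheme.{u}} (f : X ⟶ Y) [LocallyOfFiniteType f]
    (y : Y) (N : WithBot ℕ∞) :
    topologicalKrullDim ↥(f.fiber y) ≤ N ↔
      ∀ ζ : X, f ζ = y → (∀ t : X, t ⤳ ζ → f t = f ζ → t = ζ) →
        ((resTrdegNat f ζ : ℕ) : WithBot ℕ∞) ≤ N := by
  have hδ := isDimFun_trdegNat (k := Y.residueField y) (f.fiberToSpecResidueField y)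
  rw [topologicalKrullDim_eq_iSup_trdegNat (k := Y.residueField y) (f.fiberToSpecResidueField y),
    iSup_le_iff]
  constructor
  · intro h ζ hfζ _
    have := h ((f.fiberHomeo y).symm ⟨ζ, hfζ⟩)
    rw [trdegNat_fiber_eq_resTrdegNat, f.fiberι_fiberHomeo_symm y ⟨ζ, hfζ⟩] at this
    exact this
  · intro h tb
    obtain ⟨ζb, hζbt, hζbmax⟩ := exists_maximal_specializes tb
    obtain ⟨hfz, hzmax⟩ := fiberι_maximal_of_maximal f y ζb hζbmax
    have h1 := h (f.fiberι y ζb) hfz (fun t ht hft => hzmax t ht (hft.trans hfz))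
    rw [← trdegNat_fiber_eq_resTrdegNat] at h1
    have h2 := hδ.le_of_specializes hζbt
    refine le_trans ?_ h1
    exact_mod_cast h2

/-- Every maximal point of a fibre has residual transcendence degree at most the dimension of the
fibre. -/
lemma resTrdegNat_le_topologicalKrullDim_fiber {X Y : Scheme.{u}} (f : X ⟶ Y)
    [LocallyOfFiniteType f] (ζ : X) :
    ((resTrdegNat f ζ : ℕ) : WithBot ℕ∞) ≤ topologicalKrullDim ↥(f.fiber (f ζ)) := by
  rw [topologicalKrullDim_eq_iSup_trdegNat (k := Y.residueField (f ζ))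
    (f.fiberToSpecResidueField (f ζ))]
  have := le_iSup (fun x : f.fiber (f ζ) =>
    ((trdegNat (k := Y.residueField (f ζ)) (f.fiberToSpecResidueField (f ζ)) x : ℕ∞) : WithBot ℕ∞))
    (f.asFiber ζ)
  rw [trdegNat_fiber_eq_resTrdegNat, f.fiberι_asFiber ζ] at this
  exact this

end Groth.Agent.Lib.Helper73

namespace Groth.Agent.Lib.Helper73

/-- An irreducible component of the set-theoretic fibre `f⁻¹(y)` has a generic point, which is a
maximal point of the fibre. -/
lemma exists_generic_of_fiber_component {X Y : Scheme.{u}} (f : X ⟶ Y) (y : Y) (Z : Set X)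
    (hZy : Z ⊆ f.base ⁻¹' {y}) (hZ : IsIrreducible Z)
    (hZmax : ∀ Z' : Set X, IsIrreducible Z' → Z' ⊆ f.base ⁻¹' {y} → Z ⊆ Z' → Z' = Z) :
    ∃ ζ : X, ζ ∈ Z ∧ f ζ = y ∧ Z = closure {ζ} ∩ f.base ⁻¹' {y} ∧
      ∀ t : X, t ⤳ ζ → f t = f ζ → t = ζ := by
  have hirr : ∀ t : X, f t = y → IsIrreducible (closure ({t} : Set X) ∩ f.base ⁻¹' {y}) := by
    intro t ht
    have h1 : ({t} : Set X) ⊆ closure ({t} : Set X) ∩ f.base ⁻¹' {y} := by
      rintro _ rfl
      exact ⟨subset_closure rfl, ht⟩
    have h2 : closure (closure ({t} : Set X) ∩ f.base ⁻¹' {y}) = closure {t} :=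
      le_antisymm (closure_minimal Set.inter_subset_left isClosed_closure) (closure_mono h1)
    rw [← isIrreducible_iff_closure, h2, isIrreducible_iff_closure]
    exact isIrreducible_singleton
  obtain ⟨g, hg⟩ := QuasiSober.sober hZ.closure isClosed_closure
  have hgZ : closure ({g} : Set X) = closure Z := hg.def
  obtain ⟨z₀, hz₀⟩ := hZ.1
  have hfg : f g = y := by
    have h1 : g ⤳ z₀ := by
      rw [specializes_iff_mem_closure, hgZ]; exact subset_closure hz₀
    have h2 : f g ⤳ y := by
      have := h1.map f.continuous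
      rwa [show f z₀ = y from hZy hz₀] at this
    have h3 : y ⤳ f g := by
      rw [specializes_iff_mem_closure]
      have hcl : IsClosed (f.base ⁻¹' closure {y}) := isClosed_closure.preimage f.continuous
      have hsub : closure Z ⊆ f.base ⁻¹' closure {y} := by
        refine closure_minimal ?_ hcl
        intro z hz
        change f z ∈ closure {y}
        rw [show f z = y from hZy hz]; exact subset_closure rfl
      have : g ∈ closure Z := by rw [← hgZ]; exact subset_closure rfl
      exact hsub this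
    exact (h2.antisymm h3).eq
  have hZeq : Z = closure {g} ∩ f.base ⁻¹' {y} := by
    symm
    apply hZmax _ (hirr g hfg) Set.inter_subset_right
    intro z hz
    exact ⟨by rw [hgZ]; exact subset_closure hz, hZy hz⟩
  have hgmem : g ∈ Z := by
    rw [hZeq]; exact ⟨subset_closure rfl, hfg⟩
  refine ⟨g, hgmem, hfg, hZeq, ?_⟩
  intro t ht hft
  have hft' : f t = y := hft.trans hfg
  have h1 : closure ({t} : Set X) ∩ f.base ⁻¹' {y} = Z := by
    apply hZmax _ (hirr t hft') Set.inter_subset_right
    rw [hZeq]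
    intro z hz
    exact ⟨ht.closure_subset hz.1, hz.2⟩  
  have h2 : t ∈ Z := by
    rw [← h1]; exact ⟨subset_closure rfl, hft'⟩
  rw [hZeq] at h2
  exact (ht.antisymm (specializes_iff_mem_closure.mpr h2.1)).eq

end Groth.Agent.Lib.Helper73
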