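import Groth.Agent.Lib.Helper73.DimFormula.LocDimFiber

/-!
# Cutting fibres by a section (helper73)

* `mem_basicOpen_iff_not_mem_primeIdealOf`, `specializes_of_primeIdealOf_le`.
* `exists_open_forall_maximal_fiber_specializes`: every point has an open neighbourhood in which
  all maximal points of its fibre are generizations of the point.
-/

set_option autoImplicit false
open CategoryTheory AlgebraicGeometry
universe u

namespace Groth.Agent.Lib.Helper73

set_option backward.isDefEq.respectTransparency.types false in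
/-- Membership in a basic open set in terms of the prime ideal of the point. -/
lemma mem_basicOpen_iff_not_mem_primeIdealOf {X : Scheme.{u}} {U : X.Opens} (hU : IsAffineOpen U)
    (g : Γ(X, U)) (x : X) (hx : x ∈ U) :
    x ∈ X.basicOpen g ↔ g ∉ (hU.primeIdealOf ⟨x, hx⟩).asIdeal := by
  have h1 : hU.fromSpec (hU.primeIdealOf ⟨x, hx⟩) = x := hU.fromSpec_primeIdealOf ⟨x, hx⟩
  have h2 : hU.primeIdealOf ⟨x, hx⟩ ∈ hU.fromSpec ⁻¹ᵁ X.basicOpen g ↔ x ∈ X.basicOpen g := by
    change hU.fromSpec (hU.primeIdealOf ⟨x, hx⟩) ∈ X.basicOpen g ↔ _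
    rw [h1]
  rw [← h2, hU.fromSpec_preimage_basicOpen]
  rfl

set_option backward.isDefEq.respectTransparency.types false in
lemma specializes_of_primeIdealOf_le {X : Scheme.{u}} {U : X.Opens} (hU : IsAffineOpen U)
    (x x' : X) (hx : x ∈ U) (hx' : x' ∈ U)
    (h : (hU.primeIdealOf ⟨x, hx⟩ : PrimeSpectrum Γ(X, U)) ≤ hU.primeIdealOf ⟨x', hx'⟩) :
    x ⤳ x' := by
  let a' : PrimeSpectrum Γ(X, U) := hU.primeIdealOf ⟨x, hx⟩
  let b' : PrimeSpectrum Γ(X, U) := hU.primeIdealOf ⟨x', hx'⟩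
  have h2 : hU.primeIdealOf ⟨x, hx⟩ ⤳ hU.primeIdealOf ⟨x', hx'⟩ :=
    (PrimeSpectrum.le_iff_specializes a' b').mp h
  have h3 := h2.map hU.fromSpec.continuous
  rwa [hU.fromSpec_primeIdealOf ⟨x, hx⟩, hU.fromSpec_primeIdealOf ⟨x', hx'⟩] at h3

/-- Every point has an open neighbourhood in which all maximal points of its fibre are
generizations of the point. -/
theorem exists_open_forall_maximal_fiber_specializes {X Y : Scheme.{u}} (f : X ⟶ Y)
    [LocallyOfFiniteType f] (x : X) :
    ∃ W : X.Opens, x ∈ W ∧ ∀ z ∈ W, f z = f x →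
      (∀ t : X, t ⤳ z → f t = f z → t = z) → z ⤳ x := by
  obtain ⟨W, hW, hxW, hall⟩ := exists_open_forall_exists_generic_scheme
    (k := Y.residueField (f x)) (f.fiberToSpecResidueField (f x)) (f.asFiber x)
  obtain ⟨W', hW', rfl⟩ := (f.fiberι (f x)).isEmbedding.isInducing.isOpen_iff.mp hW
  refine ⟨⟨W', hW'⟩, ?_, ?_⟩
  · have : f.fiberι (f x) (f.asFiber x) ∈ W' := hxW
    rwa [f.fiberι_asFiber x] at this
  · intro z hzW hfz hzmax
    obtain ⟨ζ, hζz, hζmax⟩ := maximal_fiber_of_maximal' f (f x) z hfz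
      (fun t ht hft => hzmax t ht (hft.trans hfz.symm))
    have hζW : ζ ∈ f.fiberι (f x) ⁻¹' W' := by
      change f.fiberι (f x) ζ ∈ W'
      rw [hζz]; exact hzW
    obtain ⟨η, h1, h2⟩ := hall ζ hζW
    rw [hζmax η h1] at h2
    have := h2.map (f.fiberι (f x)).continuous
    rwa [hζz, f.fiberι_asFiber x] at this

end Groth.Agent.Lib.Helper73
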