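import Groth.Agent.Lib.Helper73.DimFormula.CutEquidim
import Groth.Agent.S5924

/-!
# Quasi-sections of equidimensional morphisms (EGA IV 14.5)

* `isEquidimAt_comp_of_isOpenImmersion`: equidimensionality at a point is local on the source.
* `HasQuasiSection f x`: there is an irreducible reduced subscheme `T` of `X` through `x`, with
  `T ⟶ Y` locally of finite type, locally quasi-finite, quasi-compact and dominant.
* `HasQuasiSection.of_immersion`, `hasQuasiSection_of_generic`,
  `hasQuasiSection_of_fibreDimAt_le_zero`.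
* `resTrdegNat_eq_zero_of_closed_in_fiber`.
* `mem_basicOpen_topIso_inv_iff`.
* `hasQuasiSection_of_fibreDimAt_le`: over an irreducible locally Noetherian base, a morphism
  locally of finite type equidimensional at a point `x` closed in its fibre has a quasi-section
  through `x`.
-/

set_option autoImplicit false
open CategoryTheory AlgebraicGeometry TopologicalSpace Topology
universe u

namespace Groth.Agent.Lib.Helper73

/-- Equidimensionality at a point is local on the source. -/
theorem isEquidimAt_comp_of_isOpenImmersion {U X Y : Scheme.{u}} (j : U ⟶ X) [IsOpenImmersion j]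
    (f : X ⟶ Y) [LocallyOfFiniteType f] (u : U) (h : EGA43.IsEquidimAt f (j u)) :
    EGA43.IsEquidimAt (j ≫ f) u := by
  obtain ⟨e, V, huV, hA, hB⟩ := (isEquidimAt_iff f (j u)).mp h
  rw [isEquidimAt_iff]
  have hgen : ∀ (a : U) (t : X), t ⤳ j a → ∃ t' : U, j t' = t ∧ t' ⤳ a := by
    intro a t ht
    have htr : t ∈ Set.range j := ht.mem_open j.isOpenEmbedding.isOpen_range ⟨a, rfl⟩
    obtain ⟨t', rfl⟩ := htr
    exact ⟨t', rfl, j.isEmbedding.isInducing.specializes_iff.mp ht⟩
  refine ⟨e, j ⁻¹ᵁ V, huV, ?_, ?_⟩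
  · intro ξ hξV hξmax
    have hjξmax : ∀ t : X, t ⤳ j ξ → t = j ξ := by
      intro t ht
      obtain ⟨t', rfl, ht'⟩ := hgen ξ t ht
      rw [hξmax t' ht']
    exact hA (j ξ) hξV hjξmax
  · intro ζ hζV hζmax
    have hjζmax : ∀ t : X, t ⤳ j ζ → f t = f (j ζ) → t = j ζ := by
      intro t ht hft
      obtain ⟨t', rfl, ht'⟩ := hgen ζ t ht
      rw [hζmax t' ht' hft]
    rw [resTrdegNat_comp_of_isOpenImmersion]
    exact hB (j ζ) hζV hjζmax

/-- A quasi-section of `f` through `x`: an irreducible reduced subscheme of `X` through `x` which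
is quasi-finite and dominant over the base. -/
def HasQuasiSection {X Y : Scheme.{u}} (f : X ⟶ Y) (x : X) : Prop :=
  ∃ (T : Scheme.{u}) (i : T ⟶ X), IsImmersion i ∧ IrreducibleSpace ↥T ∧ IsReduced T ∧
    x ∈ Set.range i.base ∧ LocallyOfFiniteType (i ≫ f) ∧ LocallyQuasiFinite (i ≫ f) ∧
    QuasiCompact (i ≫ f) ∧ IsDominant (i ≫ f)

/-- Quasi-sections of a subscheme are quasi-sections of the ambient scheme. -/
lemma HasQuasiSection.of_immersion {X₁ X Y : Scheme.{u}} (j : X₁ ⟶ X) [IsImmersion j]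
    (f : X ⟶ Y) (x₁ : X₁) (h : HasQuasiSection (j ≫ f) x₁) : HasQuasiSection f (j x₁) := by
  obtain ⟨T, i, h1, h2, h3, ⟨t, ht⟩, h5, h6, h7, h8⟩ := h
  refine ⟨T, i ≫ j, inferInstance, h2, h3, ⟨t, ?_⟩, ?_, ?_, ?_, ?_⟩
  · change j (i t) = j x₁
    rw [show i t = x₁ from ht]
  · rw [Category.assoc]; exact h5
  · rw [Category.assoc]; exact h6
  · rw [Category.assoc]; exact h7
  · rw [Category.assoc]; exact h8

/-- A space with a point specializing to every point is irreducible. -/
lemma irreducibleSpace_of_forall_specializes {W : Type*} [TopologicalSpace W] (ξ : W)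
    (h : ∀ t : W, ξ ⤳ t) : IrreducibleSpace W := by
  rw [irreducibleSpace_def]
  have : closure ({ξ} : Set W) = Set.univ := by
    ext t
    simp only [Set.mem_univ, iff_true]
    exact specializes_iff_mem_closure.mp (h t)
  change IsIrreducible (Set.univ : Set W)
  rw [← this]
  exact isIrreducible_singleton.closure

/-- The reduced induced subscheme on a closed subset is reduced. -/
lemma isReduced_vanishingIdeal_subscheme {X : Scheme.{u}} (Z : Closeds X) :
    IsReduced (Scheme.IdealSheafData.vanishingIdeal Z).subscheme := by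
  have : ∀ U : (Scheme.IdealSheafData.vanishingIdeal Z).subschemeCover.openCover.I₀, IsReduced
      ((Scheme.IdealSheafData.vanishingIdeal Z).subschemeCover.openCover.X U) := by
    intro (U : X.affineOpens)
    have h : _root_.IsReduced (Γ(X, U) ⧸ (Scheme.IdealSheafData.vanishingIdeal Z).ideal U) := by
      rw [← Ideal.isRadical_iff_quotient_reduced, Scheme.IdealSheafData.vanishingIdeal_ideal]
      exact PrimeSpectrum.isRadical_vanishingIdeal _
    show IsReduced (Spec (.of (Γ(X, U) ⧸ (Scheme.IdealSheafData.vanishingIdeal Z).ideal U)))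
    infer_instance
  exact @IsReduced.of_openCover _ (Scheme.IdealSheafData.vanishingIdeal Z).subschemeCover.openCover this

/-- Quasi-sections through a point with zero-dimensional fibre, on a scheme with a generic point
lying over the generic point of the base. -/
theorem hasQuasiSection_of_generic {Z Y : Scheme.{u}} [IrreducibleSpace Y] [IsLocallyNoetherian Y]
    [IsReduced Z] (g : Z ⟶ Y) [LocallyOfFiniteType g] (ξ : Z) (hgen : ∀ t : Z, ξ ⤳ t)
    (hgξ : g ξ = genericPoint Y) (w : Z) (h0 : FlatMor.fibreDimAt g w ≤ 0) :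
    HasQuasiSection g w := by
  have hwQ : w ∈ g.quasiFiniteLocus := (quasiFiniteAt_iff_fibreDimAt_le_zero g w).mpr h0
  obtain ⟨W, hW, hwW, hWQ⟩ :=
    exists_isAffineOpen_mem_and_subset (X := Z) (x := w) (U := g.quasiFiniteLocus) hwQ
  have hξW : ξ ∈ W := (hgen w).mem_open W.isOpen hwW
  have hAff : IsAffine ↑W := hW
  refine ⟨↑W, W.ι, inferInstance, ?_, inferInstance, ⟨⟨w, hwW⟩, rfl⟩, inferInstance, ?_,
    inferInstance, ?_⟩
  · apply irreducibleSpace_of_forall_specializes (⟨ξ, hξW⟩ : ↥W)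
    intro t
    exact (subtype_specializes_iff _ t).mpr (hgen t.1)
  · rw [← Scheme.Hom.quasiFiniteLocus_eq_top_iff, Scheme.Hom.quasiFiniteLocus_comp]
    rw [eq_top_iff]
    intro t _
    exact hWQ t.2
  · constructor
    intro t
    have h1 : genericPoint Y ∈ Set.range (W.ι ≫ g) := ⟨⟨ξ, hξW⟩, hgξ⟩
    have h2 : closure ({genericPoint Y} : Set Y) ⊆ closure (Set.range (W.ι ≫ g)) :=
      closure_mono (Set.singleton_subset_iff.mpr h1)
    exact h2 (specializes_iff_mem_closure.mp (genericPoint_specializes t))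

/-- Quasi-sections through a point of an equidimensional morphism with zero-dimensional fibre. -/
theorem hasQuasiSection_of_fibreDimAt_le_zero {X Y : Scheme.{u}} [IrreducibleSpace Y]
    [IsLocallyNoetherian Y] (f : X ⟶ Y) [LocallyOfFiniteType f] (x : X)
    (hf : EGA43.IsEquidimAt f x) (h0 : FlatMor.fibreDimAt f x ≤ 0) : HasQuasiSection f x := by
  obtain ⟨e, U, hxU, hA, hB⟩ := (isEquidimAt_iff f x).mp hf
  obtain ⟨ξ, hξx, hξmax⟩ := exists_maximal_specializes x
  have hξU : ξ ∈ U := hξx.mem_open U.isOpen hxU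
  obtain ⟨hηmax, -⟩ := hA ξ hξU hξmax
  have hη : f ξ = genericPoint Y := (hηmax _ (genericPoint_specializes (f ξ))).symm
  let Z₀ : Closeds X := ⟨closure {ξ}, isClosed_closure⟩
  let I₀ := Scheme.IdealSheafData.vanishingIdeal Z₀
  have hrange : Set.range I₀.subschemeι = closure ({ξ} : Set X) := by
    rw [Scheme.IdealSheafData.range_subschemeι]
    exact Scheme.IdealSheafData.coe_support_vanishingIdeal _
  have hxr : x ∈ Set.range I₀.subschemeι := by
    rw [hrange]; exact specializes_iff_mem_closure.mp hξx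
  obtain ⟨w, hw⟩ := hxr
  obtain ⟨ξ'', hξ'', hgen⟩ := exists_generic_of_range_eq_closure I₀.subschemeι ξ hrange
  have hred : IsReduced I₀.subscheme := isReduced_vanishingIdeal_subscheme Z₀
  have hfd : FlatMor.fibreDimAt (I₀.subschemeι ≫ f) w ≤ 0 := by
    refine (fibreDimAt_comp_le_of_isPreimmersion I₀.subschemeι f w).trans ?_
    rw [hw]; exact h0
  have hgξ : (I₀.subschemeι ≫ f) ξ'' = genericPoint Y := by
    change f (I₀.subschemeι ξ'') = _
    rw [hξ'', hη]
  have := hasQuasiSection_of_generic (I₀.subschemeι ≫ f) ξ'' hgen hgξ w hfd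
  have h2 := HasQuasiSection.of_immersion I₀.subschemeι f w this
  rwa [hw] at h2

/-- A point closed in its fibre has residue field algebraic over the residue field of its image. -/
theorem resTrdegNat_eq_zero_of_closed_in_fiber {X Y : Scheme.{u}} (f : X ⟶ Y)
    [LocallyOfFiniteType f] (x : X) (hcl : ∀ x' : X, f x' = f x → x ⤳ x' → x' = x) :
    resTrdegNat f x = 0 := by
  have hδ := isDimFun_trdegNat (k := Y.residueField (f x)) (f.fiberToSpecResidueField (f x))
  by_contra hne
  have h1 : trdegNat (k := Y.residueField (f x)) (f.fiberToSpecResidueField (f x)) (f.asFiber x) ≠ 0 := by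
    rw [trdegNat_fiber_eq_resTrdegNat, f.fiberι_asFiber x]
    exact hne
  obtain ⟨y, -, hxy, hyne⟩ := hδ.exists_specializes_of_ne_zero (f.asFiber x) Set.univ isOpen_univ
    (Set.mem_univ _) h1
  apply hyne
  apply (f.fiberι (f x)).isEmbedding.injective
  rw [f.fiberι_asFiber x]
  apply hcl
  · have : f.fiberι (f x) y ∈ Set.range (f.fiberι (f x)) := ⟨y, rfl⟩
    rw [f.range_fiberι (f x)] at this
    exact this
  · have := hxy.map (f.fiberι (f x)).continuous
    rwa [f.fiberι_asFiber x] at this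

lemma mem_basicOpen_topIso_inv_iff {X : Scheme.{u}} (U : X.Opens) (g : Γ(X, U)) (t : ↥U) :
    t ∈ U.toScheme.basicOpen (U.topIso.inv g) ↔ U.ι t ∈ X.basicOpen g := by
  have h := Scheme.Opens.ι_image_basicOpen_topIso_inv U g
  constructor
  · intro ht
    rw [← h]
    exact ⟨t, ht, rfl⟩
  · intro ht
    rw [← h] at ht
    obtain ⟨t', ht', he⟩ := ht
    have := U.ι.isOpenEmbedding.injective he
    rwa [← this]


/-- Quasi-sections through points closed in their fibre, by induction on the fibre dimension. -/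
theorem hasQuasiSection_of_fibreDimAt_le {Y : Scheme.{u}} [IrreducibleSpace Y]
    [IsLocallyNoetherian Y] (n : ℕ) : ∀ (X : Scheme.{u}) (f : X ⟶ Y) [LocallyOfFiniteType f] (x : X),
    EGA43.IsEquidimAt f x → (∀ x' : X, f x' = f x → x ⤳ x' → x' = x) →
    FlatMor.fibreDimAt f x ≤ ((n : ℕ) : WithBot ℕ∞) → HasQuasiSection f x := by
  induction n with
  | zero =>
    intro X f _ x hf _ h0
    exact hasQuasiSection_of_fibreDimAt_le_zero f x hf (by exact_mod_cast h0)
  | succ n ih =>
    intro X f _ x hf hcl hn1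
    by_cases hn : FlatMor.fibreDimAt f x ≤ ((n : ℕ) : WithBot ℕ∞)
    · exact ih X f x hf hcl hn
    -- `x` is not maximal in its fibre
    have hnotmax : ¬ ∀ t : X, t ⤳ x → f t = f x → t = x := by
      intro hmax
      apply hn
      rw [fibreDimAt_eq_resTrdegNat_of_maximal f x hmax,
        resTrdegNat_eq_zero_of_closed_in_fiber f x hcl]
      exact_mod_cast Nat.zero_le n
    push Not at hnotmax
    obtain ⟨x', hx'x, hfx', hne⟩ := hnotmax
    obtain ⟨U, hU, hxU, g, hxg, hmaxg⟩ := Groth.Agent.S5924.result f x hf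
      ⟨x', hfx', hne, specializes_iff_mem_closure.mp hx'x⟩
    -- restrict to `U`
    let x₁ : ↥U.toScheme := ⟨x, hxU⟩
    have hjx : U.ι x₁ = x := rfl
    have hf₁ : EGA43.IsEquidimAt (U.ι ≫ f) x₁ := isEquidimAt_comp_of_isOpenImmersion U.ι f x₁ hf
    have hLN : IsLocallyNoetherian U.toScheme := LocallyOfFiniteType.isLocallyNoetherian (U.ι ≫ f)
    let g₁ : Γ(↑U, ⊤) := U.topIso.inv g
    let K : Set ↥U.toScheme := U.toScheme.zeroLocus ({g₁} : Set Γ(↑U, ⊤))
    have hK : IsClosed K := Scheme.zeroLocus_isClosed _ _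
    have hKmem : ∀ t : ↥U.toScheme, t ∈ K ↔ U.ι t ∉ X.basicOpen g := by
      intro t
      change t ∈ U.toScheme.zeroLocus ({g₁} : Set Γ(↑U, ⊤)) ↔ _
      rw [Scheme.mem_zeroLocus_iff]
      simp only [Set.mem_singleton_iff, forall_eq]
      exact not_congr (mem_basicOpen_topIso_inv_iff U g t)
    obtain ⟨e, U₁, hxU₁, hA₁, hB₁⟩ := (isEquidimAt_iff (U.ι ≫ f) x₁).mp hf₁
    have hmaxK : ∀ z : ↥U.toScheme, (U.ι ≫ f) z = (U.ι ≫ f) x₁ →
        (∀ t : ↥U.toScheme, t ⤳ z → (U.ι ≫ f) t = (U.ι ≫ f) z → t = z) → z ∉ K := by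
      intro z hfz hzmax
      rw [hKmem, not_not]
      apply hmaxg (U.ι z) hfz ?_ z.2
      intro z' hfz' hz'
      have hz'z : z' ⤳ U.ι z := specializes_iff_mem_closure.mpr hz'
      have hz'U : z' ∈ Set.range U.ι :=
        hz'z.mem_open U.ι.isOpenEmbedding.isOpen_range ⟨z, rfl⟩
      obtain ⟨t', rfl⟩ := hz'U
      have h1 : t' ⤳ z := U.ι.isEmbedding.isInducing.specializes_iff.mp hz'z
      rw [hzmax t' h1 (hfz'.trans hfz.symm)]
    have hx₁K : x₁ ∈ K := by
      rw [hKmem]; exact hxg
    let I₁ := Scheme.IdealSheafData.vanishingIdeal (⟨K, hK⟩ : Closeds ↥U.toScheme)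
    have hrange : Set.range I₁.subschemeι = K := by
      rw [Scheme.IdealSheafData.range_subschemeι]
      exact Scheme.IdealSheafData.coe_support_vanishingIdeal _
    have hxr : x₁ ∈ Set.range I₁.subschemeι := by rw [hrange]; exact hx₁K
    obtain ⟨w, hw⟩ := hxr
    have hKrull : ∀ ξ' ∈ K, (∀ t ∈ K, t ⤳ ξ' → t = ξ') →
        ringKrullDim (U.toScheme.presheaf.stalk ξ') ≤ 1 := fun ξ' h1 h2 =>
      ringKrullDim_stalk_le_one_of_maximal_zeroLocus g₁ ξ' h1 h2
    have hfw : EGA43.IsEquidimAt (I₁.subschemeι ≫ U.ι ≫ f) w :=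
      isEquidimAt_of_cut (U.ι ≫ f) x₁ e U₁ hxU₁ hB₁ K hK hmaxK hA₁ hKrull I₁.subschemeι hrange w hw
    -- `e ≤ n + 1`
    have he : e ≤ n + 1 := by
      obtain ⟨ζ, hζx, hfζ, hζmax⟩ := exists_maximal_fiber_specializes (U.ι ≫ f) x₁
      have h1 : resTrdegNat (U.ι ≫ f) ζ = e := hB₁ ζ (hζx.mem_open U₁.isOpen hxU₁) hζmax
      rw [resTrdegNat_comp_of_isPreimmersion] at h1
      have h2 := resTrdegNat_le_fibreDimAt_of_specializes f x (U.ι ζ) (hζx.map U.ι.continuous) hfζ
      rw [h1] at h2
      have h3 := h2.trans hn1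
      exact_mod_cast h3
    have hfdw : FlatMor.fibreDimAt (I₁.subschemeι ≫ U.ι ≫ f) w ≤ ((n : ℕ) : WithBot ℕ∞) := by
      apply fibreDimAt_le_of_forall_generization
      intro η hηw _
      rw [resTrdegNat_comp_of_isPreimmersion]
      have h1 : I₁.subschemeι η ∈ K := by rw [← hrange]; exact ⟨η, rfl⟩
      have h2 : I₁.subschemeι η ⤳ x₁ := by rw [← hw]; exact hηw.map I₁.subschemeι.continuous
      have := resTrdegNat_add_one_le_of_mem_closed (U.ι ≫ f) x₁ e U₁ hxU₁ hB₁ K hK hmaxK _ h1 h2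
      omega
    have hclw : ∀ w' : ↥I₁.subscheme, (I₁.subschemeι ≫ U.ι ≫ f) w' = (I₁.subschemeι ≫ U.ι ≫ f) w →
        w ⤳ w' → w' = w := by
      intro w' hfw' hww'
      apply I₁.subschemeι.isEmbedding.injective
      apply U.ι.isOpenEmbedding.injective
      rw [hw]
      apply hcl
      · have : f (U.ι (I₁.subschemeι w')) = f (U.ι (I₁.subschemeι w)) := hfw'
        rw [this, hw]
        rfl
      · have := (hww'.map I₁.subschemeι.continuous).map U.ι.continuous
        rwa [hw] at this
    have h1 := ih _ (I₁.subschemeι ≫ U.ι ≫ f) w hfw hclw hfdw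
    have h2 := HasQuasiSection.of_immersion I₁.subschemeι (U.ι ≫ f) w h1
    rw [hw] at h2
    exact HasQuasiSection.of_immersion U.ι f x₁ h2

end Groth.Agent.Lib.Helper73
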