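import Groth.Agent.Lib.Helper73.DimFormula.FieldExtScheme
import Groth.Agent.Lib.Helper73.DimFormula.QuasiSection

/-!
# Equidimensional morphisms and flat base change (EGA IV 13.3.8) (helper73)

* `exists_specializes_of_isPullback_of_fiber`: in a pullback square, generizations of `f' ξ'`
  inside the fibre of `g` lift to generizations of `ξ'`.
* `isEquidimAt_of_isPullback_of_flat`: equidimensionality at a point is stable under flat base
  change to a locally Noetherian scheme.
-/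

set_option autoImplicit false
open CategoryTheory AlgebraicGeometry TopologicalSpace Topology Limits
universe u

namespace Groth.Agent.Lib.Helper73

/-- In a pullback square, generizations of `f' ξ'` inside the fibre of `g` through it lift to
generizations of `ξ'` (inside the fibre of `p`). -/
theorem exists_specializes_of_isPullback_of_fiber {X Y X' Y' : Scheme.{u}} {f : X ⟶ Y} {g : Y' ⟶ Y}
    {p : X' ⟶ X} {f' : X' ⟶ Y'} (hsq : IsPullback p f' f g) (ξ' : X') (y'' : Y')
    (hy'' : y'' ⤳ f' ξ') (hg : g y'' = g (f' ξ')) :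
    ∃ ξ'' : X', ξ'' ⤳ ξ' ∧ f' ξ'' = y'' ∧ p ξ'' = p ξ' := by
  have hP := isPullback_fiberToSpecResidueField_of_isPullback hsq.flip (p ξ')
  let r : p.fiber (p ξ') ⟶ g.fiber (f (p ξ')) :=
    pullback.map _ _ _ _ f' (Spec.map (f.residueFieldMap (p ξ'))) f hsq.flip.w.symm (by simp)
  have hr : r ≫ g.fiberι (f (p ξ')) = p.fiberι (p ξ') ≫ f' := pullback.lift_fst _ _ _
  have hflat : Flat r := flat_of_isPullback_field (k := Y.residueField (f (p ξ')))
    (K := X.residueField (p ξ')) (f.residueFieldMap (p ξ')).hom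
    (g.fiberToSpecResidueField (f (p ξ'))) (p.fiberToSpecResidueField (p ξ')) r hP
  have hw : f (p ξ') = g (f' ξ') := congrArg (fun φ => φ ξ') hsq.w
  have hgy'' : g y'' = f (p ξ') := hg.trans hw.symm
  let y''b : g.fiber (f (p ξ')) := (g.fiberHomeo (f (p ξ'))).symm ⟨y'', hgy''⟩
  have hy''b : g.fiberι (f (p ξ')) y''b = y'' := g.fiberι_fiberHomeo_symm _ ⟨y'', hgy''⟩
  have hrξ : g.fiberι (f (p ξ')) (r (p.asFiber ξ')) = f' ξ' := by
    have := congrArg (fun φ => φ (p.asFiber ξ')) hr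
    simp only [Scheme.Hom.comp_apply] at this
    rw [this, p.fiberι_asFiber ξ']
  have hsp : y''b ⤳ r (p.asFiber ξ') := by
    rw [← (g.fiberι (f (p ξ'))).isEmbedding.isInducing.specializes_iff, hy''b, hrξ]
    exact hy''
  obtain ⟨ξ''b, h1, h2⟩ := Flat.generalizingMap r hsp
  refine ⟨p.fiberι (p ξ') ξ''b, ?_, ?_, ?_⟩
  · have := h1.map (p.fiberι (p ξ')).continuous
    rwa [p.fiberι_asFiber ξ'] at this
  · have := congrArg (fun φ => φ ξ''b) hr
    simp only [Scheme.Hom.comp_apply] at this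
    rw [← this, h2, hy''b]
  · have : p.fiberι (p ξ') ξ''b ∈ Set.range (p.fiberι (p ξ')) := ⟨_, rfl⟩
    rw [p.range_fiberι (p ξ')] at this
    exact this


/-- Equidimensionality at a point is stable under flat base change to a locally Noetherian
scheme (EGA IV 13.3.8). -/
theorem isEquidimAt_of_isPullback_of_flat {X Y X' Y' : Scheme.{u}} (f : X ⟶ Y)
    [LocallyOfFiniteType f] (g : Y' ⟶ Y) [Flat g] [IsLocallyNoetherian Y'] (p : X' ⟶ X)
    (f' : X' ⟶ Y') (hsq : IsPullback p f' f g) (x' : X') (h : EGA43.IsEquidimAt f (p x')) :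
    haveI : LocallyOfFiniteType f' := locallyOfFiniteType_of_isPullback' f g p f' hsq
    EGA43.IsEquidimAt f' x' := by
  have hlft : LocallyOfFiniteType f' := locallyOfFiniteType_of_isPullback' f g p f' hsq
  have hpflat : Flat p := MorphismProperty.of_isPullback hsq.flip ‹Flat g›
  obtain ⟨e, U, hxU, hA, hB⟩ := (isEquidimAt_iff f (p x')).mp h
  obtain ⟨N, hN, hy'N, hNoeth⟩ := exists_open_noetherianSpace_of_isLocallyNoetherian Y' (f' x')
  obtain ⟨W', hW', hy'W', hW'gen⟩ := exists_open_forall_exists_generic_of_nhd (f' x') N hN hy'N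
  rw [isEquidimAt_iff]
  refine ⟨e, p ⁻¹ᵁ U ⊓ f' ⁻¹ᵁ ⟨W', hW'⟩, ⟨hxU, hy'W'⟩, ?_, ?_⟩
  · rintro ξ' ⟨hξ'U, hξ'W⟩ hξ'max
    have hξmax : ∀ t : X, t ⤳ p ξ' → t = p ξ' :=
      IsDimFun.maximal_map_of_generalizingMap p (Flat.generalizingMap p) ξ' hξ'max
    obtain ⟨hηmax, -⟩ := hA (p ξ') hξ'U hξmax
    have hw : f (p ξ') = g (f' ξ') := congrArg (fun φ => φ ξ') hsq.w
    have hy'max : ∀ t : Y', t ⤳ f' ξ' → t = f' ξ' := by
      intro y'' hy''
      have hg : g y'' = g (f' ξ') := by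
        rw [← hw]
        apply hηmax
        rw [hw]
        exact hy''.map g.continuous
      obtain ⟨ξ'', h1, h2, -⟩ := exists_specializes_of_isPullback_of_fiber hsq ξ' y'' hy'' hg
      rw [← h2, hξ'max ξ'' h1]
    refine ⟨hy'max, ?_⟩
    obtain ⟨η₀, h1, h2⟩ := hW'gen (f' ξ') hξ'W
    rw [hy'max η₀ h1] at h2
    exact h2
  · rintro ζ' ⟨hζ'U, -⟩ hζ'max
    have hP := isPullback_fiberToSpecResidueField_of_isPullback hsq (f' ζ')
    have hζ'bmax : ∀ t : f'.fiber (f' ζ'), t ⤳ f'.asFiber ζ' → t = f'.asFiber ζ' :=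
      maximal_fiberHomeo_symm f' (f' ζ') ζ' rfl hζ'max
    have h2 := trdegNat_eq_of_isPullback_of_maximal (k := Y.residueField (g (f' ζ')))
      (K := Y'.residueField (f' ζ')) (g.residueFieldMap (f' ζ')).hom
      (f.fiberToSpecResidueField (g (f' ζ'))) (f'.fiberToSpecResidueField (f' ζ'))
      (fiberMapOfIsPullback f g p f' hsq (f' ζ')) hP (f'.asFiber ζ') hζ'bmax
    have h3 := maximal_map_of_isPullback_field (k := Y.residueField (g (f' ζ')))
      (K := Y'.residueField (f' ζ')) (g.residueFieldMap (f' ζ')).hom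
      (f.fiberToSpecResidueField (g (f' ζ'))) (f'.fiberToSpecResidueField (f' ζ'))
      (fiberMapOfIsPullback f g p f' hsq (f' ζ')) hP (f'.asFiber ζ') hζ'bmax
    have hι : f.fiberι (g (f' ζ')) (fiberMapOfIsPullback f g p f' hsq (f' ζ') (f'.asFiber ζ')) =
        p ζ' := by
      have := congrArg (fun φ => φ (f'.asFiber ζ')) (fiberMapOfIsPullback_fiberι f g p f' hsq (f' ζ'))
      simp only [Scheme.Hom.comp_apply] at this
      rw [this, f'.fiberι_asFiber ζ']
    obtain ⟨h4, h5⟩ := fiberι_maximal_of_maximal f (g (f' ζ')) _ h3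
    rw [hι] at h4 h5
    have hζmax : ∀ t : X, t ⤳ p ζ' → f t = f (p ζ') → t = p ζ' := by
      intro t ht hft
      exact h5 t ht (hft.trans h4)
    have h6 := hB (p ζ') hζ'U hζmax
    rw [trdegNat_fiber_eq_resTrdegNat, trdegNat_fiber_eq_resTrdegNat, hι,
      f'.fiberι_asFiber ζ'] at h2
    rw [h2, h6]

end Groth.Agent.Lib.Helper73
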