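import Groth.Agent.Lib.Helper73.DimFormula.FibreDimSemi

/-!
# The generic fibre dimension locus (helper73)

* `trdegNat_eq_resTrdegNat`, `trdegNat_eq_add`, `topologicalKrullDim_eq_trdegNat_genericPoint`.
* `fibreDimAt_genericPoint`, `resTrdegNat_genericPoint_le_fibreDimAt` (Chevalley lower bound),
  `isOpen_dense_fibreDimAt_eq_generic`.
-/

set_option autoImplicit false
open CategoryTheory AlgebraicGeometry
universe u

namespace Groth.Agent.Lib.Helper73

/-- For schemes over a field, the `DimFT` dimension function is `resTrdegNat` of the structure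
morphism. -/
lemma trdegNat_eq_resTrdegNat {k : Type u} [Field k] {X : Scheme.{u}}
    (π : X ⟶ Spec (CommRingCat.of k)) (x : X) : trdegNat π x = resTrdegNat π x := by
  unfold trdegNat resTrdegNat
  rw [resTrdeg_eq_trdeg_resMapOf]

/-- Additivity of transcendence degrees of residue fields for a morphism of schemes locally of
finite type over a field. -/
lemma trdegNat_eq_add {k : Type u} [Field k] {X Y : Scheme.{u}}
    (πX : X ⟶ Spec (CommRingCat.of k)) (πY : Y ⟶ Spec (CommRingCat.of k))
    [LocallyOfFiniteType πX] [LocallyOfFiniteType πY] (f : X ⟶ Y) (hf : f ≫ πY = πX) (x : X) :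
    trdegNat πX x = trdegNat πY (f x) + resTrdegNat f x := by
  subst hf
  have : LocallyOfFiniteType f := locallyOfFiniteType_of_comp f πY
  rw [trdegNat_eq_resTrdegNat, trdegNat_eq_resTrdegNat, resTrdegNat_comp]

/-- The dimension of an irreducible scheme locally of finite type over a field is the
transcendence degree of the residue field of its generic point. -/
lemma topologicalKrullDim_eq_trdegNat_genericPoint {k : Type u} [Field k] {X : Scheme.{u}}
    (π : X ⟶ Spec (CommRingCat.of k)) [LocallyOfFiniteType π] [IrreducibleSpace X] :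
    topologicalKrullDim X = ((trdegNat π (genericPoint X) : ℕ) : WithBot ℕ∞) := by
  have hδ := isDimFun_trdegNat π
  rw [hδ.topologicalKrullDim_eq_iSup]
  apply le_antisymm
  · refine iSup_le fun x => ?_
    have := hδ.le_of_specializes (genericPoint_specializes x)
    exact_mod_cast this
  · exact le_iSup (fun x : X => ((trdegNat π x : ℕ∞) : WithBot ℕ∞)) (genericPoint X)

/-- The generic point of an irreducible scheme is maximal. -/
lemma eq_genericPoint_of_specializes {X : Scheme.{u}} [IrreducibleSpace X] (t : X)
    (ht : t ⤳ genericPoint X) : t = genericPoint X :=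
  (ht.antisymm (genericPoint_specializes t)).eq

/-- The local fibre dimension at the generic point of an irreducible scheme. -/
lemma fibreDimAt_genericPoint {X Y : Scheme.{u}} (f : X ⟶ Y) [LocallyOfFiniteType f]
    [IrreducibleSpace X] :
    FlatMor.fibreDimAt f (genericPoint X) =
      ((resTrdegNat f (genericPoint X) : ℕ) : WithBot ℕ∞) := by
  rw [fibreDimAt_eq, ringKrullDim_fiber_stalk_eq_zero_of_maximal f (genericPoint X)
    (fun t ht _ => eq_genericPoint_of_specializes t ht), zero_add]

/-- Chevalley: on an irreducible scheme the local fibre dimension is at least the generic one. -/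
lemma resTrdegNat_genericPoint_le_fibreDimAt {X Y : Scheme.{u}} (f : X ⟶ Y)
    [LocallyOfFiniteType f] [IrreducibleSpace X] (x : X) :
    ((resTrdegNat f (genericPoint X) : ℕ) : WithBot ℕ∞) ≤ FlatMor.fibreDimAt f x := by
  obtain ⟨d, hd⟩ := exists_fibreDimAt_eq_natCast f x
  have hopen := isOpen_fibreDimAt_le d X Y f
  have hξ : genericPoint X ∈ {x' : X | FlatMor.fibreDimAt f x' ≤ ((d : ℕ) : WithBot ℕ∞)} :=
    (genericPoint_specializes x).mem_open hopen (by rw [Set.mem_setOf_eq, hd])
  rw [hd]
  exact (resTrdegNat_le_fibreDimAt f (genericPoint X)).trans hξ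

/-- The locus where the local fibre dimension is the generic one is open and dense. -/
lemma isOpen_dense_fibreDimAt_eq_generic {X Y : Scheme.{u}} (f : X ⟶ Y)
    [LocallyOfFiniteType f] [IrreducibleSpace X] :
    IsOpen {x : X | FlatMor.fibreDimAt f x = ((resTrdegNat f (genericPoint X) : ℕ) : WithBot ℕ∞)} ∧
    Dense {x : X | FlatMor.fibreDimAt f x = ((resTrdegNat f (genericPoint X) : ℕ) : WithBot ℕ∞)} := by
  have hset : {x : X | FlatMor.fibreDimAt f x =
        ((resTrdegNat f (genericPoint X) : ℕ) : WithBot ℕ∞)} =
      {x : X | FlatMor.fibreDimAt f x ≤ ((resTrdegNat f (genericPoint X) : ℕ) : WithBot ℕ∞)} := by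
    ext x
    simp only [Set.mem_setOf_eq]
    exact ⟨fun h => h.le, fun h => le_antisymm h (resTrdegNat_genericPoint_le_fibreDimAt f x)⟩
  rw [hset]
  refine ⟨isOpen_fibreDimAt_le _ X Y f, ?_⟩
  have hmem : genericPoint X ∈
      {x : X | FlatMor.fibreDimAt f x ≤ ((resTrdegNat f (genericPoint X) : ℕ) : WithBot ℕ∞)} := by
    rw [Set.mem_setOf_eq, fibreDimAt_genericPoint]
  intro x
  exact closure_mono (Set.singleton_subset_iff.mpr hmem)
    (specializes_iff_mem_closure.mp (genericPoint_specializes x))

end Groth.Agent.Lib.Helper73
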