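import Groth.Agent.Lib.Helper73.DimFormula.EquidimLocal

/-!
# Local dimension of closed subsets of fibres (helper73)

* `IsDimFun.comp_isClosedEmbedding`.
* `interFiberMap`, `isClosedEmbedding_interFiberMap`, `isDimFun_resTrdegNat_interFiber`,
  `quasiSober_interFiber`: for `K ⊆ X` closed, `K ∩ f⁻¹(y)` (subspace of `X`) embeds as a closed
  subset of the scheme-theoretic fibre, and `resTrdegNat f` is a dimension function on it.
* `localDim_interFiber_eq`, `resTrdegNat_le_localDim_interFiber`, `localDim_interFiber_le`.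
-/

set_option autoImplicit false
universe u

open AlgebraicGeometry CategoryTheory TopologicalSpace Opposite Order Topology

namespace Groth.Agent.Lib.Helper73

/-- A dimension function pulls back along closed embeddings. -/
lemma IsDimFun.comp_isClosedEmbedding {X T : Type*} [TopologicalSpace X] [TopologicalSpace T]
    {δ : X → ℕ} (h : IsDimFun δ) (ψ : T → X) (hψ : IsClosedEmbedding ψ) :
    IsDimFun (fun t => δ (ψ t)) where
  lt_of_specializes := by
    intro x y hxy hne
    exact h.lt_of_specializes (hxy.map hψ.continuous) (fun e => hne (hψ.injective e))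
  eq_add_one_of_immediate := by
    intro x y hxy hne himm
    refine h.eq_add_one_of_immediate (hxy.map hψ.continuous) (fun e => hne (hψ.injective e)) ?_
    intro z hxz hzy
    have hzr : z ∈ Set.range ψ := hxz.mem_closed hψ.isClosed_range ⟨x, rfl⟩
    obtain ⟨s, rfl⟩ := hzr
    rcases himm s (hψ.isInducing.specializes_iff.mp hxz) (hψ.isInducing.specializes_iff.mp hzy)
      with e | e
    · left; rw [e]
    · right; rw [e]
  exists_specializes_of_ne_zero := by
    intro x W' hW' hxW' h0
    obtain ⟨V, hV, rfl⟩ := hψ.isInducing.isOpen_iff.mp hW'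
    obtain ⟨y, hy, hxy, hne⟩ := h.exists_specializes_of_ne_zero (ψ x) V hV hxW' h0
    have hyr : y ∈ Set.range ψ := hxy.mem_closed hψ.isClosed_range ⟨x, rfl⟩
    obtain ⟨s, rfl⟩ := hyr
    refine ⟨s, hy, hψ.isInducing.specializes_iff.mp hxy, ?_⟩
    rintro rfl
    exact hne rfl

section ClosedInterFiber

variable {X Y : Scheme.{u}} (f : X ⟶ Y) (K : Set X) (y : Y)

/-- The inclusion of `K ∩ f⁻¹(y)` into the scheme-theoretic fibre. -/
noncomputable def interFiberMap : ↥(K ∩ f ⁻¹' {y}) → ↥(f.fiber y) :=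
  fun t => (f.fiberHomeo y).symm ⟨t.1, t.2.2⟩

lemma fiberι_interFiberMap (t : ↥(K ∩ f ⁻¹' {y})) :
    f.fiberι y (interFiberMap f K y t) = t.1 :=
  f.fiberι_fiberHomeo_symm y ⟨t.1, t.2.2⟩

lemma isClosedEmbedding_interFiberMap (hK : IsClosed K) :
    IsClosedEmbedding (interFiberMap f K y) := by
  have h1 : IsClosedEmbedding (fun t : ↥(K ∩ f ⁻¹' {y}) => (⟨t.1, t.2.2⟩ : ↥(f ⁻¹' {y}))) := by
    refine ⟨IsEmbedding.of_comp (by fun_prop) continuous_subtype_val IsEmbedding.subtypeVal, ?_⟩
    have : Set.range (fun t : ↥(K ∩ f ⁻¹' {y}) => (⟨t.1, t.2.2⟩ : ↥(f ⁻¹' {y}))) =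
        Subtype.val ⁻¹' K := by
      ext s
      constructor
      · rintro ⟨t, rfl⟩; exact t.2.1
      · intro hs; exact ⟨⟨s.1, hs, s.2⟩, rfl⟩
    rw [this]
    exact hK.preimage continuous_subtype_val
  exact (f.fiberHomeo y).symm.isClosedEmbedding.comp h1

lemma quasiSober_interFiber (hK : IsClosed K) : QuasiSober ↥(K ∩ f ⁻¹' {y}) :=
  (isClosedEmbedding_interFiberMap f K y hK).quasiSober

variable [LocallyOfFiniteType f]

/-- The residual transcendence degree is a dimension function on `K ∩ f⁻¹(y)`, `K` closed. -/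
theorem isDimFun_resTrdegNat_interFiber (hK : IsClosed K) :
    IsDimFun (fun t : ↥(K ∩ f ⁻¹' {y}) => resTrdegNat f t.1) := by
  have h := (isDimFun_trdegNat (k := Y.residueField y)
    (f.fiberToSpecResidueField y)).comp_isClosedEmbedding _
      (isClosedEmbedding_interFiberMap f K y hK)
  have e : (fun t : ↥(K ∩ f ⁻¹' {y}) => trdegNat (k := Y.residueField y)
      (f.fiberToSpecResidueField y) (interFiberMap f K y t)) =
      (fun t : ↥(K ∩ f ⁻¹' {y}) => resTrdegNat f t.1) := by
    funext t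
    rw [trdegNat_fiber_eq_resTrdegNat, fiberι_interFiberMap]
  rw [e] at h
  exact h

/-- The local dimension of `K ∩ f⁻¹(y)` at a point. -/
theorem localDim_interFiber_eq [IsLocallyNoetherian X] (hK : IsClosed K)
    (x : ↥(K ∩ f ⁻¹' {y})) :
    FlatMor.localDim ↥(K ∩ f ⁻¹' {y}) x =
      ((@Order.coheight _ (specializationPreorder _) x + (resTrdegNat f x.1 : ℕ∞) : ℕ∞) :
        WithBot ℕ∞) := by
  have hQS := quasiSober_interFiber f K y hK
  have hδ := isDimFun_resTrdegNat_interFiber f K y hK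
  obtain ⟨U, hU, hxU, -⟩ :=
    exists_isAffineOpen_mem_and_subset (X := X) (x := x.1) (U := ⊤) trivial
  have : IsNoetherianRing Γ(X, U) := IsLocallyNoetherian.component_noetherian ⟨U, hU⟩
  have h1 : NoetherianSpace ↥(Set.range hU.fromSpec) :=
    NoetherianSpace.range (α := ↥(Spec Γ(X, U))) hU.fromSpec hU.fromSpec.continuous
  rw [hU.range_fromSpec] at h1
  let U' : Set ↥(K ∩ f ⁻¹' {y}) := Subtype.val ⁻¹' (U : Set X)
  have hU' : IsOpen U' := U.isOpen.preimage continuous_subtype_val
  have hN : NoetherianSpace ↥U' := by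
    let j : ↥U' → ↥(U : Set X) := fun t => ⟨t.1.1, t.2⟩
    have hj : IsInducing j := by
      have : IsInducing (Subtype.val ∘ j) := by
        have : (Subtype.val ∘ j) = (Subtype.val ∘ Subtype.val) := rfl
        rw [this]
        exact IsInducing.subtypeVal.comp IsInducing.subtypeVal
      exact IsInducing.of_comp (by fun_prop) continuous_subtype_val this
    exact hj.noetherianSpace
  obtain ⟨W, hW, hxW, hLN⟩ := exists_open_forall_exists_generic_of_nhd x U' hU' hxU
  exact hδ.iInf_topologicalKrullDim_eq x W hW hxW hLN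

/-- Lower bound for the local dimension of `K ∩ f⁻¹(y)`. -/
theorem resTrdegNat_le_localDim_interFiber [IsLocallyNoetherian X] (hK : IsClosed K)
    (x ζ : ↥(K ∩ f ⁻¹' {y})) (h : ζ.1 ⤳ x.1) :
    ((resTrdegNat f ζ.1 : ℕ) : WithBot ℕ∞) ≤ FlatMor.localDim ↥(K ∩ f ⁻¹' {y}) x := by
  rw [localDim_interFiber_eq f K y hK x]
  have hδ := isDimFun_resTrdegNat_interFiber f K y hK
  have h' : ζ ⤳ x := IsInducing.subtypeVal.specializes_iff.mp h
  have := hδ.le_coheight_add h'
  exact_mod_cast this

/-- Upper bound for the local dimension of `K ∩ f⁻¹(y)`. -/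
theorem localDim_interFiber_le [IsLocallyNoetherian X] (hK : IsClosed K)
    (x : ↥(K ∩ f ⁻¹' {y})) (N : ℕ)
    (h : ∀ ζ : X, ζ ∈ K → f ζ = y → ζ ⤳ x.1 → resTrdegNat f ζ ≤ N) :
    FlatMor.localDim ↥(K ∩ f ⁻¹' {y}) x ≤ ((N : ℕ) : WithBot ℕ∞) := by
  rw [localDim_interFiber_eq f K y hK x]
  have hδ := isDimFun_resTrdegNat_interFiber f K y hK
  have := hδ.coheight_add_le (x := x) (N := (N : ℕ∞)) (by
    intro η hη
    have := h η.1 η.2.1 η.2.2 (hη.map continuous_subtype_val)
    exact_mod_cast this)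
  exact_mod_cast this

end ClosedInterFiber

end Groth.Agent.Lib.Helper73
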