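import Mathlib
import Groth.Agent.Lib.Helper73.DimFormula.Chevalley

/-!
# Consequences of Chevalley's theorem: dimension of fibres (helper73)

* `topologicalKrullDim_fiber_le_iff`: `dim X_y ≤ n ↔ ∀ x over y, fibreDimAt f x ≤ n`.
* `exists_fibreDimAt_eq_natCast`, `topologicalKrullDim_fiber_eq_bot_iff`.
-/

set_option autoImplicit false
universe u

open AlgebraicGeometry CategoryTheory TopologicalSpace Opposite Order

namespace Groth.Agent.Lib.Helper73

/-- The dimension of a fibre is bounded by `n` iff the fibre has local dimension `≤ n` at each of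
its points. -/
theorem topologicalKrullDim_fiber_le_iff {X Y : Scheme.{u}} (f : X ⟶ Y) [LocallyOfFiniteType f]
    (y : Y) (n : ℕ) :
    topologicalKrullDim ↥(f.fiber y) ≤ (n : WithBot ℕ∞) ↔
      ∀ x : X, f x = y → FlatMor.fibreDimAt f x ≤ (n : WithBot ℕ∞) := by
  constructor
  · rintro h x rfl
    refine fibreDimAt_le_of_forall_generization f x n ?_
    intro η _ hfη
    have h' : topologicalKrullDim ↥(f.fiber (f η)) ≤ (n : WithBot ℕ∞) := by rw [hfη]; exact h
    have := resTrdeg_le_of_fiber_dim_le f η n h'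
    rw [resTrdeg_eq_resTrdegNat] at this
    exact_mod_cast this
  · intro h
    rw [topologicalKrullDim_fiber_eq_iSup]
    refine iSup_le fun z => ?_
    rw [trdegNat_fiber_eq_resTrdegNat]
    have hfz : f (f.fiberι y z) = y := by
      have : f.fiberι y z ∈ Set.range (f.fiberι y) := ⟨_, rfl⟩
      rw [f.range_fiberι y] at this
      exact this
    exact (resTrdegNat_le_fibreDimAt f (f.fiberι y z)).trans (h _ hfz)

/-- The fibre dimension at a point is a natural number. -/
lemma exists_fibreDimAt_eq_natCast {X Y : Scheme.{u}} (f : X ⟶ Y) [LocallyOfFiniteType f] (x : X) :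
    ∃ d : ℕ, FlatMor.fibreDimAt f x = (d : WithBot ℕ∞) := by
  obtain ⟨m, hm⟩ := exists_ringKrullDim_fiber_stalk_eq_natCast f x
  refine ⟨m + resTrdegNat f x, ?_⟩
  rw [fibreDimAt_eq, hm]
  push_cast
  rfl

/-- A fibre has dimension `⊥` iff it is empty. -/
lemma topologicalKrullDim_fiber_eq_bot_iff {X Y : Scheme.{u}} (f : X ⟶ Y) (y : Y) :
    topologicalKrullDim ↥(f.fiber y) = ⊥ ↔ y ∉ Set.range f := by
  rw [topologicalKrullDim, Order.krullDim_eq_bot_iff]
  constructor
  · rintro h ⟨x, rfl⟩
    exact h.false ⟨closure {f.asFiber x}, isIrreducible_singleton.closure, isClosed_closure⟩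
  · intro h
    refine ⟨fun Z => ?_⟩
    obtain ⟨z, -⟩ := Z.isIrreducible'.1
    apply h
    have : f.fiberι y z ∈ Set.range (f.fiberι y) := ⟨_, rfl⟩
    rw [f.range_fiberι y] at this
    exact ⟨_, this⟩

end Groth.Agent.Lib.Helper73
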