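import Groth.Agent.Lib.Helper73.DimFormula.FieldExtScheme
import Mathlib.AlgebraicGeometry.Morphisms.UnderlyingMap

/-!
# Dimension of fibres under base change (helper73)

* `surjective_of_isPullback_field`, `topologicalKrullDim_eq_of_isPullback_field`: for `X` locally
  of finite type over a field `k` and `K/k` any field extension, `dim X_K = dim X`.
* `topologicalKrullDim_fiber_eq_of_isPullback`: for a pullback square, the dimension of the fibre
  of `f'` over `y'` is the dimension of the fibre of `f` over `g y'`.
-/

set_option autoImplicit false
open CategoryTheory AlgebraicGeometry TopologicalSpace Topology Limits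
universe u

namespace Groth.Agent.Lib.Helper73

section SchemeFE

variable {k K : Type u} [Field k] [Field K] (ι : k →+* K) {X X' : Scheme.{u}}
  (f : X ⟶ Spec (CommRingCat.of k)) [LocallyOfFiniteType f]
  (f' : X' ⟶ Spec (CommRingCat.of K)) [LocallyOfFiniteType f']
  (π : X' ⟶ X) (hsq : IsPullback π f' f (Spec.map (CommRingCat.ofHom ι)))

omit [LocallyOfFiniteType f] [LocallyOfFiniteType f'] in
include hsq in
lemma surjective_of_isPullback_field : Surjective π := by
  have h0 : Surjective (Spec.map (CommRingCat.ofHom ι)) := by
    constructor
    intro y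
    have : Subsingleton ↥(Spec (CommRingCat.of k)) :=
      inferInstanceAs (Subsingleton (PrimeSpectrum k))
    have : Nonempty ↥(Spec (CommRingCat.of K)) :=
      inferInstanceAs (Nonempty (PrimeSpectrum K))
    obtain ⟨z⟩ := this
    exact ⟨z, Subsingleton.elim _ _⟩
  exact MorphismProperty.of_isPullback hsq.flip h0

include hsq in
/-- The dimension of a scheme locally of finite type over a field is invariant under extension
of the base field. -/
theorem topologicalKrullDim_eq_of_isPullback_field :
    topologicalKrullDim X' = topologicalKrullDim X := by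
  have hsurj := surjective_of_isPullback_field ι f f' π hsq
  have := flat_of_isPullback_field ι f f' π hsq
  rw [topologicalKrullDim_eq_iSup_trdegNat f', topologicalKrullDim_eq_iSup_trdegNat f]
  apply le_antisymm
  · apply iSup_le
    intro x'
    obtain ⟨ζ', hζ'x', hζ'max⟩ := exists_maximal_specializes x'
    have h1 := (isDimFun_trdegNat f').le_of_specializes hζ'x'
    have h2 := trdegNat_eq_of_isPullback_of_maximal ι f f' π hsq ζ' hζ'max
    refine le_trans ?_ (le_iSup _ (π ζ'))
    rw [← h2]
    exact_mod_cast h1
  · apply iSup_le
    intro x
    obtain ⟨ζ, hζx, hζmax⟩ := exists_maximal_specializes x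
    obtain ⟨x'', hx''⟩ := hsurj.surj ζ
    obtain ⟨ζ', hζ'x'', hζ'max⟩ := exists_maximal_specializes x''
    have h0 : π ζ' = ζ := by
      apply hζmax
      rw [← hx'']
      exact hζ'x''.map π.continuous
    have h1 := (isDimFun_trdegNat f).le_of_specializes hζx
    have h2 := trdegNat_eq_of_isPullback_of_maximal ι f f' π hsq ζ' hζ'max
    rw [h0] at h2
    refine le_trans ?_ (le_iSup _ ζ')
    rw [h2]
    exact_mod_cast h1

end SchemeFE

section BaseChange

variable {X S X' S' : Scheme.{u}} (f : X ⟶ S) [LocallyOfFiniteType f] (g : S' ⟶ S)
    (g' : X' ⟶ X) (f' : X' ⟶ S') (hsq : IsPullback g' f' f g)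

include hsq in
/-- The dimension of the fibre is invariant under base change. -/
theorem topologicalKrullDim_fiber_eq_of_isPullback (y' : S') :
    topologicalKrullDim ↥(f'.fiber y') = topologicalKrullDim ↥(f.fiber (g y')) := by
  have hlft : LocallyOfFiniteType f' := locallyOfFiniteType_of_isPullback' f g g' f' hsq
  have hP := isPullback_fiberToSpecResidueField_of_isPullback hsq y'
  exact topologicalKrullDim_eq_of_isPullback_field (k := S.residueField (g y'))
    (K := S'.residueField y') (g.residueFieldMap y').hom
    (f.fiberToSpecResidueField (g y')) (f'.fiberToSpecResidueField y')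
    (fiberMapOfIsPullback f g g' f' hsq y') hP

end BaseChange

end Groth.Agent.Lib.Helper73
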