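import Groth.Agent.Lib.Helper73.DimFormula.Equidim

/-!
# Morphisms equidimensional at a point (helper73)

* `maximal_fiber_of_maximal'`, `resTrdegNat_comp_of_isOpenImmersion`,
  `closure_image_closure_singleton`.
* `isEquidimAt_iff`: pointwise characterization of `EGA43.IsEquidimAt f x`: there are `e` and an
  open `U ∋ x` such that maximal points of `U` map to maximal points of `Y` generizing `f x`, and
  all points of `U` maximal in their fibre have residual transcendence degree `e`.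
* `resTrdegNat_le_fibreDimAt_of_specializes`, `resTrdegNat_le_of_specializes_fiber`,
  `fibreDimAt_eq_of_forall_maximal`.
* `maximal_fromSpecStalk_of_mem_minimalPrimes`, `codim_add_resTrdegNat_eq_of_isEquidimAt`.
-/

set_option autoImplicit false
universe u

open AlgebraicGeometry CategoryTheory TopologicalSpace Opposite Order

namespace Groth.Agent.Lib.Helper73

/-- A point which is maximal in its fibre gives a maximal point of the fibre (as a scheme). -/
lemma maximal_fiber_of_maximal' {X Y : Scheme.{u}} (f : X ⟶ Y) (y : Y) (ξ : X) (hξ : f ξ = y)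
    (hmax : ∀ t : X, t ⤳ ξ → f t = y → t = ξ) :
    ∃ ζ : f.fiber y, f.fiberι y ζ = ξ ∧ ∀ t : f.fiber y, t ⤳ ζ → t = ζ := by
  refine ⟨(f.fiberHomeo y).symm ⟨ξ, hξ⟩, f.fiberι_fiberHomeo_symm y ⟨ξ, hξ⟩, ?_⟩
  intro t ht
  rw [← (f.fiberι y).isEmbedding.isInducing.specializes_iff,
    f.fiberι_fiberHomeo_symm y ⟨ξ, hξ⟩] at ht
  apply (f.fiberι y).isEmbedding.injective
  rw [f.fiberι_fiberHomeo_symm y ⟨ξ, hξ⟩]
  refine hmax _ ht ?_
  have : f.fiberι y t ∈ Set.range (f.fiberι y) := ⟨_, rfl⟩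
  rw [f.range_fiberι y] at this
  exact this

/-- Open immersions do not change residual transcendence degrees. -/
lemma resTrdegNat_comp_of_isOpenImmersion {U X Y : Scheme.{u}} (j : U ⟶ X) [IsOpenImmersion j]
    (f : X ⟶ Y) (u : U) : resTrdegNat (j ≫ f) u = resTrdegNat f (j u) := by
  unfold resTrdegNat
  rw [resTrdeg_comp_of_bijective_left j f u (residueFieldMap_bijective_of_isPreimmersion j u)]

/-- The closure of the image of the closure of a point. -/
lemma closure_image_closure_singleton {X Y : Scheme.{u}} (f : X ⟶ Y) (ξ : X) :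
    closure (f '' closure ({ξ} : Set X)) = closure ({f ξ} : Set Y) := by
  apply subset_antisymm
  · apply closure_minimal _ isClosed_closure
    have := image_closure_subset_closure_image (s := ({ξ} : Set X)) f.continuous
    rwa [Set.image_singleton] at this
  · exact closure_mono (Set.singleton_subset_iff.mpr ⟨ξ, subset_closure rfl, rfl⟩)

/-- A pointwise characterization of equidimensionality of a morphism at a point. -/
theorem isEquidimAt_iff {X Y : Scheme.{u}} (f : X ⟶ Y) [LocallyOfFiniteType f] (x : X) :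
    EGA43.IsEquidimAt f x ↔ ∃ (e : ℕ) (U : X.Opens), x ∈ U ∧
      (∀ ξ ∈ U, (∀ t : X, t ⤳ ξ → t = ξ) → (∀ t : Y, t ⤳ f ξ → t = f ξ) ∧ f ξ ⤳ f x) ∧
      (∀ ζ ∈ U, (∀ t : X, t ⤳ ζ → f t = f ζ → t = ζ) → resTrdegNat f ζ = e) := by
  constructor
  · rintro ⟨e, U, hxU, h1, h2⟩
    refine ⟨e, U, hxU, ?_, ?_⟩
    · intro ξ hξU hξmax
      let ξ' : ↥(U : Scheme.{u}) := ⟨ξ, hξU⟩
      have hξ'max : ∀ t : ↥(U : Scheme.{u}), t ⤳ ξ' → t = ξ' := by
        intro t ht
        apply U.ι.isOpenEmbedding.injective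
        exact hξmax _ (ht.map U.ι.continuous)
      obtain ⟨W, hW, hxW, hcl⟩ := h1 _
        (closure_singleton_mem_irreducibleComponents_of_maximal ξ' hξ'max)
      obtain ⟨hclη, hηmax⟩ :=
        maximal_image_of_closure_image_mem_irreducibleComponents (U.ι ≫ f) ξ' W hW hcl
      refine ⟨hηmax, ?_⟩
      rw [specializes_iff_mem_closure]
      change f x ∈ closure {(U.ι ≫ f) ξ'}
      rw [hclη]
      exact hxW
    · intro ζ hζU hζmax
      let ζ' : ↥(U : Scheme.{u}) := ⟨ζ, hζU⟩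
      have hζ'max : ∀ t : ↥(U : Scheme.{u}), t ⤳ ζ' → (U.ι ≫ f) t = (U.ι ≫ f) ζ' → t = ζ' := by
        intro t ht hft
        apply U.ι.isOpenEmbedding.injective
        exact hζmax _ (ht.map U.ι.continuous) hft
      obtain ⟨ζb, hζb, hζbmax⟩ :=
        maximal_fiber_of_maximal' (U.ι ≫ f) ((U.ι ≫ f) ζ') ζ' rfl hζ'max
      have hdim := h2 ζ' _ (closure_singleton_mem_irreducibleComponents_of_maximal ζb hζbmax)
      have hdim' := (isDimFun_trdegNat (k := Y.residueField ((U.ι ≫ f) ζ'))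
        ((U.ι ≫ f).fiberToSpecResidueField ((U.ι ≫ f) ζ'))).topologicalKrullDim_closure_singleton ζb
      rw [hdim, trdegNat_fiber_eq_resTrdegNat, hζb, resTrdegNat_comp_of_isOpenImmersion] at hdim'
      have : e = resTrdegNat f (U.ι ζ') := by exact_mod_cast hdim'
      exact this.symm
  · rintro ⟨e, U, hxU, hA, hB⟩
    refine ⟨e, U, hxU, ?_, ?_⟩
    · intro Z hZ
      let Z' : Set ↥(U : Scheme.{u}) := Z
      have hZ' : Z' ∈ irreducibleComponents ↥(U : Scheme.{u}) := hZ
      obtain ⟨ξ', hξ'Z, hξ'max⟩ := exists_maximal_of_mem_irreducibleComponents Z' hZ'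
      have hξmax : ∀ t : X, t ⤳ U.ι ξ' → t = U.ι ξ' := by
        intro t ht
        have htU : t ∈ Set.range U.ι := ht.mem_open U.ι.isOpenEmbedding.isOpen_range ⟨ξ', rfl⟩
        obtain ⟨t', rfl⟩ := htU
        rw [hξ'max t' (U.ι.isOpenEmbedding.isInducing.specializes_iff.mp ht)]
      have hξU : U.ι ξ' ∈ U := ξ'.2
      obtain ⟨hηmax, hηx⟩ := hA _ hξU hξmax
      refine ⟨closure {f (U.ι ξ')},
        closure_singleton_mem_irreducibleComponents_of_maximal _ hηmax,
        specializes_iff_mem_closure.mp hηx, ?_⟩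
      change closure ((U.ι ≫ f) '' Z') = _
      rw [← hξ'Z]
      exact closure_image_closure_singleton (U.ι ≫ f) ξ'
    · intro x' Z hZ
      obtain ⟨ζb, hζbZ, hζbmax⟩ := exists_maximal_of_mem_irreducibleComponents Z hZ
      obtain ⟨hfz, hzmax⟩ := fiberι_maximal_of_maximal (U.ι ≫ f) _ ζb hζbmax
      set ζ' : ↥(U : Scheme.{u}) := (U.ι ≫ f).fiberι ((U.ι ≫ f) x') ζb with hζ'
      have hζmax : ∀ t : X, t ⤳ U.ι ζ' → f t = f (U.ι ζ') → t = U.ι ζ' := by
        intro t ht hft
        have htU : t ∈ Set.range U.ι := ht.mem_open U.ι.isOpenEmbedding.isOpen_range ⟨ζ', rfl⟩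
        obtain ⟨t', rfl⟩ := htU
        rw [hzmax t' (U.ι.isOpenEmbedding.isInducing.specializes_iff.mp ht) (hft.trans hfz)]
      have hr := hB (U.ι ζ') ζ'.2 hζmax
      have hdim' := (isDimFun_trdegNat (k := Y.residueField ((U.ι ≫ f) x'))
        ((U.ι ≫ f).fiberToSpecResidueField ((U.ι ≫ f) x'))).topologicalKrullDim_closure_singleton ζb
      rw [hζbZ, trdegNat_fiber_eq_resTrdegNat, resTrdegNat_comp_of_isOpenImmersion, ← hζ', hr]
        at hdim'
      exact hdim'

end Groth.Agent.Lib.Helper73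

namespace Groth.Agent.Lib.Helper73

/-- The residual transcendence degree of a generization inside the fibre is bounded by the
local fibre dimension. -/
theorem resTrdegNat_le_fibreDimAt_of_specializes {X Y : Scheme.{u}} (f : X ⟶ Y)
    [LocallyOfFiniteType f] (x η : X) (h1 : η ⤳ x) (h2 : f η = f x) :
    ((resTrdegNat f η : ℕ) : WithBot ℕ∞) ≤ FlatMor.fibreDimAt f x := by
  rw [fibreDimAt_eq_coheight_add]
  have hδ := isDimFun_trdegNat (k := Y.residueField (f x)) (f.fiberToSpecResidueField (f x))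
  let ηb : f.fiber (f x) := (f.fiberHomeo (f x)).symm ⟨η, h2⟩
  have hηb : f.fiberι (f x) ηb = η := f.fiberι_fiberHomeo_symm (f x) ⟨η, h2⟩
  have hsp : ηb ⤳ f.asFiber x := by
    rw [← (f.fiberι (f x)).isEmbedding.isInducing.specializes_iff, hηb, f.fiberι_asFiber x]
    exact h1
  have := hδ.le_coheight_add hsp
  rw [trdegNat_fiber_eq_resTrdegNat, hηb] at this
  exact_mod_cast this

/-- Inside a fibre the residual transcendence degree decreases under specialization. -/
theorem resTrdegNat_le_of_specializes_fiber {X Y : Scheme.{u}} (f : X ⟶ Y)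
    [LocallyOfFiniteType f] (η ζ : X) (h1 : ζ ⤳ η) (h2 : f ζ = f η) :
    resTrdegNat f η ≤ resTrdegNat f ζ := by
  have hδ := isDimFun_trdegNat (k := Y.residueField (f η)) (f.fiberToSpecResidueField (f η))
  let ζb : f.fiber (f η) := (f.fiberHomeo (f η)).symm ⟨ζ, h2⟩
  have hζb : f.fiberι (f η) ζb = ζ := f.fiberι_fiberHomeo_symm (f η) ⟨ζ, h2⟩
  have hsp : ζb ⤳ f.asFiber η := by
    rw [← (f.fiberι (f η)).isEmbedding.isInducing.specializes_iff, hζb, f.fiberι_asFiber η]
    exact h1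
  have := hδ.le_of_specializes hsp
  rw [trdegNat_fiber_eq_resTrdegNat, trdegNat_fiber_eq_resTrdegNat, hζb, f.fiberι_asFiber η] at this
  exact this

/-- If all maximal points of the fibre generizing `x` have residual transcendence degree `e`,
the local fibre dimension at `x` is `e`. -/
theorem fibreDimAt_eq_of_forall_maximal {X Y : Scheme.{u}} (f : X ⟶ Y) [LocallyOfFiniteType f]
    (x : X) (e : ℕ)
    (h : ∀ ζ : X, ζ ⤳ x → f ζ = f x → (∀ t : X, t ⤳ ζ → f t = f ζ → t = ζ) →
      resTrdegNat f ζ = e) :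
    FlatMor.fibreDimAt f x = ((e : ℕ) : WithBot ℕ∞) := by
  have hmaxex : ∀ η : X, η ⤳ x → f η = f x →
      ∃ ζ : X, ζ ⤳ η ∧ f ζ = f x ∧ ∀ t : X, t ⤳ ζ → f t = f ζ → t = ζ := by
    intro η h1 h2
    let ηb : f.fiber (f x) := (f.fiberHomeo (f x)).symm ⟨η, h2⟩
    have hηb : f.fiberι (f x) ηb = η := f.fiberι_fiberHomeo_symm (f x) ⟨η, h2⟩
    obtain ⟨ζb, hζη, hζmax⟩ := exists_maximal_specializes ηb
    obtain ⟨hfz, hzmax⟩ := fiberι_maximal_of_maximal f (f x) ζb hζmax
    refine ⟨f.fiberι (f x) ζb, ?_, hfz, fun t ht hft => hzmax t ht (hft.trans hfz)⟩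
    rw [← hηb]
    exact hζη.map (f.fiberι (f x)).continuous
  apply le_antisymm
  · apply fibreDimAt_le_of_forall_generization
    intro η h1 h2
    obtain ⟨ζ, hζη, hfζ, hζmax⟩ := hmaxex η h1 h2
    rw [← h ζ (hζη.trans h1) hfζ hζmax]
    exact resTrdegNat_le_of_specializes_fiber f η ζ hζη (hfζ.trans h2.symm)
  · obtain ⟨ζ, hζx, hfζ, hζmax⟩ := hmaxex x specializes_rfl rfl
    rw [← h ζ hζx hfζ hζmax]
    exact resTrdegNat_le_fibreDimAt_of_specializes f x ζ hζx hfζ

end Groth.Agent.Lib.Helper73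

namespace Groth.Agent.Lib.Helper73

set_option backward.isDefEq.respectTransparency.types false in
/-- Minimal primes of `O_{X,x}` correspond to maximal generizations of `x`. -/
theorem maximal_fromSpecStalk_of_mem_minimalPrimes {X : Scheme.{u}} (x : X)
    (P : PrimeSpectrum (X.presheaf.stalk x)) (hp : P.asIdeal ∈ minimalPrimes (X.presheaf.stalk x)) :
    (X.fromSpecStalk x) P ⤳ x ∧
      ∀ t : X, t ⤳ (X.fromSpecStalk x) P → t = (X.fromSpecStalk x) P := by
  have hξx : (X.fromSpecStalk x) P ⤳ x := by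
    have : (X.fromSpecStalk x) P ∈ Set.range (X.fromSpecStalk x) := ⟨_, rfl⟩
    rw [Scheme.range_fromSpecStalk] at this
    exact this
  refine ⟨hξx, ?_⟩
  intro t ht
  have hr : t ∈ Set.range (X.fromSpecStalk x) := by
    rw [Scheme.range_fromSpecStalk]; exact ht.trans hξx
  obtain ⟨Q, rfl⟩ := hr
  let Q' : PrimeSpectrum (X.presheaf.stalk x) := Q
  have h1 : Q' ≤ P := (fromSpecStalk_le_iff x P Q').mp ht
  have h2 : P ≤ Q' := hp.2 ⟨Q'.2, bot_le⟩ h1
  have : Q' = P := le_antisymm h1 h2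
  rw [show Q = Q' from rfl, this]

/-- The consequences of equidimensionality at `x` for a maximal generization `ξ` of `x`, when
`O_{Y,f x}` is universally catenary:
`codim(ξ, x) + trdeg κ(x)/κ(f x) = codim(f ξ, f x) + dim_x f⁻¹(f x)`. -/
theorem codim_add_resTrdegNat_eq_of_isEquidimAt {X Y : Scheme.{u}} [IsLocallyNoetherian Y]
    (f : X ⟶ Y) [LocallyOfFiniteType f] (x : X) (h : EGA43.IsEquidimAt f x)
    (hcat : CAlg.IsUniversallyCatenary (Y.presheaf.stalk (f x)))
    (ξ : X) (hξx : ξ ⤳ x) (hξmax : ∀ t : X, t ⤳ ξ → t = ξ) :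
    ∃ a b e : ℕ, codim ξ x = a ∧ codim (f ξ) (f x) = b ∧ FlatMor.fibreDimAt f x = e ∧
      (∀ t : Y, t ⤳ f ξ → t = f ξ) ∧ a + resTrdegNat f x = b + e := by
  obtain ⟨e, U, hxU, hA, hB⟩ := (isEquidimAt_iff f x).mp h
  have hξU : ξ ∈ U := hξx.mem_open U.isOpen hxU
  obtain ⟨hηmax, -⟩ := hA ξ hξU hξmax
  have hre := hB ξ hξU (fun t ht _ => hξmax t ht)
  have hfd : FlatMor.fibreDimAt f x = e := by
    apply fibreDimAt_eq_of_forall_maximal
    intro ζ hζx _ hζmax
    exact hB ζ (hζx.mem_open U.isOpen hxU) hζmax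
  obtain ⟨a, b, ha, hb, hab⟩ := codim_add_resTrdeg_eq_local f ξ x hξx hcat
  rw [resTrdeg_eq_resTrdegNat, resTrdeg_eq_resTrdegNat] at hab
  have hab' : a + resTrdegNat f x = b + resTrdegNat f ξ := by exact_mod_cast hab
  exact ⟨a, b, e, ha, hb, hfd, hηmax, by omega⟩

end Groth.Agent.Lib.Helper73
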