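import Groth.Agent.Lib.Helper73.DimFormula.FibComp
import Groth.Agent.Lib.Helper80.UnivOpenAt2

/-!
# Open morphisms of finite type and dimensions of fibres (EGA IV 14.2.2-14.2.5) (helper73)

* `exists_maximal_fiber_generization_of_isOpenAt`, `fiberDims_subset_of_specializes`,
  `topologicalKrullDim_fiber_le_of_specializes` (EGA IV 14.2.2).
* `mem_fiberDims_iff_exists_fibreDimAt`, `exists_nat_topologicalKrullDim_fiber_le`,
  `exists_mem_fiberDims_eq_topologicalKrullDim`, `le_topologicalKrullDim_fiber_of_mem_fiberDims`.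
* `isLocallyConstructible_sdiff_of_isOpen`, `isOpen_fibreDimAt_lt`,
  `setOf_mem_fiberDims_mem_nhds` (via Chevalley's constructibility theorem).
* `exists_open_forall_exists_maximal`, `isOpen_setOf_topologicalKrullDim_fiber_le`.
* `IsDimFun.comp_isOpenEmbedding`, `isOpenEmbedding_interFiberMap`,
  `topologicalKrullDim_open_interFiber`.
-/

set_option autoImplicit false
open CategoryTheory AlgebraicGeometry TopologicalSpace Topology
universe u

namespace Groth.Agent.Lib.Helper73

/-- EGA IV 14.2.2, pointwise form: if `ζ` is a maximal point of its fibre at which `f` is open and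
`z'` is a generization of `f ζ`, there is a maximal point `ξ` of the fibre over `z'` specializing
to `ζ` with the same residual transcendence degree. -/
theorem exists_maximal_fiber_generization_of_isOpenAt {X Y : Scheme.{u}} [IsLocallyNoetherian Y]
    (f : X ⟶ Y) [LocallyOfFiniteType f] (ζ : X)
    (hζmax : ∀ t : X, t ⤳ ζ → f t = f ζ → t = ζ) (hopen : EGA43.IsOpenAt f.base ζ)
    (z' : Y) (hz' : z' ⤳ f ζ) :
    ∃ ξ : X, ξ ⤳ ζ ∧ f ξ = z' ∧ (∀ t : X, t ⤳ ξ → f t = f ξ → t = ξ) ∧
      resTrdegNat f ξ = resTrdegNat f ζ := by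
  have hLN : IsLocallyNoetherian X := LocallyOfFiniteType.isLocallyNoetherian f
  obtain ⟨ξ₀, hξ₀ζ, hfξ₀, hcod⟩ := exists_generization_codim_le f ζ z' hz'
    (fun y' _ hy' => exists_specializes_of_isOpenAt f ζ hopen y' hy')
  obtain ⟨a, b, ha, hb, hab⟩ := codim_add_resTrdeg_le f ξ₀ ζ hξ₀ζ
  rw [resTrdeg_eq_resTrdegNat, resTrdeg_eq_resTrdegNat] at hab
  have hab' : a + resTrdegNat f ζ ≤ b + resTrdegNat f ξ₀ := by exact_mod_cast hab
  rw [hfξ₀] at hb
  rw [ha, hb] at hcod
  have hba : b ≤ a := by exact_mod_cast hcod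
  obtain ⟨ξ, hξξ₀, hfξ, hξmax⟩ := exists_maximal_fiber_specializes f ξ₀
  have h1 := resTrdegNat_le_of_specializes_fiber f ξ₀ ξ hξξ₀ hfξ
  have h2 := resTrdegNat_le_of_specializes_of_maximal f ξ ζ (hξξ₀.trans hξ₀ζ) hζmax
  exact ⟨ξ, hξξ₀.trans hξ₀ζ, hfξ.trans hfξ₀, hξmax, by omega⟩

/-- At a maximal point of a fibre, the local fibre dimension is the residual transcendence
degree. -/
lemma fibreDimAt_eq_resTrdegNat_of_maximal {X Y : Scheme.{u}} (f : X ⟶ Y) [LocallyOfFiniteType f]
    (ζ : X) (hζmax : ∀ t : X, t ⤳ ζ → f t = f ζ → t = ζ) :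
    FlatMor.fibreDimAt f ζ = ((resTrdegNat f ζ : ℕ) : WithBot ℕ∞) := by
  rw [fibreDimAt_eq, ringKrullDim_fiber_stalk_eq_zero_of_maximal f ζ hζmax, zero_add]

/-- `n` is the dimension of an irreducible component of the fibre over `z` iff some point of the
fibre has local fibre dimension `n`. -/
lemma mem_fiberDims_iff_exists_fibreDimAt {X Y : Scheme.{u}} (f : X ⟶ Y) [LocallyOfFiniteType f]
    (z : Y) (n : WithBot ℕ∞) :
    n ∈ (fun Z : Set ↥(f.fiber z) => topologicalKrullDim ↥Z) '' irreducibleComponents ↥(f.fiber z) ↔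
      ∃ x : X, f x = z ∧ FlatMor.fibreDimAt f x = n := by
  rw [mem_fiberDims_iff]
  constructor
  · rintro ⟨ζ, hfζ, hζmax, rfl⟩
    exact ⟨ζ, hfζ, fibreDimAt_eq_resTrdegNat_of_maximal f ζ hζmax⟩
  · rintro ⟨x, hfx, rfl⟩
    obtain ⟨ζ, -, hfζ, hζmax, hd⟩ := exists_maximal_fiber_resTrdegNat_eq_fibreDimAt f x
    exact ⟨ζ, hfζ.trans hfx, hζmax, hd⟩

/-- The fibres of a quasi-compact morphism locally of finite type are finite dimensional. -/
lemma exists_nat_topologicalKrullDim_fiber_le {X Y : Scheme.{u}} (f : X ⟶ Y)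
    [LocallyOfFiniteType f] [QuasiCompact f] (y : Y) :
    ∃ n : ℕ, topologicalKrullDim ↥(f.fiber y) ≤ ((n : ℕ) : WithBot ℕ∞) := by
  let W : ℕ → Set (f.fiber y) := fun n =>
    f.fiberι y ⁻¹' {x : X | FlatMor.fibreDimAt f x ≤ ((n : ℕ) : WithBot ℕ∞)}
  have hWopen : ∀ n, IsOpen (W n) := fun n =>
    (isOpen_fibreDimAt_le n X Y f).preimage (f.fiberι y).continuous
  have hcov : (Set.univ : Set (f.fiber y)) ⊆ ⋃ n, W n := by
    intro t _
    obtain ⟨d, hd⟩ := exists_fibreDimAt_eq_natCast f (f.fiberι y t)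
    exact Set.mem_iUnion.mpr ⟨d, by change FlatMor.fibreDimAt f _ ≤ _; rw [hd]⟩
  obtain ⟨s, hs⟩ := isCompact_univ.elim_finite_subcover W hWopen hcov
  refine ⟨s.sup id, ?_⟩
  rw [topologicalKrullDim_fiber_le_iff]
  intro x hfx
  let t : f.fiber y := (f.fiberHomeo y).symm ⟨x, hfx⟩
  have ht : f.fiberι y t = x := f.fiberι_fiberHomeo_symm y ⟨x, hfx⟩
  have := hs (Set.mem_univ t)
  simp only [Set.mem_iUnion] at this
  obtain ⟨n, hn, htn⟩ := this
  have h1 : FlatMor.fibreDimAt f (f.fiberι y t) ≤ ((n : ℕ) : WithBot ℕ∞) := htn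
  rw [ht] at h1
  refine h1.trans ?_
  have : n ≤ s.sup id := Finset.le_sup (f := id) hn
  exact_mod_cast this


/-- In a locally Noetherian scheme, differences of open sets are locally constructible. -/
lemma isLocallyConstructible_sdiff_of_isOpen {X : Scheme.{u}} [IsLocallyNoetherian X]
    (U U' : Set X) (hU : IsOpen U) (hU' : IsOpen U') : IsLocallyConstructible (U \ U') := by
  intro x
  obtain ⟨N, hN, hxN, hNoeth⟩ := exists_open_noetherianSpace_of_isLocallyNoetherian X x
  refine ⟨N, hN.mem_nhds hxN, hN, ?_⟩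
  have h1 : IsConstructible (Subtype.val ⁻¹' U : Set ↥N) :=
    (NoetherianSpace.isCompact _).isConstructible (hU.preimage continuous_subtype_val)
  have h2 : IsConstructible (Subtype.val ⁻¹' U' : Set ↥N) :=
    (NoetherianSpace.isCompact _).isConstructible (hU'.preimage continuous_subtype_val)
  exact h1.sdiff h2

/-- The set of points where the fibre has local dimension `< n` is open. -/
lemma isOpen_fibreDimAt_lt {X Y : Scheme.{u}} (f : X ⟶ Y) [LocallyOfFiniteType f] (n : ℕ) :
    IsOpen {x : X | FlatMor.fibreDimAt f x < ((n : ℕ) : WithBot ℕ∞)} := by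
  rcases Nat.eq_zero_or_pos n with rfl | hn
  · have : {x : X | FlatMor.fibreDimAt f x < ((0 : ℕ) : WithBot ℕ∞)} = ∅ := by
      ext x
      simp only [Set.mem_setOf_eq, Set.mem_empty_iff_false, iff_false, not_lt]
      exact le_trans (by exact_mod_cast Nat.zero_le _) (resTrdegNat_le_fibreDimAt f x)
    rw [this]; exact isOpen_empty
  · have : {x : X | FlatMor.fibreDimAt f x < ((n : ℕ) : WithBot ℕ∞)} =
        {x : X | FlatMor.fibreDimAt f x ≤ ((n - 1 : ℕ) : WithBot ℕ∞)} := by
      ext x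
      obtain ⟨d, hd⟩ := exists_fibreDimAt_eq_natCast f x
      simp only [Set.mem_setOf_eq, hd]
      constructor
      · intro h
        have : d < n := by exact_mod_cast h
        exact_mod_cast (by omega : d ≤ n - 1)
      · intro h
        have : d ≤ n - 1 := by exact_mod_cast h
        exact_mod_cast (by omega : d < n)
    rw [this]; exact isOpen_fibreDimAt_le (n - 1) X Y f

/-- EGA IV 14.2.2/14.2.4: if `f` is of finite type over a locally Noetherian scheme and open at the
points of the fibre over `y`, then for every `n` which is the dimension of an irreducible component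
of `X_y`, the set of `z` such that `X_z` has an irreducible component of dimension `n` is a
neighbourhood of `y`. -/
theorem setOf_mem_fiberDims_mem_nhds {X Y : Scheme.{u}} [IsLocallyNoetherian Y] (f : X ⟶ Y)
    [LocallyOfFiniteType f] [QuasiCompact f] (y : Y)
    (hopen : ∀ x : X, f x = y → EGA43.IsOpenAt f.base x) (n : ℕ)
    (hn : ((n : ℕ) : WithBot ℕ∞) ∈ (fun Z : Set ↥(f.fiber y) => topologicalKrullDim ↥Z) ''
      irreducibleComponents ↥(f.fiber y)) :
    {z : Y | ((n : ℕ) : WithBot ℕ∞) ∈ (fun Z : Set ↥(f.fiber z) => topologicalKrullDim ↥Z) ''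
      irreducibleComponents ↥(f.fiber z)} ∈ nhds y := by
  have hLN : IsLocallyNoetherian X := LocallyOfFiniteType.isLocallyNoetherian f
  have hLFP : LocallyOfFinitePresentation f :=
    LocallyOfFinitePresentation.iff_locallyOfFiniteType.mpr inferInstance
  let D : Set X := {x : X | FlatMor.fibreDimAt f x ≤ ((n : ℕ) : WithBot ℕ∞)} \
    {x : X | FlatMor.fibreDimAt f x < ((n : ℕ) : WithBot ℕ∞)}
  have hD : ∀ x : X, x ∈ D ↔ FlatMor.fibreDimAt f x = ((n : ℕ) : WithBot ℕ∞) := by
    intro x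
    simp only [D, Set.mem_diff, Set.mem_setOf_eq, not_lt]
    exact ⟨fun h => le_antisymm h.1 h.2, fun h => ⟨h.le, h.ge⟩⟩
  have hDc : IsLocallyConstructible D :=
    isLocallyConstructible_sdiff_of_isOpen _ _ (isOpen_fibreDimAt_le n X Y f)
      (isOpen_fibreDimAt_lt f n)
  have himg : IsLocallyConstructible (f.base '' D) := f.isLocallyConstructible_image hDc
  have hset : {z : Y | ((n : ℕ) : WithBot ℕ∞) ∈
      (fun Z : Set ↥(f.fiber z) => topologicalKrullDim ↥Z) '' irreducibleComponents ↥(f.fiber z)} =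
      f.base '' D := by
    ext z
    rw [Set.mem_setOf_eq, mem_fiberDims_iff_exists_fibreDimAt]
    constructor
    · rintro ⟨x, hfx, hx⟩
      exact ⟨x, (hD x).mpr hx, hfx⟩
    · rintro ⟨x, hx, hfx⟩
      exact ⟨x, hfx, (hD x).mp hx⟩
  rw [hset]
  apply Groth.Agent.Lib.Helper80.UnivOpenAt2.mem_nhds_of_isLocallyConstructible himg
  intro z' hz'
  rw [mem_fiberDims_iff] at hn
  obtain ⟨ζ, hfζ, hζmax, hnζ⟩ := hn
  obtain ⟨ξ, -, hfξ, hξmax, hr⟩ :=
    exists_maximal_fiber_generization_of_isOpenAt f ζ hζmax (hopen ζ hfζ) z' (by rw [hfζ]; exact hz')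
  refine ⟨ξ, (hD ξ).mpr ?_, hfξ⟩
  rw [fibreDimAt_eq_resTrdegNat_of_maximal f ξ hξmax, hr]
  exact hnζ.symm


/-- EGA IV 14.2.2: if `f` is open at the points of the fibre over `z` and `z'` is a generization
of `z`, the dimensions of the irreducible components of `X_z` occur among those of `X_{z'}`. -/
lemma fiberDims_subset_of_specializes {X Y : Scheme.{u}} [IsLocallyNoetherian Y] (f : X ⟶ Y)
    [LocallyOfFiniteType f] (z z' : Y) (h : z' ⤳ z)
    (hopen : ∀ x : X, f x = z → EGA43.IsOpenAt f.base x) :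
    (fun Z : Set ↥(f.fiber z) => topologicalKrullDim ↥Z) '' irreducibleComponents ↥(f.fiber z) ⊆
      (fun Z : Set ↥(f.fiber z') => topologicalKrullDim ↥Z) ''
        irreducibleComponents ↥(f.fiber z') := by
  intro n hn
  rw [mem_fiberDims_iff] at hn ⊢
  obtain ⟨ζ, hfζ, hζmax, rfl⟩ := hn
  obtain ⟨ξ, -, hfξ, hξmax, hr⟩ :=
    exists_maximal_fiber_generization_of_isOpenAt f ζ hζmax (hopen ζ hfζ) z' (by rw [hfζ]; exact h)
  exact ⟨ξ, hfξ, hξmax, by rw [hr]⟩

/-- EGA IV 14.2.2: if `f` is open at the points of the fibre over `z` and `z'` is a generization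
of `z`, then `dim X_z ≤ dim X_{z'}`. -/
lemma topologicalKrullDim_fiber_le_of_specializes {X Y : Scheme.{u}} [IsLocallyNoetherian Y]
    (f : X ⟶ Y) [LocallyOfFiniteType f] (z z' : Y) (h : z' ⤳ z)
    (hopen : ∀ x : X, f x = z → EGA43.IsOpenAt f.base x) :
    topologicalKrullDim ↥(f.fiber z) ≤ topologicalKrullDim ↥(f.fiber z') := by
  rw [topologicalKrullDim_fiber_le_iff_forall_maximal]
  intro ζ hfζ hζmax
  obtain ⟨ξ, -, hfξ, hξmax, hr⟩ :=
    exists_maximal_fiber_generization_of_isOpenAt f ζ hζmax (hopen ζ hfζ) z' (by rw [hfζ]; exact h)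
  have := resTrdegNat_le_topologicalKrullDim_fiber f ξ
  rw [hfξ, hr] at this
  exact this

/-- A nonempty fibre of a morphism of finite type has an irreducible component of maximal
dimension. -/
lemma exists_mem_fiberDims_eq_topologicalKrullDim {X Y : Scheme.{u}} (f : X ⟶ Y)
    [LocallyOfFiniteType f] [QuasiCompact f] (y : Y) (hy : y ∈ Set.range f.base) :
    ∃ n : ℕ, ((n : ℕ) : WithBot ℕ∞) ∈ (fun Z : Set ↥(f.fiber y) => topologicalKrullDim ↥Z) ''
      irreducibleComponents ↥(f.fiber y) ∧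
      topologicalKrullDim ↥(f.fiber y) = ((n : ℕ) : WithBot ℕ∞) := by
  classical
  obtain ⟨N, hN⟩ := exists_nat_topologicalKrullDim_fiber_le f y
  obtain ⟨x, hfx⟩ := hy
  obtain ⟨ζ₀, -, hfζ₀, hζ₀max⟩ := exists_maximal_fiber_specializes f x
  have hbound : ∀ ζ : X, f ζ = y → resTrdegNat f ζ ≤ N := by
    intro ζ hfζ
    have := (resTrdegNat_le_topologicalKrullDim_fiber f ζ)
    rw [hfζ] at this
    exact_mod_cast this.trans hN
  let P : ℕ → Prop := fun k => ∃ ζ : X, f ζ = y ∧ (∀ t : X, t ⤳ ζ → f t = f ζ → t = ζ) ∧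
    resTrdegNat f ζ = k
  have hP0 : P (resTrdegNat f ζ₀) := ⟨ζ₀, hfζ₀.trans hfx, hζ₀max, rfl⟩
  have hspec : P (Nat.findGreatest P N) :=
    Nat.findGreatest_spec (hbound ζ₀ (hfζ₀.trans hfx)) hP0
  obtain ⟨ζ, hfζ, hζmax, hrζ⟩ := hspec
  refine ⟨Nat.findGreatest P N, ?_, ?_⟩
  · rw [mem_fiberDims_iff]
    exact ⟨ζ, hfζ, hζmax, by rw [hrζ]⟩
  · apply le_antisymm
    · rw [topologicalKrullDim_fiber_le_iff_forall_maximal]
      intro ζ' hfζ' hζ'max
      have : resTrdegNat f ζ' ≤ Nat.findGreatest P N :=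
        Nat.le_findGreatest (hbound ζ' hfζ') ⟨ζ', hfζ', hζ'max, rfl⟩
      exact_mod_cast this
    · have := resTrdegNat_le_topologicalKrullDim_fiber f ζ
      rw [hfζ, hrζ] at this
      exact this

/-- If the fibre over `z` has an irreducible component of dimension `n`, then `n ≤ dim X_z`. -/
lemma le_topologicalKrullDim_fiber_of_mem_fiberDims {X Y : Scheme.{u}} (f : X ⟶ Y)
    [LocallyOfFiniteType f] (z : Y) (n : WithBot ℕ∞)
    (hn : n ∈ (fun Z : Set ↥(f.fiber z) => topologicalKrullDim ↥Z) ''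
      irreducibleComponents ↥(f.fiber z)) : n ≤ topologicalKrullDim ↥(f.fiber z) := by
  rw [mem_fiberDims_iff] at hn
  obtain ⟨ζ, hfζ, -, rfl⟩ := hn
  have := resTrdegNat_le_topologicalKrullDim_fiber f ζ
  rw [hfζ] at this
  exact this

/-- In a locally Noetherian scheme every point `y` has an open neighbourhood all of whose points
are specializations of maximal points which are generizations of `y`. -/
lemma exists_open_forall_exists_maximal {Y : Scheme.{u}} [IsLocallyNoetherian Y] (y : Y) :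
    ∃ V : Y.Opens, y ∈ V ∧ ∀ z ∈ V, ∃ η : Y, η ⤳ z ∧ η ⤳ y ∧ (∀ t : Y, t ⤳ η → t = η) := by
  obtain ⟨V, hyV, hV⟩ := exists_open_forall_maximal_specializes y
  refine ⟨V, hyV, ?_⟩
  intro z hz
  obtain ⟨η, hηz, hηmax⟩ := exists_maximal_specializes z
  exact ⟨η, hηz, hV η (hηz.mem_open V.isOpen hz) hηmax, hηmax⟩


end Groth.Agent.Lib.Helper73

namespace Groth.Agent.Lib.Helper73

/-- Chevalley's semicontinuity on the base, for closed morphisms locally of finite type: the set
of points whose fibre has dimension at most `N` is open. -/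
theorem isOpen_setOf_topologicalKrullDim_fiber_le {X Y : Scheme.{u}} (f : X ⟶ Y)
    [LocallyOfFiniteType f] (hcl : IsClosedMap f.base) (N : WithBot ℕ∞) :
    IsOpen {z : Y | topologicalKrullDim ↥(f.fiber z) ≤ N} := by
  induction N using WithBot.recBotCoe with
  | bot =>
    have : {z : Y | topologicalKrullDim ↥(f.fiber z) ≤ ⊥} = (Set.range f.base)ᶜ := by
      ext z
      rw [Set.mem_setOf_eq, le_bot_iff, topologicalKrullDim_fiber_eq_bot_iff]
      rfl
    rw [this, isOpen_compl_iff, ← Set.image_univ]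
    exact hcl _ isClosed_univ
  | coe N =>
    induction N using ENat.recTopCoe with
    | top =>
      have : {z : Y | topologicalKrullDim ↥(f.fiber z) ≤ ((⊤ : ℕ∞) : WithBot ℕ∞)} = Set.univ := by
        ext z
        simp only [Set.mem_setOf_eq, Set.mem_univ, iff_true]
        exact le_top
      rw [this]; exact isOpen_univ
    | coe n =>
      have : {z : Y | topologicalKrullDim ↥(f.fiber z) ≤ ((n : ℕ∞) : WithBot ℕ∞)} =
          (f.base '' {x : X | FlatMor.fibreDimAt f x ≤ ((n : ℕ) : WithBot ℕ∞)}ᶜ)ᶜ := by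
        ext z
        rw [Set.mem_setOf_eq]
        have := topologicalKrullDim_fiber_le_iff f z n
        rw [show ((n : ℕ∞) : WithBot ℕ∞) = ((n : ℕ) : WithBot ℕ∞) from rfl, this]
        simp only [Set.mem_compl_iff, Set.mem_image, Set.mem_setOf_eq, not_exists, not_and,
          not_not]
        constructor
        · intro h x hx hfx
          exact hx (h x hfx)
        · intro h x hfx
          by_contra hx
          exact h x hx hfx
      rw [this, isOpen_compl_iff]
      exact hcl _ (isOpen_fibreDimAt_le n X Y f).isClosed_compl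

end Groth.Agent.Lib.Helper73

namespace Groth.Agent.Lib.Helper73

/-- A dimension function pulls back along open embeddings. -/
lemma IsDimFun.comp_isOpenEmbedding {X T : Type*} [TopologicalSpace X] [TopologicalSpace T]
    {δ : X → ℕ} (h : IsDimFun δ) (ψ : T → X) (hψ : IsOpenEmbedding ψ) :
    IsDimFun (fun t => δ (ψ t)) where
  lt_of_specializes := by
    intro x y hxy hne
    exact h.lt_of_specializes (hxy.map hψ.continuous) (fun e => hne (hψ.injective e))
  eq_add_one_of_immediate := by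
    intro x y hxy hne himm
    refine h.eq_add_one_of_immediate (hxy.map hψ.continuous) (fun e => hne (hψ.injective e)) ?_
    intro z hxz hzy
    have hzr : z ∈ Set.range ψ := hzy.mem_open hψ.isOpen_range ⟨y, rfl⟩
    obtain ⟨s, rfl⟩ := hzr
    rcases himm s (hψ.isInducing.specializes_iff.mp hxz) (hψ.isInducing.specializes_iff.mp hzy)
      with e | e
    · left; rw [e]
    · right; rw [e]
  exists_specializes_of_ne_zero := by
    intro x W' hW' hxW' h0
    have hV : IsOpen (ψ '' W') := hψ.isOpenMap _ hW'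
    obtain ⟨y, hy, hxy, hne⟩ := h.exists_specializes_of_ne_zero (ψ x) (ψ '' W') hV ⟨x, hxW', rfl⟩ h0
    obtain ⟨s, hsW', rfl⟩ := hy
    refine ⟨s, hsW', hψ.isInducing.specializes_iff.mp hxy, ?_⟩
    rintro rfl
    exact hne rfl

section OpenInterFiber

variable {X Y : Scheme.{u}} (f : X ⟶ Y) (K : Set X) (y : Y)

lemma isOpenEmbedding_interFiberMap (hK : IsOpen K) :
    IsOpenEmbedding (interFiberMap f K y) := by
  have h1 : IsOpenEmbedding (fun t : ↥(K ∩ f ⁻¹' {y}) => (⟨t.1, t.2.2⟩ : ↥(f ⁻¹' {y}))) := by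
    refine ⟨IsEmbedding.of_comp (by fun_prop) continuous_subtype_val IsEmbedding.subtypeVal, ?_⟩
    have : Set.range (fun t : ↥(K ∩ f ⁻¹' {y}) => (⟨t.1, t.2.2⟩ : ↥(f ⁻¹' {y}))) =
        Subtype.val ⁻¹' K := by
      ext s
      constructor
      · rintro ⟨t, rfl⟩; exact t.2.1
      · intro hs; exact ⟨⟨s.1, hs, s.2⟩, rfl⟩
    rw [this]
    exact hK.preimage continuous_subtype_val
  exact (f.fiberHomeo y).symm.isOpenEmbedding.comp h1

variable [LocallyOfFiniteType f]

/-- The dimension of `K ∩ f⁻¹(y)`, `K` open, as a supremum of residual transcendence degrees. -/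
theorem topologicalKrullDim_open_interFiber (hK : IsOpen K) :
    topologicalKrullDim ↥(K ∩ f ⁻¹' {y}) =
      ⨆ t : ↥(K ∩ f ⁻¹' {y}), ((resTrdegNat f t.1 : ℕ∞) : WithBot ℕ∞) := by
  have hemb := isOpenEmbedding_interFiberMap f K y hK
  have hQS : QuasiSober ↥(K ∩ f ⁻¹' {y}) := hemb.quasiSober
  have h := (isDimFun_trdegNat (k := Y.residueField y)
    (f.fiberToSpecResidueField y)).comp_isOpenEmbedding _ hemb
  have e : (fun t : ↥(K ∩ f ⁻¹' {y}) => trdegNat (k := Y.residueField y)
      (f.fiberToSpecResidueField y) (interFiberMap f K y t)) =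
      (fun t : ↥(K ∩ f ⁻¹' {y}) => resTrdegNat f t.1) := by
    funext t
    rw [trdegNat_fiber_eq_resTrdegNat, fiberι_interFiberMap]
  rw [e] at h
  exact h.topologicalKrullDim_eq_iSup

end OpenInterFiber

end Groth.Agent.Lib.Helper73
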