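import Groth.Agent.S5341
import Groth.Agent.Lib.Helper73.DimFormula.CMFlat.FlatFPDim
import Groth.Agent.Lib.Helper73.DimFormula.Chevalley

/-!
# Fibre dimension of group schemes (helper73)

* `withBot_enat_zero_le_of_bot_lt`, `withBot_enat_succ_le_of_lt`: order facts in `WithBot ℕ∞`.
* `dim_fiber_eq_fibreDimAt_of_grpObj`: for a group scheme `G` locally of finite type over `S`, the
  dimension of the fibre through `x` equals the fibre dimension at `x` (equidimensionality, S5341).
-/

set_option autoImplicit false
universe u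
open CategoryTheory MonoidalCategory CartesianMonoidalCategory MonObj GrpObj AlgebraicGeometry TensorProduct
open SGA3

namespace Groth.Agent.Lib.Helper73

lemma withBot_enat_zero_le_of_bot_lt (x : WithBot ℕ∞) (h : ⊥ < x) :
    ((0 : ℕ) : WithBot ℕ∞) ≤ x := by
  induction x with
  | bot => exact absurd h (lt_irrefl _)
  | coe y =>
    have : ((0 : ℕ) : WithBot ℕ∞) = ((0 : ℕ∞) : WithBot ℕ∞) := rfl
    rw [this, WithBot.coe_le_coe]
    exact zero_le

lemma withBot_enat_succ_le_of_lt (m : ℕ) (x : WithBot ℕ∞) (h : ((m : ℕ) : WithBot ℕ∞) < x) :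
    ((m + 1 : ℕ) : WithBot ℕ∞) ≤ x := by
  induction x with
  | bot => exact absurd h (not_lt_bot)
  | coe y =>
    have h1 : ((m : ℕ) : WithBot ℕ∞) = ((m : ℕ∞) : WithBot ℕ∞) := rfl
    have h2 : ((m + 1 : ℕ) : WithBot ℕ∞) = (((m + 1 : ℕ) : ℕ∞) : WithBot ℕ∞) := rfl
    rw [h1, WithBot.coe_lt_coe] at h
    rw [h2, WithBot.coe_le_coe]
    push_cast
    exact Order.add_one_le_of_lt h

open CategoryTheory.Limits in
/-- The fibre of a group scheme locally of finite type is equidimensional: its dimension is the
fibre dimension at any point of the fibre. -/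
theorem dim_fiber_eq_fibreDimAt_of_grpObj (S : Scheme.{u}) (G : Over S) [GrpObj G]
    [LocallyOfFiniteType G.hom] (x : G.left) :
    topologicalKrullDim (G.hom.fiber (G.hom x)) = FlatMor.fibreDimAt G.hom x := by
  set s := G.hom x with hs
  let Gs : Over (Spec (CommRingCat.of (S.residueField s))) :=
    (Over.pullback (S.fromSpecResidueField s)).obj G
  haveI : LocallyOfFiniteType Gs.hom := by
    show LocallyOfFiniteType (pullback.snd G.hom (S.fromSpecResidueField s))
    infer_instance
  have h := (Groth.Agent.S5341.result (S.residueField s) Gs).2 (G.hom.asFiber x)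
  unfold FlatMor.fibreDimAt
  exact h.symm

end Groth.Agent.Lib.Helper73
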