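import Mathlib
import Groth.Prelude
import Groth.Agent.Lib.Helper73.DimFormula.EquidimBaseChange
import Groth.Agent.Lib.Helper73.DimFormula.FiberDimBC
import Groth.Agent.Lib.Helper73.DimFormula.GenericLocus

/-!
# Dimension of products and of base changes of schemes locally of finite type over a field
(helper73)
-/

set_option autoImplicit false
open CategoryTheory AlgebraicGeometry TopologicalSpace Topology Limits
universe u
namespace Groth.Agent.Lib.Helper73

/-- In a pullback square with `f` locally of finite type, a point maximal in its fibre of `f'`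
maps to a point maximal in its fibre of `f`, with the same residual transcendence degree. -/
theorem resTrdegNat_eq_of_isPullback_of_maximal {X Y X' Y' : Scheme.{u}} (f : X ⟶ Y)
    [LocallyOfFiniteType f] (g : Y' ⟶ Y) (p : X' ⟶ X) (f' : X' ⟶ Y') (hsq : IsPullback p f' f g)
    (ζ' : X') (hζ'max : ∀ t : X', t ⤳ ζ' → f' t = f' ζ' → t = ζ') :
    resTrdegNat f' ζ' = resTrdegNat f (p ζ') ∧
      ∀ t : X, t ⤳ p ζ' → f t = f (p ζ') → t = p ζ' := by
  have hlft : LocallyOfFiniteType f' := locallyOfFiniteType_of_isPullback' f g p f' hsq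
  have hP := isPullback_fiberToSpecResidueField_of_isPullback hsq (f' ζ')
  have hζ'bmax : ∀ t : f'.fiber (f' ζ'), t ⤳ f'.asFiber ζ' → t = f'.asFiber ζ' :=
    maximal_fiberHomeo_symm f' (f' ζ') ζ' rfl hζ'max
  have h2 := trdegNat_eq_of_isPullback_of_maximal (k := Y.residueField (g (f' ζ')))
    (K := Y'.residueField (f' ζ')) (g.residueFieldMap (f' ζ')).hom
    (f.fiberToSpecResidueField (g (f' ζ'))) (f'.fiberToSpecResidueField (f' ζ'))
    (fiberMapOfIsPullback f g p f' hsq (f' ζ')) hP (f'.asFiber ζ') hζ'bmax
  have h3 := maximal_map_of_isPullback_field (k := Y.residueField (g (f' ζ')))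
    (K := Y'.residueField (f' ζ')) (g.residueFieldMap (f' ζ')).hom
    (f.fiberToSpecResidueField (g (f' ζ'))) (f'.fiberToSpecResidueField (f' ζ'))
    (fiberMapOfIsPullback f g p f' hsq (f' ζ')) hP (f'.asFiber ζ') hζ'bmax
  have hι : f.fiberι (g (f' ζ')) (fiberMapOfIsPullback f g p f' hsq (f' ζ') (f'.asFiber ζ')) =
      p ζ' := by
    have := congrArg (fun φ => φ (f'.asFiber ζ')) (fiberMapOfIsPullback_fiberι f g p f' hsq (f' ζ'))
    simp only [Scheme.Hom.comp_apply] at this
    rw [this, f'.fiberι_asFiber ζ']
  obtain ⟨h4, h5⟩ := fiberι_maximal_of_maximal f (g (f' ζ')) _ h3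
  rw [hι] at h4 h5
  refine ⟨?_, fun t ht hft => h5 t ht (hft.trans h4)⟩
  rw [trdegNat_fiber_eq_resTrdegNat, trdegNat_fiber_eq_resTrdegNat, hι,
    f'.fiberι_asFiber ζ'] at h2
  exact h2

/-- In a pullback square with `f` locally of finite type, residual transcendence degrees do not
increase. -/
theorem resTrdegNat_le_of_isPullback {X Y X' Y' : Scheme.{u}} (f : X ⟶ Y)
    [LocallyOfFiniteType f] (g : Y' ⟶ Y) (p : X' ⟶ X) (f' : X' ⟶ Y') (hsq : IsPullback p f' f g)
    (x' : X') : resTrdegNat f' x' ≤ resTrdegNat f (p x') := by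
  have hlft : LocallyOfFiniteType f' := locallyOfFiniteType_of_isPullback' f g p f' hsq
  have hP := isPullback_fiberToSpecResidueField_of_isPullback hsq (f' x')
  have h2 := trdegNat_le_of_isPullback (k := Y.residueField (g (f' x')))
    (K := Y'.residueField (f' x')) (g.residueFieldMap (f' x')).hom
    (f.fiberToSpecResidueField (g (f' x'))) (f'.fiberToSpecResidueField (f' x'))
    (fiberMapOfIsPullback f g p f' hsq (f' x')) hP (f'.asFiber x')
  have hι : f.fiberι (g (f' x')) (fiberMapOfIsPullback f g p f' hsq (f' x') (f'.asFiber x')) =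
      p x' := by
    have := congrArg (fun φ => φ (f'.asFiber x')) (fiberMapOfIsPullback_fiberι f g p f' hsq (f' x'))
    simp only [Scheme.Hom.comp_apply] at this
    rw [this, f'.fiberι_asFiber x']
  rw [trdegNat_fiber_eq_resTrdegNat, trdegNat_fiber_eq_resTrdegNat, hι,
    f'.fiberι_asFiber x'] at h2
  exact h2


section Product

variable {k : Type u} [Field k] {X Y : Scheme.{u}}
    (f : X ⟶ Spec (CommRingCat.of k)) (g : Y ⟶ Spec (CommRingCat.of k))
    [LocallyOfFiniteType f] [LocallyOfFiniteType g]

instance locallyOfFiniteType_pullback_snd_field : LocallyOfFiniteType (pullback.snd f g) :=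
  MorphismProperty.of_isPullback (IsPullback.of_hasPullback f g) ‹_›

/-- Transcendence degree of a point of a product: upper bound. -/
theorem trdegNat_pullback_le (z : ↥(pullback f g)) :
    trdegNat (pullback.snd f g ≫ g) z ≤
      trdegNat g (pullback.snd f g z) + trdegNat f (pullback.fst f g z) := by
  rw [trdegNat_eq_add (pullback.snd f g ≫ g) g (pullback.snd f g) rfl z,
    trdegNat_eq_resTrdegNat f]
  exact Nat.add_le_add_left (resTrdegNat_le_of_isPullback f g (pullback.fst f g)
    (pullback.snd f g) (IsPullback.of_hasPullback f g) z) _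

/-- Transcendence degree of a point of a product which is maximal in its fibre over the second
factor. -/
theorem trdegNat_pullback_eq_of_maximal (z : ↥(pullback f g))
    (hz : ∀ t : ↥(pullback f g), t ⤳ z → pullback.snd f g t = pullback.snd f g z → t = z) :
    trdegNat (pullback.snd f g ≫ g) z =
      trdegNat g (pullback.snd f g z) + trdegNat f (pullback.fst f g z) := by
  rw [trdegNat_eq_add (pullback.snd f g ≫ g) g (pullback.snd f g) rfl z,
    trdegNat_eq_resTrdegNat f]
  rw [(resTrdegNat_eq_of_isPullback_of_maximal f g (pullback.fst f g)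
    (pullback.snd f g) (IsPullback.of_hasPullback f g) z hz).1]

/-- Transcendence degree of points of a product: lower bound. -/
theorem exists_trdegNat_pullback_ge (x : X) (y : Y) :
    ∃ z : ↥(pullback f g), trdegNat g y + trdegNat f x ≤ trdegNat (pullback.snd f g ≫ g) z := by
  obtain ⟨ξ, hξx, hξmax⟩ := exists_maximal_specializes x
  have hsub : Subsingleton ↥(Spec (CommRingCat.of k)) :=
    inferInstanceAs (Subsingleton (PrimeSpectrum k))
  obtain ⟨z₁, hz₁p, hz₁q⟩ := Scheme.Pullback.exists_preimage_pullback (f := f) (g := g) ξ y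
    (Subsingleton.elim _ _)
  obtain ⟨z, hzz₁, hqz, hzmax⟩ := exists_maximal_fiber_specializes (pullback.snd f g) z₁
  have hpz : pullback.fst f g z = ξ := by
    apply hξmax
    rw [← hz₁p]
    exact hzz₁.map (pullback.fst f g).continuous
  refine ⟨z, ?_⟩
  rw [trdegNat_pullback_eq_of_maximal f g z hzmax, hpz, hqz, hz₁q]
  exact Nat.add_le_add_left ((isDimFun_trdegNat f).le_of_specializes hξx) _

/-- The dimension of a product of schemes locally of finite type over a field is the sum of the
dimensions. -/
theorem topologicalKrullDim_pullback_eq_add :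
    topologicalKrullDim ↥(pullback f g) = topologicalKrullDim ↥X + topologicalKrullDim ↥Y := by
  rw [topologicalKrullDim_eq_iSup_trdegNat (pullback.snd f g ≫ g),
    topologicalKrullDim_eq_iSup_trdegNat f, topologicalKrullDim_eq_iSup_trdegNat g]
  apply le_antisymm
  · refine iSup_le fun z => ?_
    refine le_trans ?_ (add_le_add (le_iSup _ (pullback.fst f g z)) (le_iSup _ (pullback.snd f g z)))
    have := trdegNat_pullback_le f g z
    rw [add_comm] at this
    exact_mod_cast this
  · by_cases hX : IsEmpty X
    · rw [iSup_of_empty, WithBot.bot_add]; exact bot_le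
    by_cases hY : IsEmpty Y
    · rw [iSup_of_empty (f := fun y : Y => _), WithBot.add_bot]; exact bot_le
    rw [not_isEmpty_iff] at hX hY
    obtain ⟨x₀⟩ := hX
    obtain ⟨y₀⟩ := hY
    obtain ⟨z₀, -⟩ := exists_trdegNat_pullback_ge f g x₀ y₀
    have : Nonempty ↥(pullback f g) := ⟨z₀⟩
    have : Nonempty X := ⟨x₀⟩
    have : Nonempty Y := ⟨y₀⟩
    rw [← WithBot.coe_iSup (OrderTop.bddAbove _), ← WithBot.coe_iSup (OrderTop.bddAbove _),
      ← WithBot.coe_iSup (OrderTop.bddAbove _), ← WithBot.coe_add, WithBot.coe_le_coe]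
    refine ENat.iSup_add_iSup_le fun x y => ?_
    obtain ⟨z, hz⟩ := exists_trdegNat_pullback_ge f g x y
    refine le_trans ?_ (le_iSup _ z)
    rw [add_comm] at hz
    exact_mod_cast hz

/-- Every irreducible component of a product of integral schemes locally of finite type over a
field has dimension the sum of the dimensions. -/
theorem topologicalKrullDim_irreducibleComponent_pullback_eq_add [IsIntegral X] [IsIntegral Y]
    (Z : Set ↥(pullback f g)) (hZ : Z ∈ irreducibleComponents ↥(pullback f g)) :
    topologicalKrullDim ↥Z = topologicalKrullDim ↥X + topologicalKrullDim ↥Y := by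
  obtain ⟨z, hzZ, hzmax⟩ := exists_maximal_of_mem_irreducibleComponents Z hZ
  rw [← hzZ, (isDimFun_trdegNat (pullback.snd f g ≫ g)).topologicalKrullDim_closure_singleton z,
    trdegNat_pullback_eq_of_maximal f g z (fun t ht _ => hzmax t ht)]
  have hsq : IsPullback (pullback.fst f g) (pullback.snd f g) f g := IsPullback.of_hasPullback f g
  have hp := (resTrdegNat_eq_of_isPullback_of_maximal f g (pullback.fst f g)
    (pullback.snd f g) hsq z (fun t ht _ => hzmax t ht)).2
  have hq := (resTrdegNat_eq_of_isPullback_of_maximal g f (pullback.snd f g)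
    (pullback.fst f g) hsq.flip z (fun t ht _ => hzmax t ht)).2
  have hsub : Subsingleton ↥(Spec (CommRingCat.of k)) :=
    inferInstanceAs (Subsingleton (PrimeSpectrum k))
  have hpz : pullback.fst f g z = genericPoint X :=
    (hp _ (genericPoint_specializes _) (Subsingleton.elim _ _)).symm
  have hqz : pullback.snd f g z = genericPoint Y :=
    (hq _ (genericPoint_specializes _) (Subsingleton.elim _ _)).symm
  rw [hpz, hqz, topologicalKrullDim_eq_trdegNat_genericPoint f,
    topologicalKrullDim_eq_trdegNat_genericPoint g, add_comm]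
  push_cast
  rfl

end Product

section FieldExt

variable {k K : Type u} [Field k] [Field K] (ι : k →+* K) {X X' : Scheme.{u}}
  (f : X ⟶ Spec (CommRingCat.of k)) [LocallyOfFiniteType f]
  (f' : X' ⟶ Spec (CommRingCat.of K)) [LocallyOfFiniteType f']
  (π : X' ⟶ X) (hsq : IsPullback π f' f (Spec.map (CommRingCat.ofHom ι)))

include hsq in
/-- The set of dimensions of irreducible components is invariant under extension of the base
field. -/
theorem image_topologicalKrullDim_irreducibleComponents_eq_of_isPullback_field :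
    (fun Z : Set ↥X' => topologicalKrullDim ↥Z) '' irreducibleComponents ↥X' =
      (fun Z : Set ↥X => topologicalKrullDim ↥Z) '' irreducibleComponents ↥X := by
  ext d
  constructor
  · rintro ⟨Z', hZ', rfl⟩
    obtain ⟨ζ', hζ'Z, hζ'max⟩ := exists_maximal_of_mem_irreducibleComponents Z' hZ'
    have h2 := trdegNat_eq_of_isPullback_of_maximal ι f f' π hsq ζ' hζ'max
    have h3 := maximal_map_of_isPullback_field ι f f' π hsq ζ' hζ'max
    refine ⟨closure {π ζ'}, closure_singleton_mem_irreducibleComponents_of_maximal _ h3, ?_⟩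
    change topologicalKrullDim ↥(closure {π ζ'}) = topologicalKrullDim ↥Z'
    rw [← hζ'Z, (isDimFun_trdegNat f).topologicalKrullDim_closure_singleton,
      (isDimFun_trdegNat f').topologicalKrullDim_closure_singleton, h2]
  · rintro ⟨Z, hZ, rfl⟩
    obtain ⟨ζ, hζZ, hζmax⟩ := exists_maximal_of_mem_irreducibleComponents Z hZ
    obtain ⟨x'', hx''⟩ := (surjective_of_isPullback_field ι f f' π hsq).surj ζ
    obtain ⟨ζ', hζ'x'', hζ'max⟩ := exists_maximal_specializes x''
    have h0 : π ζ' = ζ := by
      apply hζmax
      rw [← hx'']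
      exact hζ'x''.map π.continuous
    have h2 := trdegNat_eq_of_isPullback_of_maximal ι f f' π hsq ζ' hζ'max
    refine ⟨closure {ζ'}, closure_singleton_mem_irreducibleComponents_of_maximal _ hζ'max, ?_⟩
    change topologicalKrullDim ↥(closure {ζ'}) = topologicalKrullDim ↥Z
    rw [← hζZ, (isDimFun_trdegNat f).topologicalKrullDim_closure_singleton,
      (isDimFun_trdegNat f').topologicalKrullDim_closure_singleton, h2, h0]

include hsq in
/-- A point of `X'` which is maximal in the preimage of a closed subset of `X` has the same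
transcendence degree as its image. -/
theorem trdegNat_eq_of_isPullback_of_maximal_preimage (Z : Set X) (hZ : IsClosed Z) (x' : X')
    (hx'Z : π x' ∈ Z) (hmax : ∀ t : X', t ⤳ x' → π t ∈ Z → t = x') :
    trdegNat f' x' = trdegNat f (π x') := by
  let I := Scheme.IdealSheafData.vanishingIdeal ⟨Z, hZ⟩
  let i : I.subscheme ⟶ X := I.subschemeι
  have hrange : Set.range i = Z := by
    rw [Scheme.IdealSheafData.range_subschemeι]
    exact Scheme.IdealSheafData.coe_support_vanishingIdeal _
  have hsq₀ : IsPullback (pullback.fst i π) (pullback.snd i π) i π := IsPullback.of_hasPullback i π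
  have hpaste := hsq₀.paste_vert hsq
  have hx'r : x' ∈ Set.range (pullback.snd i π) := by
    rw [Scheme.Pullback.range_snd, hrange]
    exact hx'Z
  obtain ⟨w₀, rfl⟩ := hx'r
  have hw₀max : ∀ t : ↥(pullback i π), t ⤳ w₀ → t = w₀ := by
    intro t ht
    apply (pullback.snd i π).isEmbedding.injective
    apply hmax _ (ht.map (pullback.snd i π).continuous)
    rw [← hrange]
    refine ⟨pullback.fst i π t, ?_⟩
    rw [← Scheme.Hom.comp_apply, pullback.condition, Scheme.Hom.comp_apply]
  have h2 := trdegNat_eq_of_isPullback_of_maximal ι (i ≫ f) (pullback.snd i π ≫ f')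
    (pullback.fst i π) hpaste w₀ hw₀max
  rw [trdegNat_eq_resTrdegNat, trdegNat_eq_resTrdegNat, resTrdegNat_comp_of_isPreimmersion,
    resTrdegNat_comp_of_isPreimmersion, ← trdegNat_eq_resTrdegNat, ← trdegNat_eq_resTrdegNat] at h2
  rw [h2, ← Scheme.Hom.comp_apply, pullback.condition, Scheme.Hom.comp_apply]

include hsq in
/-- Every irreducible component of the preimage in `X_K` of an irreducible closed subset of `X`
has the same dimension as that subset. -/
theorem topologicalKrullDim_irreducibleComponent_preimage_eq (ζ : X)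
    (W : Set ↥(π ⁻¹' closure ({ζ} : Set X)))
    (hW : W ∈ irreducibleComponents ↥(π ⁻¹' closure ({ζ} : Set X))) :
    topologicalKrullDim ↥W = topologicalKrullDim ↥(closure ({ζ} : Set X)) := by
  have hA : IsClosed (π ⁻¹' closure ({ζ} : Set X)) := isClosed_closure.preimage π.continuous
  have : QuasiSober ↥(π ⁻¹' closure ({ζ} : Set X)) := hA.isClosedEmbedding_subtypeVal.quasiSober
  obtain ⟨w, hwW, hwmax⟩ := exists_maximal_of_mem_irreducibleComponents W hW
  have hδA : IsDimFun (fun t : ↥(π ⁻¹' closure ({ζ} : Set X)) => trdegNat f' t.1) := by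
    have e : Set.univ ∩ (π ⁻¹' closure ({ζ} : Set X)) = π ⁻¹' closure ({ζ} : Set X) :=
      Set.univ_inter _
    have := (isDimFun_trdegNat f').restrict isOpen_univ hA
    rw [e] at this
    exact this
  rw [← hwW, hδA.topologicalKrullDim_closure_singleton w,
    (isDimFun_trdegNat f).topologicalKrullDim_closure_singleton ζ]
  have hflat := flat_of_isPullback_field ι f f' π hsq
  have hmax : ∀ t : X', t ⤳ w.1 → π t ∈ closure ({ζ} : Set X) → t = w.1 := by
    intro t ht htZ
    have : (⟨t, htZ⟩ : ↥(π ⁻¹' closure ({ζ} : Set X))) ⤳ w :=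
      IsInducing.subtypeVal.specializes_iff.mp ht
    exact congrArg Subtype.val (hwmax _ this)
  have hπw : π w.1 = ζ := by
    have hsp : ζ ⤳ π w.1 := specializes_iff_mem_closure.mpr w.2
    obtain ⟨t, ht1, ht2⟩ := Flat.generalizingMap π hsp
    have := hmax t ht1 (by rw [ht2]; exact subset_closure rfl)
    rw [← this, ht2]
  rw [trdegNat_eq_of_isPullback_of_maximal_preimage ι f f' π hsq _ isClosed_closure w.1 w.2 hmax,
    hπw]

end FieldExt

end Groth.Agent.Lib.Helper73
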