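import Mathlib
import Groth.Agent.Lib.Helper73.DimFormula.Jacobson

/-!
# Dense opens in Jacobson universally catenary schemes (helper73)

* `exists_open_noetherianSpace_of_isLocallyNoetherian`, `exists_mem_specializes_of_dense`.
* `topologicalKrullDim_dense_open_eq` (EGA IV 10.6.2).
-/

set_option autoImplicit false
universe u

open AlgebraicGeometry CategoryTheory TopologicalSpace Opposite Order

namespace Groth.Agent.Lib.Helper73

/-- Every point of a locally Noetherian scheme has an open neighbourhood which is a Noetherian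
space. -/
lemma exists_open_noetherianSpace_of_isLocallyNoetherian (X : Scheme.{u}) [IsLocallyNoetherian X]
    (x : X) : ∃ U : Set X, IsOpen U ∧ x ∈ U ∧ NoetherianSpace ↥U := by
  obtain ⟨U, hU, hxU, -⟩ := exists_isAffineOpen_mem_and_subset (X := X) (x := x) (U := ⊤) trivial
  have : IsNoetherianRing Γ(X, U) := IsLocallyNoetherian.component_noetherian ⟨U, hU⟩
  exact ⟨U, U.isOpen, hxU, noetherianSpace_of_isAffineOpen U hU⟩

/-- In a locally Noetherian scheme, every point is a specialization of a point of any given dense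
open subset. -/
lemma exists_mem_specializes_of_dense (X : Scheme.{u}) [IsLocallyNoetherian X] (U : Set X)
    (hU : IsOpen U) (hd : Dense U) (x : X) : ∃ ξ ∈ U, ξ ⤳ x := by
  let Z : Set X := irreducibleComponent x
  have hZ : Z ∈ irreducibleComponents (X : Type u) := irreducibleComponent_mem_irreducibleComponents x
  have hcl : IsClosed Z := isClosed_irreducibleComponent
  have hirr : IsIrreducible Z := isIrreducible_irreducibleComponent
  obtain ⟨ξ, hξ⟩ := QuasiSober.sober hirr hcl
  have hξcl : closure ({ξ} : Set X) = Z := hξ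
  have hξx : ξ ⤳ x := hξ.specializes mem_irreducibleComponent
  refine ⟨ξ, ?_, hξx⟩
  -- `ξ` is a maximal point
  have hmax : ∀ η : X, η ⤳ ξ → η = ξ := by
    intro η hη
    have h1 : Z ⊆ closure ({η} : Set X) := by
      rw [← hξcl]
      exact closure_minimal (Set.singleton_subset_iff.mpr (specializes_iff_mem_closure.mp hη))
        isClosed_closure
    have h2 : closure ({η} : Set X) ⊆ Z :=
      hZ.2 (isIrreducible_singleton.closure : IsIrreducible (closure ({η} : Set X))) h1
    have h3 : ξ ⤳ η := by
      rw [specializes_iff_mem_closure, hξcl]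
      exact h2 (subset_closure rfl)
    exact (hη.antisymm h3).eq
  obtain ⟨V, hV, hξV, hN⟩ := exists_open_noetherianSpace_of_isLocallyNoetherian X ξ
  obtain ⟨W, hW, hξW, hall⟩ := exists_open_forall_exists_generic_of_nhd ξ V hV hξV
  obtain ⟨w, hwW, hwU⟩ := hd.inter_open_nonempty W hW ⟨ξ, hξW⟩
  obtain ⟨η, hηw, hηξ⟩ := hall w hwW
  rw [hmax η hηξ] at hηw
  exact hηw.mem_open hU hwU

/-- EGA IV 10.6.2: a dense open subset of a Jacobson universally catenary scheme with
equidimensional components has the same dimension. -/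
theorem topologicalKrullDim_dense_open_eq (X : Scheme.{u}) [IsLocallyNoetherian X] [JacobsonSpace X]
    (h2 : ∀ x : X, CAlg.IsUniversallyCatenary (X.presheaf.stalk x))
    (h3 : ∀ X' ∈ irreducibleComponents (X : Type u), ∀ x ∈ X', IsClosed ({x} : Set X) →
      topologicalKrullDim (↥X' : Type u) = topologicalKrullDim ↥{t : X | t ∈ X' ∧ t ⤳ x})
    (U : Set X) (hU : IsOpen U) (hd : Dense U) :
    topologicalKrullDim ↥U = topologicalKrullDim X := by
  have hδ := isDimFun_baseDim h2 h3
  rw [hδ.topologicalKrullDim_open_eq_iSup hU, hδ.topologicalKrullDim_eq_iSup]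
  apply le_antisymm
  · exact iSup_le fun t => le_iSup (fun x : X => ((baseDim X x : ℕ∞) : WithBot ℕ∞)) t.1
  · refine iSup_le fun x => ?_
    obtain ⟨ξ, hξU, hξx⟩ := exists_mem_specializes_of_dense X U hU hd x
    have h1 := hδ.le_of_specializes hξx
    refine le_trans ?_ (le_iSup (fun t : ↥U => ((baseDim X t.1 : ℕ∞) : WithBot ℕ∞)) ⟨ξ, hξU⟩)
    exact_mod_cast h1

end Groth.Agent.Lib.Helper73
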