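import Mathlib
import Groth.Agent.Lib.Helper73.DimFormula.JacobsonDense

/-!
# Local dimension of closed subsets of Jacobson universally catenary schemes (helper73)

* `IsDimFun.topologicalKrullDim_eq_coheight_add`, `IsDimFun.exists_generic_of_components`,
  `IsDimFun.coheight_add_eq_iSup_components`.
* `topologicalKrullDim_generizations_subtype_eq_coheight`.
* `localDim_closed_eq_of_jacobson` (EGA IV 10.6.x).
-/

set_option autoImplicit false
universe u

open AlgebraicGeometry CategoryTheory TopologicalSpace Opposite Order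

namespace Groth.Agent.Lib.Helper73

namespace IsDimFun

section

variable {T : Type*} [TopologicalSpace T] {δ : T → ℕ} (h : IsDimFun δ)
include h

attribute [local instance] specializationPreorder

/-- The dimension of an open neighbourhood `W` of `x` all of whose points are specializations of
generizations of `x`. -/
lemma topologicalKrullDim_eq_coheight_add [QuasiSober T] (x : T) (W : Set T) (hW : IsOpen W)
    (hxW : x ∈ W) (hLN : ∀ w ∈ W, ∃ η : T, η ⤳ w ∧ η ⤳ x) :
    topologicalKrullDim ↥W = ((Order.coheight x + δ x : ℕ∞) : WithBot ℕ∞) := by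
  apply le_antisymm
  · rw [h.topologicalKrullDim_open_eq_iSup hW]
    refine iSup_le fun w => ?_
    obtain ⟨η, h1, h2⟩ := hLN w.1 w.2
    have := (h.le_coheight_add h2)
    refine WithBot.coe_le_coe.mpr (le_trans ?_ this)
    exact_mod_cast h.le_of_specializes h1
  · rw [← h.iInf_topologicalKrullDim_eq x W hW hxW hLN]
    exact iInf_le (fun U : {U : Opens T // x ∈ U} => topologicalKrullDim ↥(U.1 : Set T))
      ⟨⟨W, hW⟩, hxW⟩

omit h in
/-- If `W` meets only the irreducible components through `x`, then every point of `W` is a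
specialization of a generization of `x`. -/
lemma exists_generic_of_components [QuasiSober T] (x : T) (W : Set T)
    (hcomp : ∀ C ∈ irreducibleComponents T, x ∉ C → Disjoint W C) :
    ∀ w ∈ W, ∃ η : T, η ⤳ w ∧ η ⤳ x := by
  intro w hw
  have hZ : irreducibleComponent w ∈ irreducibleComponents T :=
    irreducibleComponent_mem_irreducibleComponents w
  have hxZ : x ∈ irreducibleComponent w := by
    by_contra hx
    exact Set.disjoint_left.mp (hcomp _ hZ hx) hw mem_irreducibleComponent
  obtain ⟨η, hη⟩ := QuasiSober.sober (isIrreducible_irreducibleComponent (x := w))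
    (isClosed_of_mem_irreducibleComponents _ hZ)
  exact ⟨η, hη.specializes mem_irreducibleComponent, hη.specializes hxZ⟩

/-- `coheight x + δ x` is the supremum of the dimensions of the irreducible components through
`x`. -/
lemma coheight_add_eq_iSup_components [QuasiSober T] (x : T) :
    ((Order.coheight x + δ x : ℕ∞) : WithBot ℕ∞) =
      ⨆ C ∈ {C : Set T | C ∈ irreducibleComponents T ∧ x ∈ C}, topologicalKrullDim ↥C := by
  have hdimC : ∀ C ∈ irreducibleComponents T, ∀ η : T, IsGenericPoint η C →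
      topologicalKrullDim ↥C = ((δ η : ℕ∞) : WithBot ℕ∞) := by
    intro C _ η hη
    rw [← hη.def]
    exact h.topologicalKrullDim_closure_singleton η
  apply le_antisymm
  · -- the right hand side is not `⊥`
    set R : WithBot ℕ∞ :=
      ⨆ C ∈ {C : Set T | C ∈ irreducibleComponents T ∧ x ∈ C}, topologicalKrullDim ↥C with hR
    have hbound : ∀ η : T, η ⤳ x → ((δ η : ℕ∞) : WithBot ℕ∞) ≤ R := by
      intro η hη
      have hZ : irreducibleComponent η ∈ irreducibleComponents T :=
        irreducibleComponent_mem_irreducibleComponents η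
      have hcl : IsClosed (irreducibleComponent η) := isClosed_of_mem_irreducibleComponents _ hZ
      have hxZ : x ∈ irreducibleComponent η := hη.mem_closed hcl mem_irreducibleComponent
      obtain ⟨ζ, hζ⟩ := QuasiSober.sober (isIrreducible_irreducibleComponent (x := η)) hcl
      have h1 : ζ ⤳ η := hζ.specializes mem_irreducibleComponent
      have h2 := h.le_of_specializes h1
      calc ((δ η : ℕ∞) : WithBot ℕ∞) ≤ ((δ ζ : ℕ∞) : WithBot ℕ∞) := by exact_mod_cast h2
        _ = topologicalKrullDim ↥(irreducibleComponent η) := (hdimC _ hZ ζ hζ).symm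
        _ ≤ R := le_iSup₂ (f := fun (C : Set T)
              (_ : C ∈ {C : Set T | C ∈ irreducibleComponents T ∧ x ∈ C}) =>
              topologicalKrullDim ↥C) (irreducibleComponent η) ⟨hZ, hxZ⟩
    have hne : R ≠ ⊥ := by
      intro hbot
      have := hbound x specializes_rfl
      rw [hbot] at this
      exact absurd (le_bot_iff.mp this) (WithBot.coe_ne_bot)
    obtain ⟨N, hN⟩ := WithBot.ne_bot_iff_exists.mp hne
    rw [← hN]
    refine WithBot.coe_le_coe.mpr (h.coheight_add_le fun η hη => ?_)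
    have := hbound η hη
    rw [← hN] at this
    exact WithBot.coe_le_coe.mp this
  · refine iSup₂_le fun C hC => ?_
    obtain ⟨ζ, hζ⟩ := QuasiSober.sober (hC.1.1 : IsIrreducible C)
      (isClosed_of_mem_irreducibleComponents _ hC.1)
    rw [hdimC C hC.1 ζ hζ]
    exact WithBot.coe_le_coe.mpr (h.le_coheight_add (hζ.specializes hC.2))

end

end IsDimFun

section

variable {W : Type*} [TopologicalSpace W] [T0Space W]

/-- The dimension of the space of generizations of `x` inside a subset `Y` stable under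
generization in its closure is the coheight of `x` in `Y`. -/
lemma topologicalKrullDim_generizations_subtype_eq_coheight [QuasiSober W] (Y : Set W)
    (hY : IsClosed Y) (x : W) (hx : x ∈ Y) :
    topologicalKrullDim ↥{t : W | t ∈ Y ∧ t ⤳ x} =
      ((@Order.coheight ↥Y (specializationPreorder ↥Y) ⟨x, hx⟩ : ℕ∞) : WithBot ℕ∞) := by
  have hG : QuasiSober ↥{t : W | t ∈ Y ∧ t ⤳ x} := by
    apply quasiSober_subtype_of_generization
    intro t ht ζ hζt hζ
    refine ⟨?_, hζt.trans ht.2⟩
    have : closure {t : W | t ∈ Y ∧ t ⤳ x} ⊆ Y := closure_minimal (fun t ht => ht.1) hY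
    exact this hζ
  rw [topologicalKrullDim_subtype_eq_krullDim]
  rw [@Order.coheight_eq_krullDim_Ici ↥Y (specializationPreorder ↥Y) ⟨x, hx⟩]
  let P1 : Preorder ↥{t : W | t ∈ Y ∧ t ⤳ x} :=
    @Subtype.preorder W (specializationPreorder W) (· ∈ {t : W | t ∈ Y ∧ t ⤳ x})
  let PY : Preorder ↥Y := specializationPreorder ↥Y
  let P2 : Preorder ↥(@Set.Ici ↥Y PY ⟨x, hx⟩) := @Subtype.preorder ↥Y PY _
  apply le_antisymm
  · refine @Order.krullDim_le_of_strictMono _ _ P1 P2
      (fun t => ⟨⟨t.1, t.2.1⟩, (subtype_specializes_iff _ _).mpr t.2.2⟩) ?_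
    intro a b hab
    have h1 : b.1 ⤳ a.1 ∧ ¬ a.1 ⤳ b.1 := (@lt_iff_le_not_ge _ P1 a b).mp hab
    refine (@lt_iff_le_not_ge _ P2 _ _).mpr ⟨?_, ?_⟩
    · exact (subtype_specializes_iff (p := (· ∈ Y)) ⟨b.1, b.2.1⟩ ⟨a.1, a.2.1⟩).mpr h1.1
    · intro h3
      exact h1.2 ((subtype_specializes_iff (p := (· ∈ Y)) ⟨a.1, a.2.1⟩ ⟨b.1, b.2.1⟩).mp h3)
  · refine @Order.krullDim_le_of_strictMono _ _ P2 P1
      (fun t => ⟨t.1.1, t.1.2, (subtype_specializes_iff _ _).mp t.2⟩) ?_
    intro a b hab
    have h1 : b.1 ⤳ a.1 ∧ ¬ a.1 ⤳ b.1 := (@lt_iff_le_not_ge _ P2 a b).mp hab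
    refine (@lt_iff_le_not_ge _ P1 _ _).mpr ⟨?_, ?_⟩
    · exact (subtype_specializes_iff b.1 a.1).mp h1.1
    · intro h3
      exact h1.2 ((subtype_specializes_iff a.1 b.1).mpr h3)

end

/-- EGA IV 10.6.x: local dimension of closed subsets of Jacobson universally catenary schemes with
equidimensional components. -/
theorem localDim_closed_eq_of_jacobson (X : Scheme.{u}) [IsLocallyNoetherian X] [JacobsonSpace X]
    (h2 : ∀ x : X, CAlg.IsUniversallyCatenary (X.presheaf.stalk x))
    (h3 : ∀ X' ∈ irreducibleComponents (X : Type u), ∀ x ∈ X', IsClosed ({x} : Set X) →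
      topologicalKrullDim (↥X' : Type u) = topologicalKrullDim ↥{t : X | t ∈ X' ∧ t ⤳ x})
    (Y : Set X) (hY : IsClosed Y) (x : X) (hx : x ∈ Y) :
    FlatMor.localDim ↥Y ⟨x, hx⟩ =
        topologicalKrullDim ↥(closure ({x} : Set X)) + topologicalKrullDim ↥{t : X | t ∈ Y ∧ t ⤳ x} ∧
      FlatMor.localDim ↥Y ⟨x, hx⟩ =
        ⨆ C ∈ {C : Set ↥Y | C ∈ irreducibleComponents ↥Y ∧ (⟨x, hx⟩ : ↥Y) ∈ C}, topologicalKrullDim ↥C ∧
      ∀ U : Set X, IsOpen U → x ∈ U →
        (∀ C ∈ irreducibleComponents ↥Y, (⟨x, hx⟩ : ↥Y) ∉ C → Disjoint (Subtype.val ⁻¹' U) C) →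
        topologicalKrullDim ↥(U ∩ Y) = FlatMor.localDim ↥Y ⟨x, hx⟩ := by
  have hδ := isDimFun_baseDim h2 h3
  have hT : IsDimFun (fun t : ↥Y => baseDim X t.1) := by
    have e : Set.univ ∩ Y = Y := Set.univ_inter Y
    have := hδ.restrict isOpen_univ hY
    rw [e] at this
    exact this
  have hQS : QuasiSober ↥Y := hY.isClosedEmbedding_subtypeVal.quasiSober
  -- a Noetherian open neighbourhood in `Y`
  obtain ⟨V, hV, hxV, hN⟩ := exists_open_noetherianSpace_of_isLocallyNoetherian X x
  let VT : Set ↥Y := Subtype.val ⁻¹' V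
  have hVT : IsOpen VT := hV.preimage continuous_subtype_val
  have hNT : NoetherianSpace ↥VT := by
    let i : ↥VT → ↥V := fun t => ⟨t.1.1, t.2⟩
    have hi : Topology.IsInducing i := by
      have h1 : Topology.IsInducing (fun t : ↥VT => (t.1.1 : X)) :=
        Topology.IsInducing.subtypeVal.comp Topology.IsInducing.subtypeVal
      have h2 : (fun t : ↥VT => (t.1.1 : X)) = Subtype.val ∘ i := rfl
      rw [h2] at h1
      have hic : Continuous i :=
        (continuous_subtype_val.comp continuous_subtype_val).subtype_mk (fun t => t.2)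
      exact Topology.IsInducing.of_comp hic continuous_subtype_val h1
    exact hi.noetherianSpace
  obtain ⟨W, hW, hxW, hLN⟩ :=
    exists_open_forall_exists_generic_of_nhd (⟨x, hx⟩ : ↥Y) VT hVT hxV
  have hloc : FlatMor.localDim ↥Y ⟨x, hx⟩ =
      ((@Order.coheight ↥Y (specializationPreorder ↥Y) ⟨x, hx⟩ + baseDim X x : ℕ∞) : WithBot ℕ∞) :=
    hT.iInf_topologicalKrullDim_eq ⟨x, hx⟩ W hW hxW hLN
  refine ⟨?_, ?_, ?_⟩
  · rw [hloc, hδ.topologicalKrullDim_closure_singleton x,
      topologicalKrullDim_generizations_subtype_eq_coheight Y hY x hx]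
    push_cast
    rw [add_comm]
  · rw [hloc]
    exact hT.coheight_add_eq_iSup_components ⟨x, hx⟩
  · intro U hU hxU hcomp
    rw [hloc, hδ.topologicalKrullDim_inter_eq_iSup hU hY]
    have hLN' := IsDimFun.exists_generic_of_components (⟨x, hx⟩ : ↥Y) (Subtype.val ⁻¹' U) hcomp
    apply le_antisymm
    · refine iSup_le fun t => ?_
      obtain ⟨η, h1, h2⟩ := hLN' ⟨t.1, t.2.2⟩ t.2.1
      have h4 := hT.le_coheight_add h2
      have h5 := hT.le_of_specializes h1
      refine WithBot.coe_le_coe.mpr (le_trans ?_ h4)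
      exact_mod_cast h5
    · have : Nonempty ↥(U ∩ Y) := ⟨⟨x, hxU, hx⟩⟩
      rw [← WithBot.coe_iSup (OrderTop.bddAbove _)]
      refine WithBot.coe_le_coe.mpr ?_
      refine hT.coheight_add_le fun η hη => ?_
      have hηx : η.1 ⤳ x := (subtype_specializes_iff η ⟨x, hx⟩).mp hη
      exact le_iSup (fun t : ↥(U ∩ Y) => (baseDim X t.1 : ℕ∞))
        ⟨η.1, hηx.mem_open hU hxU, η.2⟩

end Groth.Agent.Lib.Helper73
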