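import Groth.Agent.Lib.Helper73.DimFormula.FiberDimAdd
import Groth.Agent.Lib.Helper73.DimFormula.OpenFT
import Groth.Agent.Lib.Helper73.DimFormula.GenericLocus
import Groth.Agent.Lib.Helper84.TopDim

/-!
# Dimension of the total space in terms of the fibre-dimension loci (helper73)

* `exists_specializes_of_mem_closure_range`, `exists_resTrdegNat_ge_of_le_dim_fiber`,
  `dim_le_iff_forall_closure_add_le`.
-/

set_option autoImplicit false
open CategoryTheory AlgebraicGeometry TopologicalSpace Topology Limits
universe u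

namespace Groth.Agent.Lib.Helper73

/-- In a Noetherian quasi-sober space, every point of the closure of the image of a continuous map
is a specialization of a point of the image. -/
theorem exists_specializes_of_mem_closure_range {W X : Type*} [TopologicalSpace W]
    [TopologicalSpace X] [NoetherianSpace W] [QuasiSober W] (φ : W → X) (hφ : Continuous φ)
    (t : X) (ht : t ∈ closure (Set.range φ)) : ∃ g : W, φ g ⤳ t := by
  have hfin := NoetherianSpace.finite_irreducibleComponents (α := W)
  have hsub : Set.range φ ⊆ ⋃ Z ∈ irreducibleComponents W,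
      closure (φ '' Z) := by
    rintro _ ⟨w, rfl⟩
    have hw : w ∈ ⋃₀ irreducibleComponents W := by
      rw [sUnion_irreducibleComponents]; trivial
    obtain ⟨Z, hZ, hwZ⟩ := hw
    exact Set.mem_biUnion hZ (subset_closure ⟨w, hwZ, rfl⟩)
  have hclosed : IsClosed (⋃ Z ∈ irreducibleComponents W, closure (φ '' Z)) :=
    hfin.isClosed_biUnion fun Z _ => isClosed_closure
  have h1 := closure_minimal hsub hclosed ht
  obtain ⟨Z, hZ, htZ⟩ := Set.mem_iUnion₂.mp h1
  have hZc := isClosed_of_mem_irreducibleComponents Z hZ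
  obtain ⟨g, hg⟩ := QuasiSober.sober hZ.1 hZc
  refine ⟨g, ?_⟩
  rw [specializes_iff_mem_closure]
  have h2 : φ '' Z ⊆ closure {φ g} := by
    rw [← hg.def]
    exact (image_closure_subset_closure_image hφ).trans (by rw [Set.image_singleton])
  exact closure_minimal h2 isClosed_closure htZ

section S14480

variable {k : Type u} [Field k] {C X : Scheme.{u}} (q : X ⟶ Spec (CommRingCat.of k))
  (π : C ⟶ X) [LocallyOfFiniteType q] [LocallyOfFiniteType π]

/-- If the fibre of `π` over `x` has dimension at least `j`, some point over `x` has residual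
transcendence degree at least `j`. -/
theorem exists_resTrdegNat_ge_of_le_dim_fiber (x : X) (j : ℕ)
    (hj : (j : WithBot ℕ∞) ≤ topologicalKrullDim ↥(π.fiber x)) :
    ∃ c : C, π c = x ∧ j ≤ resTrdegNat π c := by
  by_contra hcon
  push Not at hcon
  rcases Nat.eq_zero_or_pos j with rfl | hjpos
  · have : topologicalKrullDim ↥(π.fiber x) ≤ ⊥ := by
      rw [topologicalKrullDim_fiber_le_iff_forall_maximal]
      intro ζ hζ _
      exact absurd (hcon ζ hζ) (by omega)
    rw [le_bot_iff] at this
    rw [this] at hj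
    exact absurd hj (by simp)
  · have : topologicalKrullDim ↥(π.fiber x) ≤ ((j - 1 : ℕ) : WithBot ℕ∞) := by
      rw [topologicalKrullDim_fiber_le_iff_forall_maximal]
      intro ζ hζ _
      have := hcon ζ hζ
      exact_mod_cast (by omega : resTrdegNat π ζ ≤ j - 1)
    have h2 := hj.trans this
    have h3 : j ≤ j - 1 := by exact_mod_cast h2
    omega

include q in
theorem dim_le_iff_forall_closure_add_le [CompactSpace C] (n : ℕ) :
    topologicalKrullDim C ≤ n ↔
      ∀ j : ℕ, topologicalKrullDim (closure {x : X | (j : WithBot ℕ∞) ≤ topologicalKrullDim (π.fiber x)}) +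
        (j : WithBot ℕ∞) ≤ n := by
  have hpft : LocallyOfFiniteType (π ≫ q) := inferInstance
  have hδC := isDimFun_trdegNat (π ≫ q)
  have hδX := isDimFun_trdegNat q
  have hadd : ∀ c : C, trdegNat (π ≫ q) c = trdegNat q (π c) + resTrdegNat π c :=
    fun c => trdegNat_eq_add (π ≫ q) q π rfl c
  have hLNC : IsLocallyNoetherian C := LocallyOfFiniteType.isLocallyNoetherian (π ≫ q)
  have hNC : IsNoetherian C := ⟨⟩
  constructor
  · intro hdim j
    rw [hδX.topologicalKrullDim_closed_eq_iSup isClosed_closure]
    apply iSup_add_le_withBot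
    rintro ⟨t, ht⟩
    -- the closed set C_j
    let Cj : Set C := {c : C | ¬ FlatMor.fibreDimAt π c < ((j : ℕ) : WithBot ℕ∞)}
    have hCj : IsClosed Cj := by
      have := isOpen_fibreDimAt_lt π j
      exact isClosed_compl_iff.mpr this
    have hBj : {x : X | (j : WithBot ℕ∞) ≤ topologicalKrullDim (π.fiber x)} ⊆
        Set.range (fun w : ↥Cj => π w.1) := by
      intro x hx
      obtain ⟨c, hc, hjc⟩ := exists_resTrdegNat_ge_of_le_dim_fiber π x j hx
      refine ⟨⟨c, ?_⟩, hc⟩
      change ¬ FlatMor.fibreDimAt π c < _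
      rw [not_lt]
      refine le_trans ?_ (resTrdegNat_le_fibreDimAt π c)
      exact_mod_cast hjc
    have ht' : t ∈ closure (Set.range (fun w : ↥Cj => π w.1)) := closure_mono hBj ht
    have : QuasiSober ↥Cj := hCj.isClosedEmbedding_subtypeVal.quasiSober
    obtain ⟨g, hg⟩ := exists_specializes_of_mem_closure_range (fun w : ↥Cj => π w.1)
      (π.continuous.comp continuous_subtype_val) t ht'
    -- estimate
    have h1 : trdegNat q t ≤ trdegNat q (π g.1) := hδX.le_of_specializes hg
    have h2 : ¬ FlatMor.fibreDimAt π g.1 < ((j : ℕ) : WithBot ℕ∞) := g.2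
    rw [not_lt] at h2
    obtain ⟨ζ, hζg, hπζ, -, hζ⟩ := exists_maximal_fiber_resTrdegNat_eq_fibreDimAt π g.1
    rw [hζ] at h2
    have h3 : j ≤ resTrdegNat π ζ := by exact_mod_cast h2
    have h4 : ((trdegNat (π ≫ q) ζ : ℕ∞) : WithBot ℕ∞) ≤ n := by
      refine le_trans ?_ hdim
      rw [hδC.topologicalKrullDim_eq_iSup]
      exact le_iSup (fun c : C => ((trdegNat (π ≫ q) c : ℕ∞) : WithBot ℕ∞)) ζ
    rw [hadd ζ, hπζ] at h4
    have h5 : trdegNat q (π g.1) + resTrdegNat π ζ ≤ n := by exact_mod_cast h4
    have h6 : trdegNat q t + j ≤ n := by omega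
    exact_mod_cast h6
  · intro h
    rw [hδC.topologicalKrullDim_eq_iSup]
    refine iSup_le fun c => ?_
    have hj := h (resTrdegNat π c)
    have hmem : π c ∈ closure {x : X | ((resTrdegNat π c : ℕ) : WithBot ℕ∞) ≤
        topologicalKrullDim (π.fiber x)} :=
      subset_closure (resTrdegNat_le_topologicalKrullDim_fiber π c)
    rw [hδX.topologicalKrullDim_closed_eq_iSup isClosed_closure] at hj
    have h1 := le_iSup (fun t : ↥(closure {x : X | ((resTrdegNat π c : ℕ) : WithBot ℕ∞) ≤
        topologicalKrullDim (π.fiber x)}) => ((trdegNat q t.1 : ℕ∞) : WithBot ℕ∞)) ⟨π c, hmem⟩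
    rw [hadd c]
    refine le_trans ?_ hj
    push_cast
    gcongr
    exact h1

end S14480

end Groth.Agent.Lib.Helper73
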