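import Mathlib
import Groth.Prelude.Def_Cyc
import Groth.Agent.Lib.Helper73.DimFormula.Jacobson

/-!
# Integer valued dimension functions (`Cyc.IsDimFun`) and codimension (helper73)

* `exists_ltSeries_of_intDimFun`, `codim_eq_of_cycIsDimFun`: `codim s s' = δ s - δ s'`.
* `cycIsDimFun_of_deltaCompat` (Stacks 02JW): the induced function on a scheme locally of finite
  type over a universally catenary base with a dimension function is a dimension function.
-/

set_option autoImplicit false
universe u

open AlgebraicGeometry CategoryTheory TopologicalSpace Opposite Order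

namespace Groth.Agent.Lib.Helper73

/-- A strictly monotone integer valued function bounds the length of chains. -/
lemma LTSeries.apply_head_add_length_le_int {α : Type*} [Preorder α] (p : LTSeries α) (f : α → ℤ)
    (hf : ∀ a b : α, a < b → f a < f b) : f p.head + p.length ≤ f p.last := by
  have key : ∀ (n : ℕ) (hn : n < p.length + 1), f p.head + n ≤ f (p ⟨n, hn⟩) := by
    intro n
    induction n with
    | zero => intro hn; simp [RelSeries.head]
    | succ n ih =>
      intro hn
      have h1 := ih (by omega)
      have h2 : p ⟨n, by omega⟩ < p ⟨n + 1, hn⟩ := p.strictMono (by simp [Fin.lt_def])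
      have := hf _ _ h2
      push_cast
      omega
  exact key p.length (by omega)

section IntDimFun

variable {X : Type*} [TopologicalSpace X] [T0Space X]

attribute [local instance] specializationPreorder

/-- Between a point and a specialization of it there is a chain of length the difference of the
values of an integer valued dimension function. -/
lemma exists_ltSeries_of_intDimFun (δ : X → ℤ)
    (hδ : ∀ x y : X, x ⤳ y → x ≠ y →
      δ y < δ x ∧ ((∀ z : X, x ⤳ z → z ⤳ y → z = x ∨ z = y) → δ x = δ y + 1))
    {x y : X} (hxy : x ⤳ y) :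
    ∃ p : LTSeries X, p.head = y ∧ p.last = x ∧ (p.length : ℤ) + δ y = δ x := by
  induction hn : (δ x - δ y).toNat using Nat.strong_induction_on generalizing x y with
  | _ n ih =>
    by_cases e : x = y
    · subst e
      exact ⟨RelSeries.singleton _ x, rfl, rfl, by simp⟩
    · have hlt : y < x := by
        refine lt_of_le_not_ge hxy ?_
        intro h2
        exact e (hxy.antisymm h2).eq
      by_cases himm : ∀ z, x ⤳ z → z ⤳ y → z = x ∨ z = y
      · have h1 := (hδ x y hxy e).2 himm
        refine ⟨(RelSeries.singleton _ y).snoc x hlt, ?_, ?_, ?_⟩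
        · exact RelSeries.head_snoc _ _ _
        · exact RelSeries.last_snoc _ _ _
        · change ((1 : ℕ) : ℤ) + δ y = δ x
          push_cast; omega
      · push Not at himm
        obtain ⟨z, hxz, hzy, hzx, hzy'⟩ := himm
        have hlt1 := (hδ x z hxz (Ne.symm hzx)).1
        have hlt2 := (hδ z y hzy hzy').1
        obtain ⟨p, hp1, hp2, hp3⟩ := ih (δ z - δ y).toNat (by omega) hzy rfl
        obtain ⟨q, hq1, hq2, hq3⟩ := ih (δ x - δ z).toNat (by omega) hxz rfl
        refine ⟨p.smash q (hp2.trans hq1.symm), ?_, ?_, ?_⟩
        · simp [hp1]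
        · simp [hq2]
        · simp; omega

end IntDimFun

section CycDimFun

variable {S : Scheme.{u}} (δ : S → ℤ) (hδ : Cyc.IsDimFun S δ)
include hδ

lemma cyc_lt_of_lt {a b : S} (hab : a < b) : δ a < δ b := by
  have h1 : b ⤳ a := hab.le
  refine (hδ b a h1 ?_).1
  rintro rfl
  exact lt_irrefl _ hab

lemma cyc_le_of_specializes {s s' : S} (h : s ⤳ s') : δ s' ≤ δ s := by
  by_cases e : s = s'
  · subst e; exact le_rfl
  · exact ((hδ s s' h e).1).le

/-- On a scheme with a dimension function `δ`, `codim s s' = δ s - δ s'`. -/
theorem codim_eq_of_cycIsDimFun (s s' : S) (h : s ⤳ s') :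
    codim s s' = (((δ s - δ s').toNat : ℕ) : WithBot ℕ∞) := by
  have hle := cyc_le_of_specializes δ hδ h
  unfold codim
  apply le_antisymm
  · have : Nonempty (Set.Icc s' s) := ⟨⟨s', le_refl _, h⟩⟩
    rw [Order.krullDim_eq_iSup_length]
    refine WithBot.coe_le_coe.mpr (iSup_le fun p => ?_)
    have h1 := LTSeries.apply_head_add_length_le_int p (fun t => δ t.1)
      (fun a b hab => cyc_lt_of_lt δ hδ hab)
    have h2 : δ s' ≤ δ p.head.1 := cyc_le_of_specializes δ hδ p.head.2.1
    have h3 : δ p.last.1 ≤ δ s := cyc_le_of_specializes δ hδ p.last.2.2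
    have : p.length ≤ (δ s - δ s').toNat := by
      simp only at h1
      omega
    exact_mod_cast this
  · obtain ⟨p, hp1, hp2, hp3⟩ := exists_ltSeries_of_intDimFun δ hδ h
    let p' : LTSeries (Set.Icc s' s) :=
      LTSeries.mk p.length (fun i => ⟨p i, by rw [← hp1]; exact LTSeries.head_le p i,
        by rw [← hp2]; exact p.monotone (Fin.le_last i)⟩) (fun i j hij => p.strictMono hij)
    have := p'.length_le_krullDim
    have e : (δ s - δ s').toNat = p'.length := by
      change _ = p.length
      omega
    rw [e]
    exact this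

end CycDimFun

/-- The function induced by a dimension function on a scheme locally of finite type over a
locally Noetherian base with universally catenary local rings is a dimension function
(Stacks 02JW). -/
theorem cycIsDimFun_of_deltaCompat {X S : Scheme.{u}} (f : X ⟶ S)
    [LocallyOfFiniteType f] (δ : ↥S → ℤ) (hS : Cyc.IsSetup S δ) (δX : ↥X → ℤ)
    (hδ : Cyc.DeltaCompat f δX δ) : Cyc.IsDimFun X δX := by
  obtain ⟨hLN, hcat, hdim⟩ := hS
  have key : ∀ x y : X, x ⤳ y → ∃ a : ℕ, codim x y = a ∧ δX x = δX y + a := by
    intro x y hxy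
    obtain ⟨a, b, ha, hb, he⟩ := codim_add_resTrdeg_eq f hcat x y hxy
    have hfxy : f x ⤳ f y := hxy.map f.continuous
    have hb' := codim_eq_of_cycIsDimFun δ hdim (f x) (f y) hfxy
    have hle := cyc_le_of_specializes δ hdim hfxy
    rw [hb] at hb'
    have hb'' : b = (δ (f x) - δ (f y)).toNat := by exact_mod_cast hb'
    obtain ⟨n, hn, hδx⟩ := hδ x
    obtain ⟨m, hm, hδy⟩ := hδ y
    have hn' : resTrdeg f x = n := hn
    have hm' : resTrdeg f y = m := hm
    rw [hn', hm'] at he
    have he' : a + m = b + n := by exact_mod_cast he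
    refine ⟨a, ha, ?_⟩
    rw [hδx, hδy]
    omega
  intro x y hxy hne
  obtain ⟨a, ha, he⟩ := key x y hxy
  constructor
  · have h1 := one_le_codim x y hxy hne
    rw [ha] at h1
    have : 1 ≤ a := by exact_mod_cast h1
    omega
  · intro himm
    have h1 := codim_eq_one_of_immediate x y hxy hne himm
    rw [ha] at h1
    have : a = 1 := by exact_mod_cast h1
    rw [he, this]; rfl

end Groth.Agent.Lib.Helper73
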