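import Groth.Agent.Lib.Helper73.DimFormula.FiberDimAdd
import Groth.Agent.Lib.Helper73.DimFormula.CycDim

/-!
# Relative dimension of flat morphisms over a base with a dimension function (helper73)

* `codim_genericPoint_eq`, `cyc_hasRelDim_of_flat`.
-/

set_option autoImplicit false
open CategoryTheory AlgebraicGeometry TopologicalSpace Topology Limits
universe u

namespace Groth.Agent.Lib.Helper73

/-- In an irreducible scheme, the codimension of a point below the generic point is the dimension
of its local ring. -/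
theorem codim_genericPoint_eq {X : Scheme.{u}} [IrreducibleSpace X] (ζ : X) :
    codim (genericPoint X) ζ = ringKrullDim (X.presheaf.stalk ζ) := by
  rw [ringKrullDim_stalk_eq_coheight, Order.coheight_eq_krullDim_Ici]
  unfold codim
  have : Set.Icc ζ (genericPoint X) = Set.Ici ζ := by
    ext t
    simp only [Set.mem_Icc, Set.mem_Ici, and_iff_left_iff_imp]
    intro _
    exact (genericPoint_spec X).specializes (Set.mem_univ t)
  rw [this]

theorem cyc_hasRelDim_of_flat {X Y : Scheme.{u}} (f : X ⟶ Y) [Flat f] [LocallyOfFiniteType f]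
    [IrreducibleSpace X] [IrreducibleSpace Y] (δX : X → ℤ) (δY : Y → ℤ) (hY : Cyc.IsSetup Y δY)
    (hδ : Cyc.DeltaCompat f δX δY) :
    0 ≤ δX (genericPoint X) - δY (genericPoint Y) ∧
      Cyc.HasRelDim f (δX (genericPoint X) - δY (genericPoint Y)).toNat ∧
      ∀ x : X, topologicalKrullDim ↥(f.fiber (f x)) =
        ((δX (genericPoint X) - δY (genericPoint Y)).toNat : WithBot ℕ∞) := by
  have hLNY : IsLocallyNoetherian Y := hY.1
  have hLNX : IsLocallyNoetherian X := LocallyOfFiniteType.isLocallyNoetherian f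
  have hdX : Cyc.IsDimFun X δX := cycIsDimFun_of_deltaCompat f δY hY δX hδ
  have hdY : Cyc.IsDimFun Y δY := hY.2.2
  set ξ := genericPoint X with hξ
  set η := genericPoint Y with hη
  have hξgen : ∀ t : X, ξ ⤳ t := fun t => (genericPoint_spec X).specializes (Set.mem_univ t)
  have hηgen : ∀ t : Y, η ⤳ t := fun t => (genericPoint_spec Y).specializes (Set.mem_univ t)
  have hξmax : ∀ t : X, t ⤳ ξ → t = ξ := fun t ht => (ht.antisymm (hξgen t)).eq
  -- f ξ = η
  have hfξ : f ξ = η := by
    obtain ⟨t, ht, hft⟩ := Flat.generalizingMap f (hηgen (f ξ))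
    rw [← hft, hξmax t ht]
  -- resTrdeg in terms of δ
  have hres : ∀ x : X, δX x = δY (f x) + resTrdegNat f x := by
    intro x
    obtain ⟨n, hn, hx⟩ := hδ x
    have h1 : resTrdeg f x = (n : Cardinal.{u}) := hn
    rw [resTrdeg_eq_resTrdegNat] at h1
    have : resTrdegNat f x = n := by exact_mod_cast h1
    rw [hx, this]
  have hd : δX ξ - δY η = resTrdegNat f ξ := by
    rw [hres ξ, hfξ]; ring
  -- the key computation
  have key : ∀ ζ : X, (∀ t : X, t ⤳ ζ → f t = f ζ → t = ζ) → resTrdegNat f ζ = resTrdegNat f ξ := by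
    intro ζ hζmax
    have h1 := codim_eq_of_cycIsDimFun δX hdX ξ ζ (hξgen ζ)
    have h2 := codim_eq_of_cycIsDimFun δY hdY η (f ζ) (hηgen (f ζ))
    rw [codim_genericPoint_eq] at h1 h2
    have h3 := Groth.Agent.Lib.Helper67.FiberStalk.ringKrullDim_stalk_eq_add f ζ (Flat.stalkMap f ζ)
    have h4 : ringKrullDim (CInt.fiberStalk f ζ) = 0 :=
      ringKrullDim_fiber_stalk_eq_zero_of_maximal f ζ hζmax
    rw [h4, add_zero, h1, h2] at h3
    have h5 : (δX ξ - δX ζ).toNat = (δY η - δY (f ζ)).toNat := by exact_mod_cast h3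
    have h6 := cyc_le_of_specializes δX hdX (hξgen ζ)
    have h7 := cyc_le_of_specializes δY hdY (hηgen (f ζ))
    have h8 := hres ζ
    have h9 := hres ξ
    rw [hfξ] at h9
    omega
  rw [hd]
  refine ⟨by positivity, ?_, ?_⟩
  · rw [Int.toNat_natCast, hasRelDim_iff_forall_maximal]
    exact key
  · intro x
    rw [Int.toNat_natCast]
    apply le_antisymm
    · rw [topologicalKrullDim_fiber_le_iff_forall_maximal]
      intro ζ _ hζmax
      rw [key ζ hζmax]
    · obtain ⟨ζ, -, hfζ, hζmax, -⟩ := exists_maximal_fiber_resTrdegNat_eq_fibreDimAt f x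
      have := resTrdegNat_le_topologicalKrullDim_fiber f ζ
      rw [key ζ hζmax, hfζ] at this
      exact this

end Groth.Agent.Lib.Helper73
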