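import Mathlib
import Groth.Prelude.Def_Cyc
import Groth.Agent.Lib.Helper73.DimFormula.CycDim

/-!
# Dimension functions on Jacobson schemes, local rings of closures (helper73)

* `ringKrullDim_locQuot_eq_codim`: `dim O_{X,z}/𝔭_ξ = codim ξ z`.
* `isDimFun_toNat_of_jacobson`, `delta_eq_dim_closure_of_jacobson`.
-/

set_option autoImplicit false
universe u

open AlgebraicGeometry CategoryTheory TopologicalSpace Opposite Order

namespace Groth.Agent.Lib.Helper73

set_option backward.isDefEq.respectTransparency.types false in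
/-- The dimension of the local ring at `z` of the closure of `ξ` is the codimension of `z` in the
closure of `ξ`. -/
theorem ringKrullDim_locQuot_eq_codim {X : Scheme.{u}} (z ξ : X) (h : ξ ⤳ z) :
    ringKrullDim (Cyc.LocQuot z ξ h) = codim ξ z := by
  let R := X.presheaf.stalk z
  let K : Ideal R := RingHom.ker (Cyc.specMap z ξ h)
  have hKprime : K.IsPrime := RingHom.ker_isPrime _
  let Kp : PrimeSpectrum R := ⟨K, hKprime⟩
  let M : PrimeSpectrum R := IsLocalRing.closedPoint R
  have hset : PrimeSpectrum.zeroLocus (K : Set R) = Set.Icc Kp M := by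
    ext P
    simp only [PrimeSpectrum.mem_zeroLocus, SetLike.coe_subset_coe, Set.mem_Icc]
    constructor
    · intro hP
      exact ⟨hP, IsLocalRing.le_maximalIdeal P.2.ne_top⟩
    · intro hP
      exact hP.1
  have e1 : ringKrullDim (Cyc.LocQuot z ξ h) = Order.krullDim (Set.Icc Kp M) := by
    rw [← hset]
    exact Order.krullDim_eq_of_orderIso (Ideal.primeSpectrumQuotientOrderIsoZeroLocus K)
  rw [e1]
  let e : PrimeSpectrum R → X := fun P => X.fromSpecStalk z P
  have he : ∀ a a', e a ≤ e a' ↔ a' ≤ a := by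
    intro a a'
    change X.fromSpecStalk z a' ⤳ X.fromSpecStalk z a ↔ a' ≤ a
    rw [(X.fromSpecStalk z).isEmbedding.isInducing.specializes_iff]
    exact (PrimeSpectrum.le_iff_specializes a' a).symm
  have hM : e M = z := Scheme.fromSpecStalk_closedPoint
  have hK : e Kp = ξ := by
    have h1 := Scheme.SpecMap_stalkSpecializes_fromSpecStalk h
    have h2 : (Spec.map (X.presheaf.stalkSpecializes h) ≫ X.fromSpecStalk z)
        (IsLocalRing.closedPoint (X.presheaf.stalk ξ)) = ξ := by
      rw [h1]; exact Scheme.fromSpecStalk_closedPoint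
    rw [Scheme.Hom.comp_apply] at h2
    have h3 : (Spec.map (X.presheaf.stalkSpecializes h))
        (IsLocalRing.closedPoint (X.presheaf.stalk ξ)) = Kp := by
      apply PrimeSpectrum.ext
      change Ideal.comap (X.presheaf.stalkSpecializes h).hom
        (IsLocalRing.maximalIdeal (X.presheaf.stalk ξ)) = K
      rw [← IsLocalRing.ker_residue]
      rfl
    rw [h3] at h2
    exact h2
  have key := krullDim_Icc_eq_of_antitone e he Kp M (by
    intro t ht1 _
    rw [hM] at ht1
    have : t ∈ Set.range (X.fromSpecStalk z) := by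
      rw [Scheme.range_fromSpecStalk]; exact ht1
    obtain ⟨w, hw⟩ := this
    exact ⟨w, hw⟩)
  rw [hM, hK] at key
  exact key.symm

section

variable (X : Scheme.{u}) [JacobsonSpace X] (δ : X → ℤ) (hδ : Cyc.IsDimFun X δ)
  (h0 : ∀ x : X, IsClosed ({x} : Set X) → δ x = 0)
include hδ h0

lemma cyc_nonneg_of_jacobson (ξ : X) : 0 ≤ δ ξ := by
  obtain ⟨z, hz, hξz⟩ := exists_isClosed_specializes ξ
  have := cyc_le_of_specializes δ hδ hξz
  rw [h0 z hz] at this
  exact this

/-- On a Jacobson scheme, an integer valued dimension function vanishing at the closed points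
gives a dimension function in the sense of `IsDimFun`. -/
theorem isDimFun_toNat_of_jacobson : IsDimFun (fun x : X => (δ x).toNat) where
  lt_of_specializes := by
    intro x y hxy hne
    have h1 := (hδ x y hxy hne).1
    have h2 := cyc_nonneg_of_jacobson X δ hδ h0 y
    change (δ y).toNat < (δ x).toNat
    omega
  eq_add_one_of_immediate := by
    intro x y hxy hne himm
    have h1 := (hδ x y hxy hne).2 himm
    have h2 := cyc_nonneg_of_jacobson X δ hδ h0 y
    change (δ x).toNat = (δ y).toNat + 1
    omega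
  exists_specializes_of_ne_zero := by
    intro x W hW hxW hne
    obtain ⟨y, ⟨hy1, hy2⟩, hy3⟩ := nonempty_inter_closedPoints (X := X) (Z := closure {x} ∩ W)
      ⟨x, subset_closure rfl, hxW⟩ (isClosed_closure.isLocallyClosed.inter hW.isLocallyClosed)
    refine ⟨y, hy2, specializes_iff_mem_closure.mpr hy1, ?_⟩
    rintro rfl
    apply hne
    rw [h0 y hy3]; rfl

end

/-- Stacks 02QO-like: on a Jacobson scheme with a dimension function vanishing at closed points,
`δ ξ` is the dimension of the closure of `ξ` and of its local rings at closed points. -/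
theorem delta_eq_dim_closure_of_jacobson (X : Scheme.{u}) [JacobsonSpace X] (δ : X → ℤ)
    (hX : Cyc.IsSetup X δ) (h0 : ∀ x : X, IsClosed ({x} : Set X) → δ x = 0) (ξ : X) :
    (topologicalKrullDim ↥(closure ({ξ} : Set X)) = ((δ ξ).toNat : WithBot ℕ∞) ∧ 0 ≤ δ ξ) ∧
      ∀ (z : X) (h : ξ ⤳ z), IsClosed ({z} : Set X) →
        ringKrullDim (Cyc.LocQuot z ξ h) = ((δ ξ).toNat : WithBot ℕ∞) := by
  obtain ⟨-, -, hdim⟩ := hX
  refine ⟨⟨?_, cyc_nonneg_of_jacobson X δ hdim h0 ξ⟩, ?_⟩
  · have := (isDimFun_toNat_of_jacobson X δ hdim h0).topologicalKrullDim_closure_singleton ξ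
    rw [this]; rfl
  · intro z h hz
    rw [ringKrullDim_locQuot_eq_codim, codim_eq_of_cycIsDimFun δ hdim ξ z h, h0 z hz, sub_zero]

end Groth.Agent.Lib.Helper73
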