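import Groth.Agent.Lib.Helper73.DimFormula.GenericFibre
import Mathlib.RingTheory.NoetherNormalization

/-!
# Invariance of dimensions under extension of the base field (helper73)

* `IsDimFun.le_of_generalizingMap_of_isOpenMap`, `IsDimFun.eq_of_maximal`,
  `IsDimFun.coheight_add_eq_of_generalizingMap`: comparison of dimension functions along an open
  generalizing map which does not increase them.
* `ringKrullDim_le_of_isIntegral`, `ringKrullDim_quotient_le_of_adjoin_eq_top`,
  `quotDim_le_of_adjoin_eq_top`: if `A'` is generated over `K` by the image of the finite type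
  `k`-algebra `A` then `dim A'/P ≤ dim A/(P ∩ A)`.
* `localDim_primeSpectrum_eq_of_adjoin_eq_top`: invariance of the local dimension.
* `includeRight_algebraMap`, `adjoin_range_includeRight_eq_top`,
  `generalizingMap_comap_includeRight`, `isOpenMap_comap_includeRight` for `S → K ⊗[k] S`.
-/

set_option autoImplicit false
open TopologicalSpace Topology Order TensorProduct
universe u

namespace Groth.Agent.Lib.Helper73

namespace IsDimFun

attribute [local instance] specializationPreorder

/-- Comparison of dimension functions along an open generalizing map, at the generic point of an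
open set. -/
lemma le_of_generalizingMap_of_isOpenMap {X X' : Type*} [TopologicalSpace X]
    [TopologicalSpace X'] {δ : X → ℕ} {δ' : X' → ℕ} (h : IsDimFun δ) (h' : IsDimFun δ')
    (π : X' → X) (hgen : GeneralizingMap π) (hopen : IsOpenMap π) (ζ' : X') (W : Set X')
    (hW : IsOpen W) (hζ'W : ζ' ∈ W) (hWgen : ∀ w ∈ W, ζ' ⤳ w) : δ (π ζ') ≤ δ' ζ' := by
  obtain ⟨x, hxW, hζx, hx0⟩ := h.exists_specializes_zero (hopen W hW) (x := π ζ') ⟨ζ', hζ'W, rfl⟩
  obtain ⟨x', hx'W, rfl⟩ := hxW
  obtain ⟨p, hp1, hp2, hp3⟩ := h.exists_ltSeries hζx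
  have key : ∀ (n : ℕ) (hn : n < p.length + 1), ∃ t' : X', π t' = p ⟨n, hn⟩ ∧ t' ⤳ x' ∧
      n ≤ δ' t' := by
    intro n
    induction n with
    | zero =>
      intro hn
      exact ⟨x', hp1.symm, specializes_rfl, Nat.zero_le _⟩
    | succ n ih =>
      intro hn
      obtain ⟨t', ht'1, ht'2, ht'3⟩ := ih (by omega)
      have hlt : p ⟨n, by omega⟩ < p ⟨n + 1, hn⟩ := p.strictMono (by simp [Fin.lt_def])
      have hsp : p ⟨n + 1, hn⟩ ⤳ π t' := by rw [ht'1]; exact hlt.le
      obtain ⟨t'', ht''1, ht''2⟩ := hgen hsp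
      refine ⟨t'', ht''2, ht''1.trans ht'2, ?_⟩
      have hne : t'' ≠ t' := by
        intro e
        rw [e, ht'1] at ht''2
        exact absurd ht''2 hlt.ne
      have := h'.lt_of_specializes ht''1 hne
      omega
  obtain ⟨t', ht'1, ht'2, ht'3⟩ := key p.length (by omega)
  have ht'W : t' ∈ W := ht'2.mem_open hW hx'W
  have h1 := h'.le_of_specializes (hWgen t' ht'W)
  omega

end IsDimFun

/-- Integral ring homomorphisms do not increase the Krull dimension. -/
theorem ringKrullDim_le_of_isIntegral {R S : Type*} [CommRing R] [CommRing S] (f : R →+* S)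
    (hf : f.IsIntegral) : ringKrullDim S ≤ ringKrullDim R := by
  let _ := f.toAlgebra
  have : Algebra.IsIntegral R S := ⟨hf⟩
  refine Order.krullDim_le_of_strictMono (PrimeSpectrum.comap (algebraMap R S)) ?_
  intro P Q hPQ
  exact Ideal.IsIntegral.comap_lt_comap (R := R) (I := P.asIdeal) (J := Q.asIdeal) hPQ

/-- Let `A` be a finite type `k`-algebra and `A'` a finite type `K`-algebra generated over `K` by
the image of a ring homomorphism `A → A'` compatible with a field homomorphism `k → K` (e.g.
`A' = K ⊗[k] A`). Then for every prime `P` of `A'`, `dim A'/P ≤ dim A/(P ∩ A)`. -/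
theorem ringKrullDim_quotient_le_of_adjoin_eq_top {k K : Type*} [Field k] [Field K] (ι : k →+* K)
    {A A' : Type*} [CommRing A] [CommRing A'] [Algebra k A] [Algebra.FiniteType k A]
    [Algebra K A'] (φ : A →+* A')
    (hφ : ∀ c : k, φ (algebraMap k A c) = algebraMap K A' (ι c))
    (hgen : Algebra.adjoin K (Set.range φ) = ⊤) (P : Ideal A') [P.IsPrime] :
    ringKrullDim (A' ⧸ P) ≤ ringKrullDim (A ⧸ P.comap φ) := by
  let φb : A ⧸ P.comap φ →+* A' ⧸ P := Ideal.quotientMap P φ le_rfl
  obtain ⟨e, g, hinj, hfin⟩ := exists_finite_inj_algHom_of_fg k (A ⧸ P.comap φ)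
  rw [ringKrullDim_eq_of_finite_injective g hinj hfin]
  let g' : MvPolynomial (Fin e) K →ₐ[K] A' ⧸ P :=
    MvPolynomial.aeval (fun i => φb (g (MvPolynomial.X i)))
  have hcompat : g'.toRingHom.comp (MvPolynomial.map ι) = φb.comp g.toRingHom := by
    apply MvPolynomial.ringHom_ext
    · intro c
      simp only [RingHom.comp_apply, MvPolynomial.map_C]
      change g' (MvPolynomial.C (ι c)) = φb (g (MvPolynomial.C c))
      rw [← MvPolynomial.algebraMap_eq, ← MvPolynomial.algebraMap_eq, AlgHom.commutes,
        AlgHom.commutes]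
      change _ = φb (Ideal.Quotient.mk _ (algebraMap k A c))
      rw [Ideal.quotientMap_mk, hφ]
      rfl
    · intro i
      simp only [RingHom.comp_apply, MvPolynomial.map_X]
      change g' (MvPolynomial.X i) = φb (g (MvPolynomial.X i))
      simp [g']
  have hint : g'.toRingHom.IsIntegral := by
    let _ : Algebra (MvPolynomial (Fin e) K) (A' ⧸ P) := g'.toRingHom.toAlgebra
    let _ : Algebra (MvPolynomial (Fin e) k) (A ⧸ P.comap φ) := g.toRingHom.toAlgebra
    have hst : IsScalarTower K (MvPolynomial (Fin e) K) (A' ⧸ P) :=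
      IsScalarTower.of_algebraMap_eq fun x => (g'.commutes x).symm
    let Sint : Subalgebra K (A' ⧸ P) :=
      (integralClosure (MvPolynomial (Fin e) K) (A' ⧸ P)).restrictScalars K
    have hrange : Set.range (Ideal.Quotient.mk P ∘ φ) ⊆ (Sint : Set (A' ⧸ P)) := by
      rintro _ ⟨a, rfl⟩
      have ha : IsIntegral (MvPolynomial (Fin e) k) (Ideal.Quotient.mk (P.comap φ) a) :=
        hfin.to_isIntegral _
      have := IsIntegral.map_of_comp_eq (MvPolynomial.map ι) φb hcompat ha
      rw [Ideal.quotientMap_mk] at this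
      exact this
    have htop : Algebra.adjoin K (Set.range (Ideal.Quotient.mk P ∘ φ)) = ⊤ := by
      rw [Set.range_comp]
      have h1 : Algebra.adjoin K ((Ideal.Quotient.mkₐ K P) '' Set.range φ) =
          (Algebra.adjoin K (Set.range φ)).map (Ideal.Quotient.mkₐ K P) :=
        (AlgHom.map_adjoin _ _).symm
      change Algebra.adjoin K ((Ideal.Quotient.mkₐ K P) '' Set.range φ) = ⊤
      rw [h1, hgen, Algebra.map_top, AlgHom.range_eq_top]
      exact Ideal.Quotient.mkₐ_surjective K P
    have hle : (⊤ : Subalgebra K (A' ⧸ P)) ≤ Sint := by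
      rw [← htop]
      exact Algebra.adjoin_le hrange
    intro b
    exact hle (Algebra.mem_top (x := b))
  have := ringKrullDim_le_of_isIntegral g'.toRingHom hint
  rwa [ringKrullDim_mvPolynomial_field] at this

namespace IsDimFun

section Compare

attribute [local instance] specializationPreorder

variable {X X' : Type*} [TopologicalSpace X] [TopologicalSpace X'] {δ : X → ℕ} {δ' : X' → ℕ}
  (h : IsDimFun δ) (h' : IsDimFun δ') (π : X' → X)

/-- A generalizing map sends points without proper generizations to such points. -/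
lemma maximal_map_of_generalizingMap {X X' : Type*} [TopologicalSpace X] [TopologicalSpace X']
    (π : X' → X) (hgen : GeneralizingMap π) (ζ' : X')
    (hmax : ∀ t : X', t ⤳ ζ' → t = ζ') : ∀ t : X, t ⤳ π ζ' → t = π ζ' := by
  intro t ht
  obtain ⟨t', ht'1, ht'2⟩ := hgen ht
  rw [← ht'2, hmax t' ht'1]

include h h' in
/-- Along an open generalizing map which does not increase a dimension function, the dimension
function is preserved at points without proper generizations. -/
lemma eq_of_maximal (hgen : GeneralizingMap π) (hopen : IsOpenMap π)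
    (hle : ∀ x' : X', δ' x' ≤ δ (π x'))
    (hloc : ∀ x' : X', ∃ W : Set X', IsOpen W ∧ x' ∈ W ∧ ∀ w ∈ W, ∃ η : X', η ⤳ w ∧ η ⤳ x')
    (ζ' : X') (hmax : ∀ t : X', t ⤳ ζ' → t = ζ') : δ' ζ' = δ (π ζ') := by
  apply le_antisymm (hle ζ')
  obtain ⟨W, hW, hζ'W, hWgen⟩ := hloc ζ'
  apply h.le_of_generalizingMap_of_isOpenMap h' π hgen hopen ζ' W hW hζ'W
  intro w hw
  obtain ⟨η, h1, h2⟩ := hWgen w hw
  rw [hmax η h2] at h1
  exact h1

include h h' in
/-- Along a continuous open generalizing map which does not increase a dimension function, the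
local dimension (coheight plus dimension function) is preserved. -/
lemma coheight_add_eq_of_generalizingMap [QuasiSober X'] (hcont : Continuous π)
    (hgen : GeneralizingMap π) (hopen : IsOpenMap π) (hle : ∀ x' : X', δ' x' ≤ δ (π x'))
    (hloc : ∀ x' : X', ∃ W : Set X', IsOpen W ∧ x' ∈ W ∧ ∀ w ∈ W, ∃ η : X', η ⤳ w ∧ η ⤳ x')
    (x' : X') :
    (Order.coheight x' + δ' x' : ℕ∞) = Order.coheight (π x') + δ (π x') := by
  have : T0Space X' := h'.t0Space
  apply le_antisymm
  · apply h'.coheight_add_le
    intro η' hη'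
    calc (δ' η' : ℕ∞) ≤ (δ (π η') : ℕ∞) := by exact_mod_cast hle η'
      _ ≤ Order.coheight (π x') + δ (π x') := h.le_coheight_add (hη'.map hcont)
  · apply h.coheight_add_le
    intro η hη
    obtain ⟨η', hη'1, hη'2⟩ := hgen hη
    obtain ⟨ζ', hζ'1, hζ'max⟩ := exists_maximal_specializes η'
    have h1 : δ' ζ' = δ (π ζ') := eq_of_maximal h h' π hgen hopen hle hloc ζ' hζ'max
    have h2 : π ζ' ⤳ η := by rw [← hη'2]; exact hζ'1.map hcont
    calc (δ η : ℕ∞) ≤ (δ (π ζ') : ℕ∞) := by exact_mod_cast h.le_of_specializes h2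
      _ = (δ' ζ' : ℕ∞) := by rw [h1]
      _ ≤ Order.coheight x' + δ' x' := h'.le_coheight_add (hζ'1.trans hη'1)

end Compare

end IsDimFun

section Abs

variable {k K : Type*} [Field k] [Field K] (ι : k →+* K)
    {A A' : Type*} [CommRing A] [CommRing A'] [Algebra k A] [Algebra.FiniteType k A]
    [Algebra K A'] [Algebra.FiniteType K A'] (φ : A →+* A')
    (hφ : ∀ c : k, φ (algebraMap k A c) = algebraMap K A' (ι c))
    (hgen : Algebra.adjoin K (Set.range φ) = ⊤)

include hφ hgen in
theorem quotDim_le_of_adjoin_eq_top (P : PrimeSpectrum A') :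
    quotDim P ≤ quotDim (PrimeSpectrum.comap φ P) := by
  have h1 := ringKrullDim_quotient_le_of_adjoin_eq_top ι φ hφ hgen P.asIdeal
  rw [← coe_quotDim K P] at h1
  have h2 := coe_quotDim k (PrimeSpectrum.comap φ P)
  change _ = ringKrullDim (A ⧸ P.asIdeal.comap φ) at h2
  rw [← h2] at h1
  exact_mod_cast h1

include hφ hgen in
/-- Invariance of the local dimension under extension of the base field, abstract form. -/
theorem localDim_primeSpectrum_eq_of_adjoin_eq_top
    (hG : GeneralizingMap (PrimeSpectrum.comap φ)) (hO : IsOpenMap (PrimeSpectrum.comap φ))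
    (P : PrimeSpectrum A') :
    FlatMor.localDim (PrimeSpectrum A') P =
      FlatMor.localDim (PrimeSpectrum A) (PrimeSpectrum.comap φ P) := by
  have : IsNoetherianRing A' := Algebra.FiniteType.isNoetherianRing K A'
  rw [localDim_primeSpectrum_eq K P, localDim_primeSpectrum_eq k (PrimeSpectrum.comap φ P),
    ← coheight_specialization_eq_height, ← coheight_specialization_eq_height]
  congr 1
  exact (isDimFun_quotDim k (A := A)).coheight_add_eq_of_generalizingMap
    (isDimFun_quotDim K (A := A')) (PrimeSpectrum.comap φ) (PrimeSpectrum.continuous_comap φ)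
    hG hO
    (quotDim_le_of_adjoin_eq_top ι φ hφ hgen) (fun x' => exists_open_forall_exists_generic x') P

end Abs

section Tensor

variable {k S K : Type u} [Field k] [CommRing S] [Algebra k S] [Field K] [Algebra k K]

lemma includeRight_algebraMap (c : k) :
    (Algebra.TensorProduct.includeRight.toRingHom : S →+* K ⊗[k] S) (algebraMap k S c) =
      algebraMap K (K ⊗[k] S) (algebraMap k K c) := by
  change (1 : K) ⊗ₜ[k] (algebraMap k S c) = _
  rw [Algebra.TensorProduct.algebraMap_apply, Algebra.algebraMap_eq_smul_one,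
    TensorProduct.tmul_smul, TensorProduct.smul_tmul']
  congr 1
  rw [Algebra.smul_def, mul_one]
  rfl

lemma adjoin_range_includeRight_eq_top :
    Algebra.adjoin K (Set.range (Algebra.TensorProduct.includeRight.toRingHom : S →+* K ⊗[k] S)) =
      ⊤ := by
  have := Algebra.TensorProduct.adjoin_one_tmul_image_eq_top (R := k) (A := K) (B := S)
    Set.univ (Algebra.adjoin_univ k S)
  rw [Set.image_univ] at this
  exact this

lemma generalizingMap_comap_includeRight :
    GeneralizingMap (PrimeSpectrum.comap
      (Algebra.TensorProduct.includeRight.toRingHom : S →+* K ⊗[k] S)) := by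
  apply RingHom.Flat.generalizingMap_comap
  let _ : Algebra S (K ⊗[k] S) := Algebra.TensorProduct.rightAlgebra
  have h1 : Algebra.IsPushout k S K (K ⊗[k] S) := TensorProduct.isPushout'
  have h2 : Module.Flat S (K ⊗[k] S) := Module.Flat.isBaseChange (R := k) (M := K) (S := S) _ h1.out
  exact h2

lemma isOpenMap_comap_includeRight :
    IsOpenMap (PrimeSpectrum.comap
      (Algebra.TensorProduct.includeRight.toRingHom : S →+* K ⊗[k] S)) := by
  have h1 : (Algebra.TensorProduct.includeRight.toRingHom : S →+* K ⊗[k] S) =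
      ((Algebra.TensorProduct.comm k S K : S ⊗[k] K ≃ₐ[k] K ⊗[k] S) : S ⊗[k] K →+* K ⊗[k] S).comp
        (algebraMap S (S ⊗[k] K)) := by
    ext s
    simp
  rw [h1, PrimeSpectrum.comap_comp]
  apply IsOpenMap.comp
  · exact PrimeSpectrum.isOpenMap_comap_algebraMap_tensorProduct_of_field
  · exact (PrimeSpectrum.homeomorphOfRingEquiv
      ((Algebra.TensorProduct.comm k S K : S ⊗[k] K ≃ₐ[k] K ⊗[k] S) : S ⊗[k] K ≃+* K ⊗[k] S)).symm.isOpenMap

end Tensor

end Groth.Agent.Lib.Helper73
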