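import Groth.Agent.Lib.Helper73.DimFormula.GenericLocus

/-!
# The dimension inequality for pairs of points, and consequences (helper73)

* `dimFormula_le_pair`, `codim_add_resTrdeg_le`: for `x ⤳ x'`,
  `codim(x, x') + trdeg κ(x')/κ(f x') ≤ codim(f x, f x') + trdeg κ(x)/κ(f x)`.
* `exists_maximal_over_genericPoint'`: version of `exists_maximal_over_genericPoint` without the
  universally catenary hypothesis (uses Chevalley semicontinuity instead).
* `topologicalKrullDim_closure_inter_fiber`: `dim (closure {ξ} ∩ f⁻¹(f ξ)) = trdeg κ(ξ)/κ(f ξ)`.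
* `maximal_of_ringKrullDim_fiber_stalk_eq_zero`.
-/

set_option autoImplicit false
universe u

open AlgebraicGeometry CategoryTheory TopologicalSpace Opposite Order

namespace Groth.Agent.Lib.Helper73

/-- The dimension inequality for a pair of primes `q ≤ q'` of a finite type algebra over a
Noetherian ring `A`. -/
theorem dimFormula_le_pair {A B : Type u} [CommRing A] [CommRing B] [Algebra A B]
    [IsNoetherianRing A] [Algebra.FiniteType A B] (q q' : Ideal B) [q.IsPrime]
    [q'.IsPrime] (hqq' : q ≤ q') (p' : Ideal A) [p'.IsPrime] [q'.LiesOver p'] :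
    ((q'.map (Ideal.Quotient.mk q)).height : Cardinal.{u}) + Algebra.trdeg (A ⧸ p') (B ⧸ q') ≤
      ((p'.map (Ideal.Quotient.mk (q.under A))).height : Cardinal.{u}) +
        Algebra.trdeg (A ⧸ q.under A) (B ⧸ q) := by
  have hB : IsNoetherianRing B := Algebra.FiniteType.isNoetherianRing A B
  let p0 : Ideal A := q.under A
  have hp0p : p0.IsPrime := inferInstance
  have hp0p' : p0 ≤ p' := by
    rw [q'.over_def p']
    exact Ideal.comap_mono hqq'
  have hp' : (p'.map (Ideal.Quotient.mk p0)).IsPrime :=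
    Ideal.isPrime_map_quotientMk_of_isPrime hp0p'
  have hq' : (q'.map (Ideal.Quotient.mk q)).IsPrime :=
    Ideal.isPrime_map_quotientMk_of_isPrime hqq'
  have hlo : (q'.map (Ideal.Quotient.mk q)).LiesOver (p'.map (Ideal.Quotient.mk p0)) :=
    liesOver_map_quotientMk p0 p' q q' hp0p' hqq'
  have hd1 : IsDomain (A ⧸ p0) := Ideal.Quotient.isDomain p0
  have hd2 : IsDomain (B ⧸ q) := Ideal.Quotient.isDomain q
  have hft : Algebra.FiniteType (A ⧸ p0) (B ⧸ q) := by
    have h1 : Algebra.FiniteType A (B ⧸ q) :=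
      Algebra.FiniteType.of_surjective (Ideal.Quotient.mkₐ A q) Ideal.Quotient.mk_surjective
    exact Algebra.FiniteType.of_restrictScalars_finiteType A (A ⧸ p0) (B ⧸ q)
  have h := dimFormula_le (A ⧸ p0) (B ⧸ q)
    (p'.map (Ideal.Quotient.mk p0)) (q'.map (Ideal.Quotient.mk q))
  rw [trdeg_doubleQuot p0 p' q q' hp0p' hqq'] at h
  exact h

open Groth.Agent.Lib.Helper70 Groth.Agent.Lib.Helper44

set_option backward.isDefEq.respectTransparency.types false in
/-- The dimension inequality for a pair `x ⤳ x'`: for `f : X ⟶ Y` locally of finite type, `Y`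
locally Noetherian,
`codim(x, x') + trdeg κ(x')/κ(f x') ≤ codim(f x, f x') + trdeg κ(x)/κ(f x)`. -/
theorem codim_add_resTrdeg_le {X Y : Scheme.{u}} [IsLocallyNoetherian Y]
    (f : X ⟶ Y) [LocallyOfFiniteType f] (x x' : X) (h : x ⤳ x') :
    ∃ a b : ℕ, codim x x' = a ∧ codim (f x) (f x') = b ∧
      (a : Cardinal.{u}) + resTrdeg f x' ≤ (b : Cardinal.{u}) + resTrdeg f x := by
  obtain ⟨V, hV, hfx'V, -⟩ :=
    exists_isAffineOpen_mem_and_subset (X := Y) (x := f x') (U := ⊤) trivial
  obtain ⟨U, hU, hx'U, hUV⟩ :=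
    exists_isAffineOpen_mem_and_subset (X := X) (x := x') (U := f ⁻¹ᵁ V) hfx'V
  have hxU : x ∈ U := h.mem_open U.isOpen hx'U
  have hfxV : f x ∈ V := hUV hxU
  have hfh : f x ⤳ f x' := h.map f.continuous
  let _ : Algebra Γ(Y, V) Γ(X, U) := (f.appLE V U hUV).hom.toAlgebra
  have hN : IsNoetherianRing Γ(Y, V) := IsLocallyNoetherian.component_noetherian ⟨V, hV⟩
  have hft : Algebra.FiniteType Γ(Y, V) Γ(X, U) :=
    HasRingHomProperty.appLE @LocallyOfFiniteType f inferInstance ⟨V, hV⟩ ⟨U, hU⟩ hUV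
  have hNB : IsNoetherianRing Γ(X, U) := Algebra.FiniteType.isNoetherianRing Γ(Y, V) Γ(X, U)
  let q : Ideal Γ(X, U) := (hU.primeIdealOf ⟨x, hxU⟩).asIdeal
  let q' : Ideal Γ(X, U) := (hU.primeIdealOf ⟨x', hx'U⟩).asIdeal
  let p' : Ideal Γ(Y, V) := (hV.primeIdealOf ⟨f x', hfx'V⟩).asIdeal
  have hqq' : q ≤ q' := primeIdealOf_le_of_specializes hU x x' hxU hx'U h
  have hq'p' : q'.LiesOver p' := ⟨by
    have := IsAffineOpen.comap_primeIdealOf_appLE V hV U hU hUV hx'U
    exact (congrArg PrimeSpectrum.asIdeal this).symm⟩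
  have hp : q.under Γ(Y, V) = (hV.primeIdealOf ⟨f x, hfxV⟩).asIdeal := by
    have := IsAffineOpen.comap_primeIdealOf_appLE V hV U hU hUV hxU
    exact congrArg PrimeSpectrum.asIdeal this
  have heq := dimFormula_le_pair q q' hqq' p'
  have hq'prime : (q'.map (Ideal.Quotient.mk q)).IsPrime :=
    Ideal.isPrime_map_quotientMk_of_isPrime hqq'
  have hpp' : q.under Γ(Y, V) ≤ p' := by
    rw [q'.over_def p']
    exact Ideal.comap_mono hqq'
  have hp'prime : (p'.map (Ideal.Quotient.mk (q.under Γ(Y, V)))).IsPrime :=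
    Ideal.isPrime_map_quotientMk_of_isPrime hpp'
  have hfin1 : (q'.map (Ideal.Quotient.mk q)).height ≠ ⊤ := Ideal.height_ne_top_of_isPrime
  have hfin2 : (p'.map (Ideal.Quotient.mk (q.under Γ(Y, V)))).height ≠ ⊤ :=
    Ideal.height_ne_top_of_isPrime
  obtain ⟨a, ha⟩ := ENat.ne_top_iff_exists.mp hfin1
  obtain ⟨b, hb⟩ := ENat.ne_top_iff_exists.mp hfin2
  refine ⟨a, b, ?_, ?_, ?_⟩
  · rw [codim_eq_height_chart hU x x' hxU hx'U h]
    change ((q'.map (Ideal.Quotient.mk q)).height : WithBot ℕ∞) = _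
    rw [← ha]; rfl
  · rw [codim_eq_height_chart hV (f x) (f x') hfxV hfx'V hfh]
    rw [← hp]
    change ((p'.map (Ideal.Quotient.mk (q.under Γ(Y, V)))).height : WithBot ℕ∞) = _
    rw [← hb]; rfl
  · unfold resTrdeg
    rw [trdeg_residueFieldMap_eq_chart f hU hV hUV x' hx'U hfx'V rfl p' q' rfl rfl,
      trdeg_residueFieldMap_eq_chart f hU hV hUV x hxU hfxV rfl (q.under Γ(Y, V)) q hp rfl]
    rw [← ha, ← hb] at heq
    exact_mod_cast heq

end Groth.Agent.Lib.Helper73

namespace Groth.Agent.Lib.Helper73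

/-- If `z` is maximal in its fibre and `dim O_{X,z} = dim O_{Y,f z}`, then `z` is a specialization
of a maximal point `ξ` of `X` lying over the generic point of `Y`, with the same residual
transcendence degree (no universally catenary hypothesis). -/
theorem exists_maximal_over_genericPoint' {X Y : Scheme.{u}} [IrreducibleSpace Y]
    [IsLocallyNoetherian Y] (f : X ⟶ Y) [LocallyOfFiniteType f] (z : X)
    (hmaxz : ∀ t : X, t ⤳ z → f t = f z → t = z)
    (hdim : ringKrullDim (X.presheaf.stalk z) = ringKrullDim (Y.presheaf.stalk (f z))) :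
    ∃ ξ : X, f ξ = genericPoint Y ∧ (∀ t : X, t ⤳ ξ → t = ξ) ∧ ξ ⤳ z ∧
      resTrdegNat f ξ = resTrdegNat f z := by
  have hLN : IsLocallyNoetherian X := LocallyOfFiniteType.isLocallyNoetherian f
  obtain ⟨b0, hb0⟩ := exists_ringKrullDim_stalk_eq_natCast (f z)
  obtain ⟨ξ, hξz, hξmax, hξc⟩ := exists_maximal_codim_eq_stalk z
  obtain ⟨a, b, ha, hb, hab⟩ := codim_add_resTrdeg_le f ξ z hξz
  rw [hdim, hb0, ha] at hξc
  have hab0 : a = b0 := by exact_mod_cast hξc
  have hble : b ≤ b0 := by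
    have := codim_le_ringKrullDim_stalk (f ξ) (f z)
    rw [hb, hb0] at this
    exact_mod_cast this
  rw [resTrdeg_eq_resTrdegNat, resTrdeg_eq_resTrdegNat] at hab
  have e1 : a + resTrdegNat f z ≤ b + resTrdegNat f ξ := by exact_mod_cast hab
  -- Chevalley
  have hche : resTrdegNat f ξ ≤ resTrdegNat f z := by
    have h1 := fibreDimAt_eq f z
    rw [ringKrullDim_fiber_stalk_eq_zero_of_maximal f z hmaxz, zero_add] at h1
    have hopen := isOpen_fibreDimAt_le (resTrdegNat f z) X Y f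
    have hξ : ξ ∈ {x' : X | FlatMor.fibreDimAt f x' ≤ ((resTrdegNat f z : ℕ) : WithBot ℕ∞)} :=
      hξz.mem_open hopen (by rw [Set.mem_setOf_eq, h1])
    have h2 := (resTrdegNat_le_fibreDimAt f ξ).trans hξ
    exact_mod_cast h2
  have hfξz : f ξ ⤳ f z := hξz.map f.continuous
  have hco := coheight_add_le_of_krullDim_Icc_eq (x := f z) (z := f ξ) hfξz b hb
  have hcoz : Order.coheight (f z) = b0 := by
    rw [ringKrullDim_stalk_eq_coheight] at hb0
    exact_mod_cast hb0
  have hbb0 : b = b0 := by omega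
  rw [hcoz, hbb0] at hco
  have hco0 : Order.coheight (f ξ) = 0 := by
    by_contra hne
    have h1 : 1 ≤ Order.coheight (f ξ) := Order.one_le_iff_ne_zero.mpr hne
    have h2 : (1 : ℕ∞) + b0 ≤ b0 := le_trans (by gcongr) hco
    have h3 : ((1 + b0 : ℕ) : ℕ∞) ≤ (b0 : ℕ∞) := by push_cast; exact h2
    have h4 : 1 + b0 ≤ b0 := by exact_mod_cast h3
    omega
  have hismax : IsMax (f ξ) := Order.coheight_eq_zero.mp hco0
  have hη : f ξ = genericPoint Y := by
    have h1 : f ξ ≤ genericPoint Y := genericPoint_specializes (f ξ)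
    have h2 : genericPoint Y ≤ f ξ := hismax h1
    exact (Specializes.antisymm (show f ξ ⤳ genericPoint Y from h2)
      (show genericPoint Y ⤳ f ξ from h1)).eq
  refine ⟨ξ, hη, hξmax, hξz, ?_⟩
  omega

/-- The dimension of the part of `closure {ξ}` lying over `f ξ` is the transcendence degree of the
residue field extension at `ξ`. -/
theorem topologicalKrullDim_closure_inter_fiber {X Y : Scheme.{u}} (f : X ⟶ Y)
    [LocallyOfFiniteType f] (ξ : X) (η : Y) (hξ : f ξ = η) :
    topologicalKrullDim ↥(closure ({ξ} : Set X) ∩ f ⁻¹' {η}) =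
      ((resTrdegNat f ξ : ℕ) : WithBot ℕ∞) := by
  let ζ : f.fiber η := (f.fiberHomeo η).symm ⟨ξ, hξ⟩
  have hζ : f.fiberι η ζ = ξ := f.fiberι_fiberHomeo_symm η ⟨ξ, hξ⟩
  have hemb := (f.fiberι η).isEmbedding
  have hcl : closure ({ζ} : Set (f.fiber η)) = f.fiberι η ⁻¹' closure {ξ} := by
    rw [hemb.isInducing.closure_eq_preimage_closure_image, Set.image_singleton, hζ]
  have hmem : ∀ t : ↥(closure ({ζ} : Set (f.fiber η))),
      f.fiberι η t.1 ∈ closure ({ξ} : Set X) ∩ f ⁻¹' {η} := by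
    intro t
    refine ⟨?_, ?_⟩
    · have h1 : t.1 ∈ closure ({ζ} : Set (f.fiber η)) := t.2
      have h2 : t.1 ∈ f.fiberι η ⁻¹' closure {ξ} := hcl ▸ h1
      exact h2
    · have : f.fiberι η t.1 ∈ Set.range (f.fiberι η) := ⟨_, rfl⟩
      rw [f.range_fiberι η] at this
      exact this
  let g : ↥(closure ({ζ} : Set (f.fiber η))) → ↥(closure ({ξ} : Set X) ∩ f ⁻¹' {η}) :=
    fun t => ⟨f.fiberι η t.1, hmem t⟩
  have hg : IsHomeomorph g := by
    have hgemb : Topology.IsEmbedding g := by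
      have h1 : Topology.IsEmbedding (fun t : ↥(closure ({ζ} : Set (f.fiber η))) =>
          f.fiberι η t.1) := hemb.comp Topology.IsEmbedding.subtypeVal
      exact Topology.IsEmbedding.of_comp (by fun_prop) continuous_subtype_val h1
    have hsurj : Function.Surjective g := by
      rintro ⟨x, hx1, hx2⟩
      have hxr : x ∈ Set.range (f.fiberι η) := by rw [f.range_fiberι η]; exact hx2
      obtain ⟨t, rfl⟩ := hxr
      refine ⟨⟨t, ?_⟩, rfl⟩
      rw [hcl]; exact hx1
    exact (hgemb.toHomeomorphOfSurjective hsurj).isHomeomorph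
  rw [← IsHomeomorph.topologicalKrullDim_eq g hg]
  have hdim := (isDimFun_trdegNat (k := Y.residueField η)
    (f.fiberToSpecResidueField η)).topologicalKrullDim_closure_singleton ζ
  rw [trdegNat_fiber_eq_resTrdegNat, hζ] at hdim
  exact hdim

end Groth.Agent.Lib.Helper73

namespace Groth.Agent.Lib.Helper73

/-- Points whose fibre local ring has dimension zero are maximal in their fibre. -/
theorem maximal_of_ringKrullDim_fiber_stalk_eq_zero {X Y : Scheme.{u}} (f : X ⟶ Y) (z : X)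
    (h0 : ringKrullDim ((f.fiber (f.base z)).presheaf.stalk (f.asFiber z)) = 0) :
    ∀ t : X, t ⤳ z → f t = f z → t = z := by
  rw [ringKrullDim_fiber_stalk_eq_krullDim] at h0
  intro t htz hft
  have hle : Order.krullDim ↥{t : X | t ⤳ z ∧ f t = f z} ≤ 0 := h0.le
  rw [Order.krullDim_nonpos_iff_forall_isMax] at hle
  let z' : ↥{t : X | t ⤳ z ∧ f t = f z} := ⟨z, specializes_rfl, rfl⟩
  let t' : ↥{t : X | t ⤳ z ∧ f t = f z} := ⟨t, htz, hft⟩
  have h1 : z' ≤ t' := htz
  have h2 : t' ≤ z' := hle z' h1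
  exact (Specializes.antisymm htz (show z ⤳ t from h2)).eq

end Groth.Agent.Lib.Helper73
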