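import Mathlib
import Groth.Prelude
import Groth.Agent.Lib.Helper73.DimFormula.PairLe
import Groth.Agent.Lib.Helper73.DimFormula.FiberCodim

/-! Bijective residue field maps have residual transcendence degree zero (helper73). -/

set_option autoImplicit false
open CategoryTheory AlgebraicGeometry TopologicalSpace Topology Limits
universe u
namespace Groth.Agent.Lib.Helper73

/-- A bijective residue field map has residual transcendence degree zero. -/
lemma resTrdeg_eq_zero_of_bijective {X Y : Scheme.{u}} (f : X ⟶ Y) (x : X)
    (h : Function.Bijective (f.residueFieldMap x).hom) : resTrdeg f x = 0 := by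
  unfold resTrdeg
  letI := (f.residueFieldMap x).hom.toAlgebra
  have : Algebra.IsAlgebraic (Y.residueField (f x)) (X.residueField x) := by
    constructor
    intro a
    obtain ⟨b, rfl⟩ := h.2 a
    exact isAlgebraic_algebraMap b
  exact trdeg_eq_zero

end Groth.Agent.Lib.Helper73
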