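import Groth.Agent.Lib.Helper73.DimFormula.Hypersurface

/-!
# Dimension data of irreducible closed subsets (helper73)

* `ringKrullDim_stalk_eq_codim_of_range_eq_closure`,
  `ringKrullDim_fiber_stalk_eq_krullDim_of_range_eq_closure`: local rings of a subscheme
  supported on `closure {ξ'}` (and of its fibres) in terms of the ambient scheme.
* `coheight_interFiber_eq_krullDim`.
* `exists_closed_subscheme_dim_data`: the numerical data and inequalities of EGA IV 13.3.x.
* `exists_genericPoint_of_closeds`.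
-/

set_option autoImplicit false
open CategoryTheory AlgebraicGeometry
universe u

namespace Groth.Agent.Lib.Helper73

section

variable {X Z : Scheme.{u}} (i : Z ⟶ X) [IsPreimmersion i] (ξ' : X)
  (hrange : Set.range i = closure ({ξ'} : Set X))

include hrange

/-- The local ring of a subscheme supported on `closure {ξ'}` has dimension `codim(ξ', x)`. -/
theorem ringKrullDim_stalk_eq_codim_of_range_eq_closure (w : Z) :
    ringKrullDim (Z.presheaf.stalk w) = codim ξ' (i w) := by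
  rw [ringKrullDim_stalk_eq_coheight, Order.coheight_eq_krullDim_Ici]
  unfold codim
  symm
  refine krullDim_subtype_eq_of_monotone (fun a : Z => i a) ?_ _ _ ?_ ?_
  · intro a a'
    exact i.isEmbedding.isInducing.specializes_iff
  · intro a ha
    have ha' : a ⤳ w := ha
    refine ⟨ha'.map i.continuous, ?_⟩
    have : i a ∈ Set.range i := ⟨a, rfl⟩
    rw [hrange] at this
    exact specializes_iff_mem_closure.mpr this
  · rintro b ⟨hb1, hb2⟩
    have hbr : b ∈ Set.range i := by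
      rw [hrange]; exact specializes_iff_mem_closure.mp hb2
    obtain ⟨a, rfl⟩ := hbr
    exact ⟨a, i.isEmbedding.isInducing.specializes_iff.mp hb1, rfl⟩

variable {Y : Scheme.{u}} (f : X ⟶ Y)

/-- The local ring of the fibre of a subscheme supported on `closure {ξ'}`. -/
theorem ringKrullDim_fiber_stalk_eq_krullDim_of_range_eq_closure (w : Z) :
    ringKrullDim (((i ≫ f).fiber ((i ≫ f).base w)).presheaf.stalk ((i ≫ f).asFiber w)) =
      Order.krullDim ↥{t : X | ξ' ⤳ t ∧ t ⤳ i w ∧ f t = f (i w)} := by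
  rw [ringKrullDim_fiber_stalk_eq_krullDim]
  symm
  refine krullDim_subtype_eq_of_monotone (fun a : Z => i a) ?_ _ _ ?_ ?_
  · intro a a'
    exact i.isEmbedding.isInducing.specializes_iff
  · rintro a ⟨ha1, ha2⟩
    refine ⟨?_, ha1.map i.continuous, ha2⟩
    have : i a ∈ Set.range i := ⟨a, rfl⟩
    rw [hrange] at this
    exact specializes_iff_mem_closure.mpr this
  · rintro b ⟨hb0, hb1, hb2⟩
    have hbr : b ∈ Set.range i := by
      rw [hrange]; exact specializes_iff_mem_closure.mp hb0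
    obtain ⟨a, rfl⟩ := hbr
    exact ⟨a, ⟨i.isEmbedding.isInducing.specializes_iff.mp hb1, hb2⟩, rfl⟩

end

/-- The coheight of a point in `closure {ξ'} ∩ f⁻¹(y)` for the specialization order. -/
theorem coheight_interFiber_eq_krullDim {X Y : Scheme.{u}} (f : X ⟶ Y) (ξ' x : X)
    (hx : x ∈ closure ({ξ'} : Set X) ∩ f ⁻¹' {f x}) :
    ((@Order.coheight _ (specializationPreorder ↥(closure ({ξ'} : Set X) ∩ f ⁻¹' {f x}))
      (⟨x, hx⟩ : ↥(closure ({ξ'} : Set X) ∩ f ⁻¹' {f x})) : ℕ∞) : WithBot ℕ∞) =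
      Order.krullDim ↥{t : X | ξ' ⤳ t ∧ t ⤳ x ∧ f t = f x} := by
  let _ := specializationPreorder ↥(closure ({ξ'} : Set X) ∩ f ⁻¹' {f x})
  rw [Order.coheight_eq_krullDim_Ici]
  apply le_antisymm
  · refine Order.krullDim_le_of_strictMono
      (fun a : Set.Ici (⟨x, hx⟩ : ↥(closure ({ξ'} : Set X) ∩ f ⁻¹' {f x})) =>
        (⟨a.1.1, specializes_iff_mem_closure.mpr a.1.2.1,
          (subtype_specializes_iff a.1 _).mp a.2, a.1.2.2⟩ :
          ↥{t : X | ξ' ⤳ t ∧ t ⤳ x ∧ f t = f x})) ?_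
    intro a b hab
    rw [lt_iff_le_not_ge] at hab ⊢
    refine ⟨?_, fun h => hab.2 ?_⟩
    · exact (subtype_specializes_iff b.1 a.1).mp hab.1
    · exact (subtype_specializes_iff a.1 b.1).mpr h
  · refine Order.krullDim_le_of_strictMono
      (fun a : ↥{t : X | ξ' ⤳ t ∧ t ⤳ x ∧ f t = f x} =>
        (⟨⟨a.1, specializes_iff_mem_closure.mp a.2.1, a.2.2.2⟩,
          (subtype_specializes_iff _ _).mpr a.2.2.1⟩ :
          Set.Ici (⟨x, hx⟩ : ↥(closure ({ξ'} : Set X) ∩ f ⁻¹' {f x})))) ?_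
    intro a b hab
    rw [lt_iff_le_not_ge] at hab ⊢
    refine ⟨?_, fun h => hab.2 ?_⟩
    · exact (subtype_specializes_iff _ _).mpr hab.1
    · have h' : (⟨a.1, specializes_iff_mem_closure.mp a.2.1, a.2.2.2⟩ :
          ↥(closure ({ξ'} : Set X) ∩ f ⁻¹' {f x})) ⤳
          (⟨b.1, specializes_iff_mem_closure.mp b.2.1, b.2.2.2⟩ :
            ↥(closure ({ξ'} : Set X) ∩ f ⁻¹' {f x})) := h
      have h'' := (subtype_specializes_iff _ _).mp h'
      exact h''

end Groth.Agent.Lib.Helper73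

namespace Groth.Agent.Lib.Helper73

/-- The numerical data attached to an irreducible closed subset `closure {ξ'}` through `x`
(EGA IV 13.3.x): local ring dimensions of the reduced subschemes, of the fibres, and the basic
inequalities between them. -/
theorem exists_closed_subscheme_dim_data {X Y Z Z' : Scheme.{u}} [IsLocallyNoetherian Y]
    (f : X ⟶ Y) [LocallyOfFiniteType f] (ξ' x : X) (hξx : ξ' ⤳ x)
    (i : Z ⟶ X) [IsPreimmersion i] [LocallyOfFiniteType (i ≫ f)]
    (hi : Set.range i = closure ({ξ'} : Set X)) (w : Z) (hw : i w = x)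
    (j : Z' ⟶ Y) [IsPreimmersion j] (hj : Set.range j = closure ({f ξ'} : Set Y)) (v : Z')
    (hv : j v = f x) (hx : x ∈ closure ({ξ'} : Set X) ∩ f ⁻¹' {f x}) :
    ∃ a b d n n' : ℕ,
      ringKrullDim (Z.presheaf.stalk w) = a ∧
      ringKrullDim (Z'.presheaf.stalk v) = b ∧
      ringKrullDim (Y.presheaf.stalk (f x)) = d ∧
      ringKrullDim ((f.fiber (f.base x)).presheaf.stalk (f.asFiber x)) = n ∧
      ringKrullDim (((i ≫ f).fiber ((i ≫ f).base w)).presheaf.stalk ((i ≫ f).asFiber w)) = n' ∧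
      FlatMor.fibreDimAt (i ≫ f) w = ((n' + resTrdegNat f x : ℕ) : WithBot ℕ∞) ∧
      FlatMor.fibreDimAt f x = ((n + resTrdegNat f x : ℕ) : WithBot ℕ∞) ∧
      FlatMor.localDim ↥(closure ({ξ'} : Set X) ∩ f ⁻¹' {f x}) ⟨x, hx⟩ =
        ((n' + resTrdegNat f x : ℕ) : WithBot ℕ∞) ∧
      b ≤ d ∧ n' ≤ n ∧ resTrdegNat f ξ' ≤ n' + resTrdegNat f x ∧
      a + resTrdegNat f x ≤ b + resTrdegNat f ξ' := by
  have hLN : IsLocallyNoetherian X := LocallyOfFiniteType.isLocallyNoetherian f
  subst hw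
  obtain ⟨a, b, ha, hb, hab⟩ := codim_add_resTrdeg_le f ξ' (i w) hξx
  rw [resTrdeg_eq_resTrdegNat, resTrdeg_eq_resTrdegNat] at hab
  have hab' : a + resTrdegNat f (i w) ≤ b + resTrdegNat f ξ' := by exact_mod_cast hab
  obtain ⟨d, hd⟩ := exists_ringKrullDim_stalk_eq_natCast (f (i w))
  obtain ⟨n, hn⟩ := exists_ringKrullDim_fiber_stalk_eq_natCast f (i w)
  obtain ⟨n', hn'⟩ := exists_ringKrullDim_fiber_stalk_eq_natCast (i ≫ f) w
  have hT1 := ringKrullDim_stalk_eq_codim_of_range_eq_closure i ξ' hi w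
  have hT2 := ringKrullDim_stalk_eq_codim_of_range_eq_closure j (f ξ') hj v
  rw [hv] at hT2
  have hT3 := ringKrullDim_fiber_stalk_eq_krullDim_of_range_eq_closure i ξ' hi f w
  have hbd : b ≤ d := by
    have := codim_le_ringKrullDim_stalk (f ξ') (f (i w))
    rw [hb, hd] at this
    exact_mod_cast this
  have hn'n : n' ≤ n := by
    have h1 : Order.krullDim ↥{t : X | ξ' ⤳ t ∧ t ⤳ i w ∧ f t = f (i w)} ≤
        Order.krullDim ↥{t : X | t ⤳ i w ∧ f t = f (i w)} :=
      Order.krullDim_le_of_strictMono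
        (fun t : ↥{t : X | ξ' ⤳ t ∧ t ⤳ i w ∧ f t = f (i w)} =>
          (⟨t.1, t.2.2⟩ : ↥{t : X | t ⤳ i w ∧ f t = f (i w)})) (fun a b hab => hab)
    rw [← hT3, ← ringKrullDim_fiber_stalk_eq_krullDim, hn, hn'] at h1
    exact_mod_cast h1
  have hfd' : FlatMor.fibreDimAt (i ≫ f) w = ((n' + resTrdegNat f (i w) : ℕ) : WithBot ℕ∞) := by
    rw [fibreDimAt_eq, hn', resTrdegNat_comp_of_isPreimmersion]
    push_cast; rfl
  have hfd : FlatMor.fibreDimAt f (i w) = ((n + resTrdegNat f (i w) : ℕ) : WithBot ℕ∞) := by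
    rw [fibreDimAt_eq, hn]
    push_cast; rfl
  have hloc : FlatMor.localDim ↥(closure ({ξ'} : Set X) ∩ f ⁻¹' {f (i w)}) ⟨i w, hx⟩ =
      ((n' + resTrdegNat f (i w) : ℕ) : WithBot ℕ∞) := by
    rw [localDim_interFiber_eq f _ _ isClosed_closure]
    have h1 := coheight_interFiber_eq_krullDim f ξ' (i w) hx
    rw [← hT3, hn'] at h1
    have h2 : @Order.coheight _ (specializationPreorder _)
        (⟨i w, hx⟩ : ↥(closure ({ξ'} : Set X) ∩ f ⁻¹' {f (i w)})) = (n' : ℕ∞) := by
      exact_mod_cast h1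
    rw [h2]
    push_cast; rfl
  have hche : resTrdegNat f ξ' ≤ n' + resTrdegNat f (i w) := by
    have hξr : ξ' ∈ Set.range i := by rw [hi]; exact subset_closure rfl
    obtain ⟨ξ'', hξ''⟩ := hξr
    have hsp : ξ'' ⤳ w := by
      rw [← i.isEmbedding.isInducing.specializes_iff, hξ'']; exact hξx
    have hopen := isOpen_fibreDimAt_le (n' + resTrdegNat f (i w)) Z Y (i ≫ f)
    have hmem : ξ'' ∈ {x' : Z | FlatMor.fibreDimAt (i ≫ f) x' ≤
        ((n' + resTrdegNat f (i w) : ℕ) : WithBot ℕ∞)} :=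
      hsp.mem_open hopen (by rw [Set.mem_setOf_eq, hfd'])
    have h2 := (resTrdegNat_le_fibreDimAt (i ≫ f) ξ'').trans hmem
    rw [resTrdegNat_comp_of_isPreimmersion, hξ''] at h2
    exact_mod_cast h2
  exact ⟨a, b, d, n, n', hT1.trans ha, hT2.trans hb, hd, hn, hn', hfd', hfd, hloc, hbd, hn'n,
    hche, hab'⟩

end Groth.Agent.Lib.Helper73

namespace Groth.Agent.Lib.Helper73

/-- Setup common to EGA IV 13.3.x statements about an irreducible closed subset: its generic
point, and the image generic point. -/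
lemma exists_genericPoint_of_closeds {X Y : Scheme.{u}} (f : X ⟶ Y)
    (X' : TopologicalSpace.Closeds X) (hirr : IsIrreducible (X' : Set X)) (x : X) (hx : x ∈ X')
    (η' : Y) (hη' : closure ({η'} : Set Y) = closure (f.base '' (X' : Set X))) :
    ∃ ξ' : X, closure ({ξ'} : Set X) = (X' : Set X) ∧ ξ' ⤳ x ∧ f ξ' = η' := by
  obtain ⟨ξ', hξ'⟩ := QuasiSober.sober hirr X'.isClosed
  have hcl : closure ({ξ'} : Set X) = (X' : Set X) := hξ'.def
  refine ⟨ξ', hcl, ?_, ?_⟩
  · rw [specializes_iff_mem_closure, hcl]; exact hx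
  · have h1 : closure ({f ξ'} : Set Y) = closure ({η'} : Set Y) := by
      rw [hη', ← hcl]
      exact (closure_image_closure_singleton f ξ').symm
    have h2 : f ξ' ⤳ η' := by
      rw [specializes_iff_mem_closure, h1]; exact subset_closure rfl
    have h3 : η' ⤳ f ξ' := by
      rw [specializes_iff_mem_closure, ← h1]; exact subset_closure rfl
    exact (h2.antisymm h3).eq

end Groth.Agent.Lib.Helper73
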