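import Mathlib
import Groth.Prelude
import Groth.Agent.Lib.Helper73.DimFormula.Birational
import Groth.Agent.Lib.Helper73.DimFormula.JacobsonDense
import Groth.Agent.Lib.Helper73.DimFormula.Chevalley
import Groth.Agent.Lib.Helper73.DimFormula.Hypersurface

/-!
# Quasi-finiteness over points of codimension at most one (helper73)
-/

set_option autoImplicit false
open CategoryTheory AlgebraicGeometry TopologicalSpace Topology Limits
universe u
namespace Groth.Agent.Lib.Helper73

/-- In a locally Noetherian scheme, a dense open subset contains every point without proper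
generizations. -/
lemma mem_of_dense_of_maximal {Y : Scheme.{u}} [IsLocallyNoetherian Y] (V : Set Y) (hV : IsOpen V)
    (hd : Dense V) (η : Y) (hmax : ∀ t : Y, t ⤳ η → t = η) : η ∈ V := by
  obtain ⟨N, hN, hηN, hNoeth⟩ := exists_open_noetherianSpace_of_isLocallyNoetherian Y η
  obtain ⟨W, hW, hηW, hall⟩ := exists_open_forall_exists_generic_of_nhd η N hN hηN
  obtain ⟨w, hwW, hwV⟩ := hd.inter_open_nonempty W hW ⟨η, hηW⟩
  obtain ⟨t, h1, h2⟩ := hall w hwW
  rw [hmax t h2] at h1
  exact h1.mem_open hV hwV

/-- The residual transcendence degree of an open immersion is zero. -/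
lemma resTrdeg_eq_zero_of_isOpenImmersion {X Y : Scheme.{u}} (f : X ⟶ Y) [IsOpenImmersion f]
    (x : X) : resTrdeg f x = 0 :=
  resTrdeg_eq_zero_of_bijective f x
    (ConcreteCategory.bijective_of_isIso (f.residueFieldMap x))

/-- Over a point of codimension at most one of a locally Noetherian scheme, residue field
extensions are algebraic as soon as they are at the maximal points. -/
theorem resTrdegNat_eq_zero_of_stalk_dim_le_one {X Y : Scheme.{u}} [IsLocallyNoetherian Y]
    (f : X ⟶ Y) [LocallyOfFiniteType f] (x : X)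
    (hy : ringKrullDim (Y.presheaf.stalk (f x)) ≤ 1)
    (hgen : ∀ η : X, (∀ t : X, t ⤳ η → t = η) → η ⤳ x → resTrdegNat f η = 0) :
    resTrdegNat f x = 0 := by
  obtain ⟨η, hηx, hηmax⟩ := exists_maximal_specializes x
  by_cases hne : η = x
  · rw [← hne]; exact hgen η hηmax (hne ▸ specializes_rfl)
  obtain ⟨a, b, ha, hb, hab⟩ := codim_add_resTrdeg_le f η x hηx
  rw [resTrdeg_eq_resTrdegNat, resTrdeg_eq_resTrdegNat, hgen η hηmax hηx] at hab
  have hab' : a + resTrdegNat f x ≤ b + 0 := by exact_mod_cast hab
  have h1 : 1 ≤ a := by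
    have := one_le_codim η x hηx hne
    rw [ha] at this
    exact_mod_cast this
  have h2 : b ≤ 1 := by
    have := (codim_le_ringKrullDim_stalk (f η) (f x)).trans hy
    rw [hb] at this
    exact_mod_cast this
  omega

/-- Over a point of codimension at most one of a locally Noetherian scheme, a morphism locally of
finite type is quasi-finite as soon as its residue field extensions at the maximal points are
algebraic. -/
theorem quasiFiniteAt_of_stalk_dim_le_one {X Y : Scheme.{u}} [IsLocallyNoetherian Y]
    (f : X ⟶ Y) [LocallyOfFiniteType f] (x : X)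
    (hy : ringKrullDim (Y.presheaf.stalk (f x)) ≤ 1)
    (hgen : ∀ η : X, (∀ t : X, t ⤳ η → t = η) → resTrdegNat f η = 0) :
    f.QuasiFiniteAt x := by
  rw [quasiFiniteAt_iff_fibreDimAt_le_zero]
  exact_mod_cast fibreDimAt_le_of_forall_generization f x 0 fun t _ hft =>
    (resTrdegNat_eq_zero_of_stalk_dim_le_one f t (by rw [hft]; exact hy)
      (fun η hη _ => hgen η hη)).le

/-- A quasi-compact morphism locally of finite type which is quasi-finite at all points of a fibre
has that fibre finite. -/
theorem finite_preimage_singleton_of_forall_quasiFiniteAt {X Y : Scheme.{u}} (f : X ⟶ Y)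
    [LocallyOfFiniteType f] [QuasiCompact f] (y : Y)
    (h : ∀ x : X, f x = y → f.QuasiFiniteAt x) : (f ⁻¹' {y}).Finite := by
  have hdisc : DiscreteTopology ↥(f.fiber y) := by
    rw [discreteTopology_iff_isOpen_singleton]
    intro z
    have key : ∀ (x : X) (y' : Y) (_ : f x = y') (z : f.fiber y'), f.QuasiFiniteAt x →
        f.fiberι y' z = x → IsOpen ({z} : Set ↥(f.fiber y')) := by
      intro x y' hx
      subst hx
      intro z hqf hz
      have : z = f.asFiber x := by
        apply (f.fiberι _).isEmbedding.injective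
        rw [f.fiberι_asFiber, hz]
      rw [this]
      exact Scheme.Hom.quasiFiniteAt_iff_isOpen_singleton_asFiber.mp hqf
    have hfz : f (f.fiberι y z) = y := by
      have : f.fiberι y z ∈ Set.range (f.fiberι y) := ⟨z, rfl⟩
      rw [f.range_fiberι y] at this
      exact this
    exact key (f.fiberι y z) y hfz z (h _ hfz) rfl
  have : Finite ↥(f.fiber y) := finite_of_compact_of_discrete
  rw [← f.range_fiberι y]
  exact Set.finite_range _

lemma resTrdegNat_eq_zero_of_isOpenImmersion {X Y : Scheme.{u}} (f : X ⟶ Y) [IsOpenImmersion f]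
    (x : X) : resTrdegNat f x = 0 := by
  have := resTrdeg_eq_zero_of_isOpenImmersion f x
  rw [resTrdeg_eq_resTrdegNat] at this
  exact_mod_cast this

/-- A proper morphism which is quasi-finite at all points of the fibre over `ξ` is finite over an
open neighbourhood of `ξ`. -/
theorem exists_open_isFinite_of_forall_quasiFiniteAt {X Y : Scheme.{u}} (f : X ⟶ Y) [IsProper f]
    (ξ : Y) (h : ∀ x : X, f x = ξ → f.QuasiFiniteAt x) :
    ∃ V : Y.Opens, ξ ∈ V ∧ IsFinite (f ∣_ V) := by
  have hcl : IsClosed (f '' ((f.quasiFiniteLocus : Set X)ᶜ)) :=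
    f.isClosedMap _ f.quasiFiniteLocus.isOpen.isClosed_compl
  let V : Y.Opens := ⟨(f '' ((f.quasiFiniteLocus : Set X)ᶜ))ᶜ, hcl.isOpen_compl⟩
  have hξV : ξ ∈ V := by
    rintro ⟨x, hx, hfx⟩
    exact hx (h x hfx)
  refine ⟨V, hξV, ?_⟩
  have hqf : LocallyQuasiFinite (f ∣_ V) := by
    rw [← Scheme.Hom.quasiFiniteLocus_eq_top_iff]
    refine top_le_iff.mp fun x' _ => ?_
    rw [Scheme.Hom.mem_quasiFiniteLocus,
      ← Scheme.Hom.quasiFiniteAt_comp_iff (g := V.ι), morphismRestrict_ι,
      Scheme.Hom.quasiFiniteAt_comp_iff_of_isOpenImmersion]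
    by_contra hcon
    exact x'.2 ⟨(f ⁻¹ᵁ V).ι x', hcon, rfl⟩
  exact IsFinite.of_isProper_of_locallyQuasiFinite (f ∣_ V)

end Groth.Agent.Lib.Helper73
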