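import Mathlib
import Groth.Prelude.Def_Cyc
import Groth.Agent.Lib.Helper73.DimFormula.CycJacobson
import Groth.Agent.Lib.Helper76.RegularLocal

/-!
# Dimension functions on regular schemes (helper73)

* `ringKrullDim_stalk_eq_add_codim_of_isDomain`: `dim O_{S,s'} = dim O_{S,s} + codim(s, s')` when
  `O_{S,s'}` is a domain (universally catenary local rings).
* `cycIsDimFun_neg_stalkDim_of_regular`: `s ↦ -dim O_{S,s}` is a dimension function on a regular
  universally catenary scheme.
-/

set_option autoImplicit false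
universe u

open AlgebraicGeometry CategoryTheory TopologicalSpace Opposite Order

namespace Groth.Agent.Lib.Helper73

open Groth.Agent.Lib.Helper70 Groth.Agent.Lib.Helper44

set_option backward.isDefEq.respectTransparency.types false in
/-- On a locally Noetherian scheme with universally catenary local rings, if `O_{S,s'}` is a
domain then `dim O_{S,s'} = dim O_{S,s} + codim(s, s')` for every generization `s` of `s'`. -/
theorem ringKrullDim_stalk_eq_add_codim_of_isDomain {S : Scheme.{u}} [IsLocallyNoetherian S]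
    (hS : ∀ s : S, CAlg.IsUniversallyCatenary (S.presheaf.stalk s)) (s s' : S) (h : s ⤳ s')
    [IsDomain (S.presheaf.stalk s')] :
    ringKrullDim (S.presheaf.stalk s') = ringKrullDim (S.presheaf.stalk s) + codim s s' := by
  obtain ⟨U, hU, hs'U, -⟩ :=
    exists_isAffineOpen_mem_and_subset (X := S) (x := s') (U := ⊤) trivial
  have hsU : s ∈ U := h.mem_open U.isOpen hs'U
  have hN : IsNoetherianRing Γ(S, U) := IsLocallyNoetherian.component_noetherian ⟨U, hU⟩
  have hA : CAlg.IsUniversallyCatenary Γ(S, U) := Groth.Agent.S12459.univCat_section S hS ⟨U, hU⟩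
  have hP : PosetCat (PrimeSpectrum Γ(S, U)) := hA.2 Γ(S, U) inferInstance
  let P : PrimeSpectrum Γ(S, U) := hU.primeIdealOf ⟨s', hs'U⟩
  let p : PrimeSpectrum Γ(S, U) := hU.primeIdealOf ⟨s, hsU⟩
  have hpP : p ≤ P := primeIdealOf_le_of_specializes hU s s' hsU hs'U h
  let _ : Algebra Γ(S, U) (S.presheaf.stalk s') := S.presheaf.algebra_section_stalk ⟨s', hs'U⟩
  have hloc : IsLocalization.AtPrime (S.presheaf.stalk s') P.asIdeal :=
    hU.isLocalization_stalk ⟨s', hs'U⟩
  let q00 : Ideal Γ(S, U) := RingHom.ker (algebraMap Γ(S, U) (S.presheaf.stalk s'))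
  have hq00 : q00.IsPrime := RingHom.ker_isPrime _
  have hclaim : ∀ Q : Ideal Γ(S, U), Q.IsPrime → Q ≤ P.asIdeal → q00 ≤ Q := by
    intro Q hQ hQP a ha
    have ha' : algebraMap Γ(S, U) (S.presheaf.stalk s') a = 0 := ha
    rw [IsLocalization.map_eq_zero_iff P.asIdeal.primeCompl] at ha'
    obtain ⟨t, ht⟩ := ha'
    have htQ : (t : Γ(S, U)) ∉ Q := fun htQ => t.2 (hQP htQ)
    rcases hQ.mem_or_mem (by rw [ht]; exact Q.zero_mem : (t : Γ(S, U)) * a ∈ Q) with h1 | h1
    · exact absurd h1 htQ
    · exact h1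
  have hmin : ∀ Q : PrimeSpectrum Γ(S, U), Q ≤ P →
      (Q.asIdeal.map (Ideal.Quotient.mk q00)).height = Q.asIdeal.height := by
    intro Q hQP
    obtain ⟨q0, hq0min, hq0le, hq0p, hht⟩ :=
      exists_minimalPrime_height_quotient_eq Q.asIdeal Ideal.height_ne_top_of_isPrime
    have h1 : q00 ≤ q0 := hclaim q0 hq0p (hq0le.trans hQP)
    have h2 : q0 ≤ q00 := hq0min.2 ⟨hq00, bot_le⟩ h1
    have : q0 = q00 := le_antisymm h2 h1
    rw [← this]; exact hht
  let Q00 : PrimeSpectrum Γ(S, U) := ⟨q00, hq00⟩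
  have h0p : Q00 ≤ p := hclaim p.asIdeal p.2 hpP
  have h0P : Q00 ≤ P := h0p.trans hpP
  have hadd := PosetCat.krullDim_Icc_add hP h0p hpP
  rw [krullDim_Icc_primeSpectrum Q00 P h0P, krullDim_Icc_primeSpectrum Q00 p h0p,
    hmin P le_rfl, hmin p hpP] at hadd
  rw [ringKrullDim_stalk_eq_height hU s' hs'U, ringKrullDim_stalk_eq_height hU s hsU,
    codim_eq_krullDim_Icc_chart hU s s' hsU hs'U h]
  exact hadd

/-- On a regular, universally catenary, locally Noetherian scheme, `s ↦ -dim O_{S,s}` is a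
dimension function. -/
theorem cycIsDimFun_neg_stalkDim_of_regular {S : Scheme.{u}} [IsLocallyNoetherian S]
    (hreg : ∀ s : S, IsRegularLocalRing (S.presheaf.stalk s))
    (huc : ∀ s : S, CAlg.IsUniversallyCatenary (S.presheaf.stalk s))
    (δS : S → ℤ)
    (hδS : ∀ s : S, ringKrullDim (S.presheaf.stalk s) = ((-δS s).toNat : WithBot ℕ∞) ∧ δS s ≤ 0) :
    Cyc.IsDimFun S δS := by
  have key : ∀ x y : S, x ⤳ y → ∃ a : ℕ, codim x y = a ∧ δS x = δS y + a := by
    intro x y hxy
    have : IsDomain (S.presheaf.stalk y) :=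
      Groth.Agent.Lib.Helper76.isDomain_of_isRegularLocalRing (S.presheaf.stalk y)
    have h1 := ringKrullDim_stalk_eq_add_codim_of_isDomain huc x y hxy
    obtain ⟨a, ha⟩ := exists_codim_eq_natCast x y hxy
    refine ⟨a, ha, ?_⟩
    rw [(hδS y).1, (hδS x).1, ha] at h1
    have h2 : (-δS y).toNat = (-δS x).toNat + a := by exact_mod_cast h1
    have := (hδS x).2
    have := (hδS y).2
    omega
  intro x y hxy hne
  obtain ⟨a, ha, he⟩ := key x y hxy
  constructor
  · have h1 := one_le_codim x y hxy hne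
    rw [ha] at h1
    have : 1 ≤ a := by exact_mod_cast h1
    omega
  · intro himm
    have h1 := codim_eq_one_of_immediate x y hxy hne himm
    rw [ha] at h1
    have : a = 1 := by exact_mod_cast h1
    rw [he, this]; rfl

end Groth.Agent.Lib.Helper73
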