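import Mathlib
import Groth.Prelude
import Groth.Agent.Lib.Helper73.DimFT.Morphism
import Groth.Agent.Lib.Helper73.DimFormula.DimFibLoci
import Groth.Agent.Lib.Helper73.DimFormula.GenericLocus

/-! Dominance of a composite forces dominance of the first map when source and target of the
second have the same dimension (schemes of finite type over a field). -/

set_option autoImplicit false
open CategoryTheory AlgebraicGeometry TopologicalSpace Topology Limits
universe u
namespace Groth.Agent.Lib.Helper73

theorem isDominant_of_comp_of_dim_eq {k : Type u} [Field k] (X Y Z : Scheme.{u})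
    (pX : X ⟶ Spec (CommRingCat.of k)) (pY : Y ⟶ Spec (CommRingCat.of k))
    (pZ : Z ⟶ Spec (CommRingCat.of k))
    [LocallyOfFiniteType pX] [QuasiCompact pX]
    [LocallyOfFiniteType pY] [LocallyOfFiniteType pZ]
    [IrreducibleSpace Y] [IrreducibleSpace Z] (hdim : topologicalKrullDim Y = topologicalKrullDim Z)
    (ρ : X ⟶ Y) (η : Y ⟶ Z) (hη : η ≫ pZ = pY)
    (hd : IsDominant (ρ ≫ η)) : IsDominant ρ := by
  have : IsNoetherian X :=
    { __ := LocallyOfFiniteType.isLocallyNoetherian pX
      toCompactSpace := QuasiCompact.compactSpace_of_compactSpace pX }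
  constructor
  by_contra hnd
  -- the generic point of Z is in the image of ρ ≫ η
  have hmem : genericPoint Z ∈ closure (Set.range (ρ ≫ η)) := by
    rw [(ρ ≫ η).denseRange.closure_range]; trivial
  obtain ⟨x, hx⟩ := exists_specializes_of_mem_closure_range (ρ ≫ η) (ρ ≫ η).continuous _ hmem
  have hx' : genericPoint Z ⤳ (ρ ≫ η) x := genericPoint_specializes _
  have hxe : (ρ ≫ η) x = genericPoint Z := (hx.antisymm hx').eq
  -- ρ x is not the generic point of Y
  have hne : genericPoint Y ≠ ρ x := by
    intro he
    apply hnd
    rw [DenseRange, dense_iff_closure_eq, ← Set.univ_subset_iff,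
      ← (genericPoint_spec Y : closure {genericPoint Y} = Set.univ)]
    exact closure_minimal (by rw [Set.singleton_subset_iff, he]; exact subset_closure ⟨x, rfl⟩)
      isClosed_closure
  have hlt : trdegNat pY (ρ x) < trdegNat pY (genericPoint Y) := by
    have hδ := isDimFun_trdegNat pY
    exact hδ.strictMono (hδ.lt_of_specializes_of_ne (genericPoint_specializes (ρ x)) hne)
  have hle : trdegNat pZ (η (ρ x)) ≤ trdegNat pY (ρ x) := trdegNat_le_of_hom pZ pY η hη (ρ x)
  rw [topologicalKrullDim_eq_trdegNat_genericPoint pY,
    topologicalKrullDim_eq_trdegNat_genericPoint pZ] at hdim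
  have hdim' : trdegNat pY (genericPoint Y) = trdegNat pZ (genericPoint Z) := by
    exact_mod_cast hdim
  have : η (ρ x) = genericPoint Z := by rw [← hxe]; rfl
  rw [this] at hle
  omega

end Groth.Agent.Lib.Helper73
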