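import Groth.Agent.Lib.Helper73.DimFormula.EquidimAt

/-!
# Criteria for equidimensionality of a morphism at a point (helper73)

* `resTrdegNat_le_of_specializes_of_maximal`, `resTrdegNat_le_of_maximal_in_closure_fiber`:
  Chevalley's lower bound on the closure of a point (via the reduced induced subscheme).
* `exists_open_forall_maximal_specializes`: local finiteness of irreducible components.
* `isEquidimAt_of_forall_maximal`: criterion for `EGA43.IsEquidimAt f x`.
-/

set_option autoImplicit false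
universe u

open AlgebraicGeometry CategoryTheory TopologicalSpace Opposite Order

namespace Groth.Agent.Lib.Helper73

/-- Chevalley's lower bound for a generization: if `ξ' ⤳ z` and `z` is maximal in its fibre,
then `trdeg κ(ξ')/κ(g ξ') ≤ trdeg κ(z)/κ(g z)`. -/
theorem resTrdegNat_le_of_specializes_of_maximal {Z Y : Scheme.{u}} (g : Z ⟶ Y)
    [LocallyOfFiniteType g] (ξ' z : Z) (h : ξ' ⤳ z)
    (hmax : ∀ t : Z, t ⤳ z → g t = g z → t = z) : resTrdegNat g ξ' ≤ resTrdegNat g z := by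
  have h1 := fibreDimAt_eq g z
  rw [ringKrullDim_fiber_stalk_eq_zero_of_maximal g z hmax, zero_add] at h1
  have hopen := isOpen_fibreDimAt_le (resTrdegNat g z) Z Y g
  have hξ : ξ' ∈ {x' : Z | FlatMor.fibreDimAt g x' ≤ ((resTrdegNat g z : ℕ) : WithBot ℕ∞)} :=
    h.mem_open hopen (by rw [Set.mem_setOf_eq, h1])
  have h2 := (resTrdegNat_le_fibreDimAt g ξ').trans hξ
  exact_mod_cast h2

/-- Chevalley's lower bound on the closure of a point: if `ζ ∈ closure {ξ}` is maximal in
`closure {ξ} ∩ f⁻¹(f ζ)`, then `trdeg κ(ξ)/κ(f ξ) ≤ trdeg κ(ζ)/κ(f ζ)`. -/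
theorem resTrdegNat_le_of_maximal_in_closure_fiber {X Y : Scheme.{u}} (f : X ⟶ Y)
    [LocallyOfFiniteType f] (ξ ζ : X) (hξζ : ξ ⤳ ζ)
    (hmax : ∀ t : X, ξ ⤳ t → t ⤳ ζ → f t = f ζ → t = ζ) :
    resTrdegNat f ξ ≤ resTrdegNat f ζ := by
  let Zc : Closeds X := ⟨closure {ξ}, isClosed_closure⟩
  let I := Scheme.IdealSheafData.vanishingIdeal Zc
  let i : I.subscheme ⟶ X := I.subschemeι
  have hrange : Set.range i = closure ({ξ} : Set X) := by
    rw [Scheme.IdealSheafData.range_subschemeι]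
    exact Scheme.IdealSheafData.coe_support_vanishingIdeal Zc
  have hξr : ξ ∈ Set.range i := by rw [hrange]; exact subset_closure rfl
  have hζr : ζ ∈ Set.range i := by rw [hrange]; exact specializes_iff_mem_closure.mp hξζ
  obtain ⟨ξ', hξ'⟩ := hξr
  obtain ⟨z, hz⟩ := hζr
  have hsp : ξ' ⤳ z := by
    rw [← i.isEmbedding.isInducing.specializes_iff, hξ', hz]; exact hξζ
  have hzmax : ∀ t : I.subscheme, t ⤳ z → (i ≫ f) t = (i ≫ f) z → t = z := by
    intro t ht hft
    apply i.isEmbedding.injective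
    rw [hz]
    refine hmax _ ?_ ?_ ?_
    · have : i t ∈ Set.range i := ⟨t, rfl⟩
      rw [hrange] at this
      exact specializes_iff_mem_closure.mpr this
    · rw [← hz]; exact ht.map i.continuous
    · rw [← hz]; exact hft
  have key := resTrdegNat_le_of_specializes_of_maximal (i ≫ f) ξ' z hsp hzmax
  have e1 : resTrdegNat (i ≫ f) ξ' = resTrdegNat f ξ := by
    unfold resTrdegNat
    rw [resTrdeg_comp_of_bijective_left i f ξ' (residueFieldMap_bijective_of_isPreimmersion i ξ'),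
      hξ']
  have e2 : resTrdegNat (i ≫ f) z = resTrdegNat f ζ := by
    unfold resTrdegNat
    rw [resTrdeg_comp_of_bijective_left i f z (residueFieldMap_bijective_of_isPreimmersion i z),
      hz]
  rw [e1, e2] at key
  exact key

end Groth.Agent.Lib.Helper73

namespace Groth.Agent.Lib.Helper73

/-- In a locally Noetherian scheme every point has an open neighbourhood all of whose maximal
points are generizations of the point. -/
theorem exists_open_forall_maximal_specializes {X : Scheme.{u}} [IsLocallyNoetherian X] (x : X) :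
    ∃ U : X.Opens, x ∈ U ∧ ∀ ξ ∈ U, (∀ t : X, t ⤳ ξ → t = ξ) → ξ ⤳ x := by
  obtain ⟨U, hU, hxU, -⟩ := exists_isAffineOpen_mem_and_subset (X := X) (x := x) (U := ⊤) trivial
  have : IsNoetherianRing Γ(X, U) := IsLocallyNoetherian.component_noetherian ⟨U, hU⟩
  have h1 : NoetherianSpace ↥(Set.range hU.fromSpec) :=
    NoetherianSpace.range (α := ↥(Spec Γ(X, U))) hU.fromSpec hU.fromSpec.continuous
  rw [hU.range_fromSpec] at h1
  obtain ⟨W, hW, hxW, hall⟩ := exists_open_forall_exists_generic_of_nhd x (U : Set X) U.isOpen hxU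
  refine ⟨⟨W, hW⟩, hxW, ?_⟩
  intro ξ hξ hξmax
  obtain ⟨η, h1, h2⟩ := hall ξ hξ
  rw [hξmax η h1] at h2
  exact h2

/-- A criterion for equidimensionality at a point: the fibre dimension at `x` is at most `e`,
and every maximal generization `ξ` of `x` maps to a maximal point of `Y` with
`trdeg κ(ξ)/κ(f ξ) = e`. -/
theorem isEquidimAt_of_forall_maximal {X Y : Scheme.{u}} [IsLocallyNoetherian Y] (f : X ⟶ Y)
    [LocallyOfFiniteType f] (x : X) (e : ℕ)
    (h1 : FlatMor.fibreDimAt f x ≤ ((e : ℕ) : WithBot ℕ∞))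
    (h2 : ∀ ξ : X, ξ ⤳ x → (∀ t : X, t ⤳ ξ → t = ξ) →
      (∀ t : Y, t ⤳ f ξ → t = f ξ) ∧ resTrdegNat f ξ = e) :
    EGA43.IsEquidimAt f x := by
  have hLN : IsLocallyNoetherian X := LocallyOfFiniteType.isLocallyNoetherian f
  obtain ⟨U0, hxU0, hU0⟩ := exists_open_forall_maximal_specializes x
  let U1 : X.Opens := ⟨{x' : X | FlatMor.fibreDimAt f x' ≤ ((e : ℕ) : WithBot ℕ∞)},
    isOpen_fibreDimAt_le e X Y f⟩
  rw [isEquidimAt_iff]
  refine ⟨e, U0 ⊓ U1, ⟨hxU0, h1⟩, ?_, ?_⟩
  · intro ξ hξ hξmax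
    have hξx := hU0 ξ hξ.1 hξmax
    exact ⟨(h2 ξ hξx hξmax).1, hξx.map f.continuous⟩
  · intro ζ hζ hζmax
    apply le_antisymm
    · have h3 : FlatMor.fibreDimAt f ζ ≤ ((e : ℕ) : WithBot ℕ∞) := hζ.2
      have h4 := (resTrdegNat_le_fibreDimAt f ζ).trans h3
      exact_mod_cast h4
    · obtain ⟨ξ, hξζ, hξmax⟩ := exists_maximal_specializes ζ
      have hξU0 : ξ ∈ U0 := hξζ.mem_open U0.isOpen hζ.1
      have hξx := hU0 ξ hξU0 hξmax
      rw [← (h2 ξ hξx hξmax).2]
      exact resTrdegNat_le_of_maximal_in_closure_fiber f ξ ζ hξζ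
        (fun t _ htζ hft => hζmax t htζ hft)

end Groth.Agent.Lib.Helper73
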