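import Groth.Agent.Lib.Helper73.DimFormula.Hypersurface
import Groth.Agent.Lib.Helper73.DimFormula.FieldExtScheme
import Groth.Agent.Lib.Helper73.DimFormula.FiberStalk
import Groth.Agent.Lib.Helper67.FiberStalk4
import Groth.Agent.Lib.Helper22.FlatDim
import Groth.Agent.Lib.Helper36.EtaleLocalDim
import Groth.Prelude.Def_CInt

/-!
# Local rings of fibres under arbitrary base change (helper73)

No finite type hypotheses.

* `isNoetherianRing_fiber_stalk`: local rings of fibres of `f : X ⟶ S`, `X` locally Noetherian,
  are Noetherian.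
* `ringKrullDim_fiber_stalk_eq_fiberStalk`: the stalk of `f.fiber s` at `z` has the dimension of
  `CInt.fiberStalk f (f.fiberι s z)`.
* `ringKrullDim_stalk_eq_of_flat_of_maximal`, `ringKrullDim_stalk_le_of_flat`.
* `flat_fiberMapOfIsPullback`, `ringKrullDim_fiberStalk_le_of_isPullback`,
  `exists_ringKrullDim_fiberStalk_le_of_isPullback`: for a pullback square `X' = X ×_S S'`,
  `dim O_{X_s,g' y'} ≤ dim O_{X'_{s'},y'}`, with equality for suitable `y'` over any given point
  of the image of `g'`.
-/

set_option autoImplicit false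
universe u
open CategoryTheory CategoryTheory.Limits AlgebraicGeometry Opposite TopologicalSpace

namespace Groth.Agent.Lib.Helper73

/-- The local rings of the fibres of a morphism from a locally Noetherian scheme are Noetherian. -/
theorem isNoetherianRing_fiber_stalk {X S : Scheme.{u}} [IsLocallyNoetherian X] (f : X ⟶ S)
    (s : S) (z : f.fiber s) : IsNoetherianRing ((f.fiber s).presheaf.stalk z) := by
  have hs : f (f.fiberι s z) = s := by
    have : f.fiberι s z ∈ Set.range (f.fiberι s) := ⟨_, rfl⟩
    rw [f.range_fiberι s] at this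
    exact this
  generalize hx : f.fiberι s z = x at hs
  subst hs
  haveI := Helper67.FiberStalk.isNoetherianRing_Q_of_isLocallyNoetherian f x
  exact isNoetherianRing_of_ringEquiv _ (Helper67.FiberStalk.stalkEquiv f x z hx).symm

/-- The local ring of a fibre at any of its points, in terms of `CInt.fiberStalk`. -/
theorem ringKrullDim_fiber_stalk_eq_fiberStalk {X S : Scheme.{u}} (f : X ⟶ S)
    (s : S) (z : f.fiber s) :
    ringKrullDim ((f.fiber s).presheaf.stalk z) =
      ringKrullDim (CInt.fiberStalk f (f.fiberι s z)) := by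
  have hs : f (f.fiberι s z) = s := by
    have : f.fiberι s z ∈ Set.range (f.fiberι s) := ⟨_, rfl⟩
    rw [f.range_fiberι s] at this
    exact this
  generalize hx : f.fiberι s z = x at hs
  subst hs
  have : z = f.asFiber x := by
    apply (f.fiberι (f x)).isEmbedding.injective
    rw [hx, f.fiberι_asFiber x]
  rw [this]

/-- A flat morphism with Noetherian local rings preserves the dimension of the local ring at a
point which is maximal in its fibre. -/
theorem ringKrullDim_stalk_eq_of_flat_of_maximal {X Y : Scheme.{u}} (f : X ⟶ Y) [Flat f] (x : X)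
    [IsNoetherianRing (X.presheaf.stalk x)] [IsNoetherianRing (Y.presheaf.stalk (f x))]
    (hmax : ∀ t : X, t ⤳ x → f t = f x → t = x) :
    ringKrullDim (X.presheaf.stalk x) = ringKrullDim (Y.presheaf.stalk (f x)) := by
  have hfl : (f.stalkMap x).hom.Flat := Flat.stalkMap f x
  have dF : ringKrullDim (X.presheaf.stalk x ⧸
      (IsLocalRing.maximalIdeal (Y.presheaf.stalk (f x))).map (f.stalkMap x).hom) = 0 := by
    rw [Helper22.Miracle.ringKrullDim_stalk_quotient_map_maximalIdeal]
    haveI : Nonempty ↥{t : X | t ⤳ x ∧ f t = f x} := ⟨⟨x, specializes_rfl, rfl⟩⟩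
    haveI : Subsingleton ↥{t : X | t ⤳ x ∧ f t = f x} :=
      ⟨fun a b => Subtype.ext ((hmax a.1 a.2.1 a.2.2).trans (hmax b.1 b.2.1 b.2.2).symm)⟩
    exact Order.krullDim_eq_zero
  algebraize [(f.stalkMap x).hom]
  haveI : IsLocalHom (algebraMap (Y.presheaf.stalk (f x)) (X.presheaf.stalk x)) := by
    rw [RingHom.algebraMap_toAlgebra]; infer_instance
  have key := Groth.Agent.Lib.Helper67.ringKrullDim_eq_add_fibre_of_flat
    (R := Y.presheaf.stalk (f x)) (S := X.presheaf.stalk x)
  rw [RingHom.algebraMap_toAlgebra, dF, add_zero] at key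
  exact key

/-- A flat morphism does not decrease the dimension of local rings. -/
theorem ringKrullDim_stalk_le_of_flat {X Y : Scheme.{u}} (f : X ⟶ Y) [Flat f] (x : X) :
    ringKrullDim (Y.presheaf.stalk (f x)) ≤ ringKrullDim (X.presheaf.stalk x) := by
  have hfl : (f.stalkMap x).hom.Flat := Flat.stalkMap f x
  algebraize [(f.stalkMap x).hom]
  haveI : IsLocalHom (algebraMap (Y.presheaf.stalk (f x)) (X.presheaf.stalk x)) := by
    rw [RingHom.algebraMap_toAlgebra]; infer_instance
  exact Helper36.EtaleLocalDim.ringKrullDim_le_of_flat_of_isLocalHom _ _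

section BC

variable {X S X' S' : Scheme.{u}} (f : X ⟶ S) (g : S' ⟶ S)
    (g' : X' ⟶ X) (f' : X' ⟶ S') (hsq : IsPullback g' f' f g)

include hsq in
lemma flat_fiberMapOfIsPullback (s' : S') : Flat (fiberMapOfIsPullback f g g' f' hsq s') := by
  have hP := isPullback_fiberToSpecResidueField_of_isPullback hsq s'
  have : Subsingleton ↥(Spec (S.residueField (g s'))) :=
    inferInstanceAs (Subsingleton (PrimeSpectrum (S.residueField (g s'))))
  exact MorphismProperty.of_isPullback hP.flip (inferInstance : Flat (Spec.map _))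

include hsq in
/-- The local rings of the fibres do not drop in dimension under base change. -/
theorem ringKrullDim_fiberStalk_le_of_isPullback (y' : X') :
    ringKrullDim (CInt.fiberStalk f (g' y')) ≤ ringKrullDim (CInt.fiberStalk f' y') := by
  have := flat_fiberMapOfIsPullback f g g' f' hsq (f' y')
  have h1 := ringKrullDim_stalk_le_of_flat (fiberMapOfIsPullback f g g' f' hsq (f' y'))
    (f'.asFiber y')
  rw [ringKrullDim_fiber_stalk_eq_fiberStalk f (g (f' y'))] at h1
  have h2 : f.fiberι (g (f' y')) (fiberMapOfIsPullback f g g' f' hsq (f' y') (f'.asFiber y')) =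
      g' y' := by
    have := congrArg (fun φ => φ (f'.asFiber y'))
      (fiberMapOfIsPullback_fiberι f g g' f' hsq (f' y'))
    simp only [Scheme.Hom.comp_apply] at this
    rw [this, f'.fiberι_asFiber y']
  rw [h2] at h1
  exact h1

include hsq in
/-- Over every point of the image of `g'` there is a point of `X'` at which the fibre local ring
has the same dimension. -/
theorem exists_ringKrullDim_fiberStalk_le_of_isPullback [IsLocallyNoetherian X]
    [IsLocallyNoetherian X'] (y'' : X') :
    ∃ y' : X', g' y' = g' y'' ∧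
      ringKrullDim (CInt.fiberStalk f' y') ≤ ringKrullDim (CInt.fiberStalk f (g' y'')) := by
  have := flat_fiberMapOfIsPullback f g g' f' hsq (f' y'')
  set π := fiberMapOfIsPullback f g g' f' hsq (f' y'') with hπ
  obtain ⟨z', hz'z'', hπz', hz'max⟩ := exists_maximal_fiber_specializes π (f'.asFiber y'')
  haveI := isNoetherianRing_fiber_stalk f' (f' y'') z'
  haveI := isNoetherianRing_fiber_stalk f (g (f' y'')) (π z')
  have h1 := ringKrullDim_stalk_eq_of_flat_of_maximal π z' hz'max
  rw [ringKrullDim_fiber_stalk_eq_fiberStalk f' (f' y'') z',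
    ringKrullDim_fiber_stalk_eq_fiberStalk f (g (f' y'')) (π z')] at h1
  have h2 : ∀ w, f.fiberι (g (f' y'')) (π w) = g' (f'.fiberι (f' y'') w) := by
    intro w
    have := congrArg (fun φ => φ w) (fiberMapOfIsPullback_fiberι f g g' f' hsq (f' y''))
    simpa only [Scheme.Hom.comp_apply] using this
  refine ⟨f'.fiberι (f' y'') z', ?_, ?_⟩
  · rw [← h2, hπz', h2, f'.fiberι_asFiber y'']
  · rw [h1, hπz', h2, f'.fiberι_asFiber y'']

end BC

end Groth.Agent.Lib.Helper73
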