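import Groth.Agent.Lib.Helper73.DimFormula.LocalNoethDim
import Groth.Agent.Lib.Helper73.DimFormula.IrrEq
import Groth.Agent.Lib.Helper73.DimFormula.OpenFT
import Groth.Agent.Lib.Helper73.DimFormula.FiberDimAdd

/-!
# Generic points of fibre components and of components of the total space (helper73)

* `exists_fibre_generic_and_generic`.
-/

set_option autoImplicit false
universe u
open CategoryTheory CategoryTheory.Limits AlgebraicGeometry

namespace Groth.Agent.Lib.Helper73

/-- Every point `x` has a generization `ξ` in its fibre computing the fibre dimension at `x`, and a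
further generization `η` which is the generic point of an irreducible component of `X`
through `x`. -/
theorem exists_fibre_generic_and_generic {X Y : Scheme.{u}} (f : X ⟶ Y) [LocallyOfFiniteType f]
    (x : X) :
    ∃ ξ η : X, ξ ⤳ x ∧ f ξ = f x ∧ (∀ t : X, t ⤳ ξ → f t = f ξ → t = ξ) ∧
      FlatMor.fibreDimAt f x = ((resTrdegNat f ξ : ℕ) : WithBot ℕ∞) ∧ η ⤳ ξ ∧
      closure ({η} : Set X) ∈ irreducibleComponents X ∧ x ∈ closure ({η} : Set X) ∧
      IsGenericPoint η (closure ({η} : Set X)) := by
  obtain ⟨ξ, hξx, hfξ, hξmax, hξ⟩ := exists_maximal_fiber_resTrdegNat_eq_fibreDimAt f x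
  obtain ⟨η, hηξ, hηmax⟩ := exists_maximal_specializes ξ
  refine ⟨ξ, η, hξx, hfξ, hξmax, hξ, hηξ,
    closure_singleton_mem_irreducibleComponents_of_maximal η hηmax, ?_, rfl⟩
  rw [← specializes_iff_mem_closure]
  exact hηξ.trans hξx

end Groth.Agent.Lib.Helper73
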