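import Groth.Agent.Lib.Helper73.DimFormula.RelMax
import Groth.Agent.Lib.Helper73.DimFormula.FiberStalkBC

/-!
# Lifting generizations inside fibres of a base change (helper73)

* `exists_specializes_fiber_of_isPullback`: for a pullback square `X' = X ×_S S'`, a point `x'`
  of `X'` and a generization `y` of `f' x'` inside the fibre of `g : S' ⟶ S`, there is a
  generization `t` of `x'` with `f' t = y` and `g' t = g' x'`.
-/

set_option autoImplicit false
universe u
open CategoryTheory AlgebraicGeometry
open CategoryTheory.Limits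

namespace Groth.Agent.Lib.Helper73

/-- In a pullback square `X' = X ×_S S'`, generizations inside a fibre of `g : S' ⟶ S` lift along
`f' : X' ⟶ S'` to generizations inside the corresponding fibre of `g' : X' ⟶ X`. -/
theorem exists_specializes_fiber_of_isPullback {X S X' S' : Scheme.{u}} (f : X ⟶ S) (g : S' ⟶ S)
    (g' : X' ⟶ X) (f' : X' ⟶ S') (hsq : IsPullback g' f' f g) (x' : X') (y : S')
    (hy : y ⤳ f' x') (hgy : g y = g (f' x')) :
    ∃ t : X', t ⤳ x' ∧ f' t = y ∧ g' t = g' x' := by
  have hflip : IsPullback f' g' g f := hsq.flip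
  set ρ := fiberMapOfIsPullback g f f' g' hflip (g' x') with hρ
  haveI : Flat ρ := flat_fiberMapOfIsPullback g f f' g' hflip (g' x')
  have hcomm : ∀ w, g.fiberι (f (g' x')) (ρ w) = f' (g'.fiberι (g' x') w) := by
    intro w
    have := congrArg (fun φ => φ w) (fiberMapOfIsPullback_fiberι g f f' g' hflip (g' x'))
    simpa only [Scheme.Hom.comp_apply] using this
  have hw : g (f' x') = f (g' x') := by
    have := congrArg (fun φ => φ x') hsq.w
    simpa only [Scheme.Hom.comp_apply] using this.symm
  have hyr : y ∈ Set.range (g.fiberι (f (g' x'))) := by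
    rw [g.range_fiberι]
    exact hgy.trans hw
  obtain ⟨yb, hyb⟩ := hyr
  have hsp : yb ⤳ ρ (g'.asFiber x') := by
    rw [← (g.fiberι (f (g' x'))).isEmbedding.isInducing.specializes_iff, hyb, hcomm,
      g'.fiberι_asFiber x']
    exact hy
  obtain ⟨tb, htb, hρtb⟩ := Flat.generalizingMap ρ hsp
  refine ⟨g'.fiberι (g' x') tb, ?_, ?_, ?_⟩
  · have := htb.map (g'.fiberι (g' x')).continuous
    rwa [g'.fiberι_asFiber x'] at this
  · rw [← hcomm, hρtb, hyb]
  · have : g'.fiberι (g' x') tb ∈ Set.range (g'.fiberι (g' x')) := ⟨_, rfl⟩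
    rw [g'.range_fiberι] at this
    exact this

end Groth.Agent.Lib.Helper73
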