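import Mathlib
import Groth.Prelude
import Groth.Agent.Lib.Helper73.DimFormula.ProductDim
import Groth.Agent.Lib.Helper67.FlatDepth12

/-! Local rings under extension of the base field: `dim O_{X_K,y} + trdeg_K κ(y) =
dim O_{X,x} + trdeg_k κ(x)` and the dimension of the fibre ring (helper73). -/

set_option autoImplicit false
open CategoryTheory AlgebraicGeometry TopologicalSpace Topology Limits
universe u
namespace Groth.Agent.Lib.Helper73

section FE

variable {k K : Type u} [Field k] [Field K] (ι : k →+* K) {X X' : Scheme.{u}}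
  (f : X ⟶ Spec (CommRingCat.of k)) [LocallyOfFiniteType f]
  (f' : X' ⟶ Spec (CommRingCat.of K)) [LocallyOfFiniteType f']
  (π : X' ⟶ X) (hsq : IsPullback π f' f (Spec.map (CommRingCat.ofHom ι)))

include hsq in
/-- Under extension of the base field, `dim O_{X',x'} + trdeg κ(x') = dim O_{X,x} + trdeg κ(x)`. -/
theorem ringKrullDim_stalk_add_trdegNat_eq_of_isPullback_field (x' : X') :
    ringKrullDim (X'.presheaf.stalk x') + ((trdegNat f' x' : ℕ) : WithBot ℕ∞) =
      ringKrullDim (X.presheaf.stalk (π x')) + ((trdegNat f (π x') : ℕ) : WithBot ℕ∞) := by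
  have := flat_of_isPullback_field ι f f' π hsq
  have := universallyOpen_of_isPullback_field ι f f' π hsq
  have h := (isDimFun_trdegNat f).coheight_add_eq_of_generalizingMap (isDimFun_trdegNat f') π
    π.continuous (Flat.generalizingMap π) π.isOpenMap (trdegNat_le_of_isPullback ι f f' π hsq)
    (fun x' => exists_open_forall_exists_generic_scheme f' x') x'
  rw [ringKrullDim_stalk_eq_coheight, ringKrullDim_stalk_eq_coheight]
  exact_mod_cast congrArg (fun a : ℕ∞ => (a : WithBot ℕ∞)) h

include hsq in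
/-- Under extension of the base field, the fibre ring `O_{X',x'}/m_x O_{X',x'}` has dimension
`trdeg κ(x) - trdeg κ(x')`. -/
theorem ringKrullDim_fibre_add_trdegNat_eq_of_isPullback_field (x' : X') :
    ringKrullDim (↥(X'.presheaf.stalk x') ⧸ Ideal.map (π.stalkMap x').hom
        (IsLocalRing.maximalIdeal ↥(X.presheaf.stalk (π x')))) +
      ((trdegNat f' x' : ℕ) : WithBot ℕ∞) = ((trdegNat f (π x') : ℕ) : WithBot ℕ∞) := by
  have hflat := flat_of_isPullback_field ι f f' π hsq
  have h1 := ringKrullDim_stalk_add_trdegNat_eq_of_isPullback_field ι f f' π hsq x'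
  have : IsLocallyNoetherian X := LocallyOfFiniteType.isLocallyNoetherian f
  have : IsLocallyNoetherian X' := LocallyOfFiniteType.isLocallyNoetherian f'
  letI : Algebra (X.presheaf.stalk (π x')) (X'.presheaf.stalk x') := (π.stalkMap x').hom.toAlgebra
  haveI : IsLocalHom (algebraMap (X.presheaf.stalk (π x')) (X'.presheaf.stalk x')) :=
    inferInstanceAs (IsLocalHom (π.stalkMap x').hom)
  haveI : Module.Flat (X.presheaf.stalk (π x')) (X'.presheaf.stalk x') :=
    Flat.stalkMap π x'
  have h2 := Groth.Agent.Lib.Helper67.ringKrullDim_eq_add_fibre_of_flat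
    (R := X.presheaf.stalk (π x')) (S := X'.presheaf.stalk x')
  change ringKrullDim _ = _ + ringKrullDim (↥(X'.presheaf.stalk x') ⧸ Ideal.map (π.stalkMap x').hom
        (IsLocalRing.maximalIdeal ↥(X.presheaf.stalk (π x')))) at h2
  rw [h2] at h1
  obtain ⟨n, hn⟩ := exists_ringKrullDim_stalk_eq_natCast (π x')
  rw [hn] at h1
  have hne : ringKrullDim (↥(X'.presheaf.stalk x') ⧸ Ideal.map (π.stalkMap x').hom
      (IsLocalRing.maximalIdeal ↥(X.presheaf.stalk (π x')))) ≠ ⊥ := by
    intro e
    rw [e, WithBot.add_bot, WithBot.bot_add] at h1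
    exact WithBot.bot_ne_coe.elim (by exact_mod_cast h1)
  obtain ⟨m, hm⟩ := WithBot.ne_bot_iff_exists.mp hne
  rw [← hm] at h1 ⊢
  have h1' : (n : ℕ∞) + m + (trdegNat f' x' : ℕ∞) = (n : ℕ∞) + (trdegNat f (π x') : ℕ∞) := by
    exact_mod_cast h1
  rw [add_assoc] at h1'
  have h3 := ENat.add_right_injective_of_ne_top (ENat.coe_ne_top n) h1'
  exact_mod_cast congrArg (fun a : ℕ∞ => (a : WithBot ℕ∞)) h3

end FE

end Groth.Agent.Lib.Helper73
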