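import Mathlib
import Groth.Prelude
import Groth.Agent.Lib.Helper22.GenStr
import Groth.Agent.Lib.Helper73.DimFormula.ProductDim
import Groth.Agent.Lib.Helper73.DimFormula.FiberDimAdd
import Groth.Agent.Lib.Helper73.DimFormula.FiberCodim

/-! Dimension of the image of a morphism of finite type over a field (helper73). -/

set_option autoImplicit false
open CategoryTheory AlgebraicGeometry TopologicalSpace Topology Limits
universe u
namespace Groth.Agent.Lib.Helper73

/-- Chevalley, local form: the image of a morphism of finite type contains a neighbourhood of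
`f η` in the closure of `f η`. -/
theorem exists_open_inter_closure_subset_range {S X : Scheme.{u}} (f : S ⟶ X)
    [LocallyOfFiniteType f] [QuasiCompact f] (η : S) :
    ∃ W : Set X, IsOpen W ∧ f η ∈ W ∧ W ∩ closure {f η} ⊆ Set.range f := by
  let I := Scheme.IdealSheafData.vanishingIdeal ⟨closure {f η}, isClosed_closure⟩
  let i : I.subscheme ⟶ X := I.subschemeι
  have hrange : Set.range i = closure {f η} := by
    rw [Scheme.IdealSheafData.range_subschemeι]
    exact Scheme.IdealSheafData.coe_support_vanishingIdeal _
  have hirr : IrreducibleSpace ↥I.subscheme :=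
    Groth.Agent.Lib.Helper72.GrpComp.irreducibleSpace_of_range i
      (by rw [hrange]; exact isIrreducible_singleton.closure)
  obtain ⟨ξ, hξ, hξgen⟩ := exists_generic_of_range_eq_closure i (f η) hrange
  have hξ' : ξ = genericPoint ↥I.subscheme :=
    ((hξgen _).antisymm (genericPoint_specializes ξ)).eq
  obtain ⟨V, hgV, -, hVopen⟩ := Groth.Agent.Lib.Helper22.GenStr.exists_open_generic
    (pullback.snd f i)
  obtain ⟨z, hz1, hz2⟩ := Scheme.Pullback.exists_preimage_pullback (f := f) (g := i) η ξ hξ.symm
  obtain ⟨W, hW, hWeq⟩ := i.isEmbedding.isInducing.isOpen_iff.mp hVopen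
  have hξW : ξ ∈ i ⁻¹' W := by
    rw [hWeq]
    exact ⟨⟨z, hz2⟩, by rw [hξ']; exact hgV⟩
  refine ⟨W, hW, by rw [← hξ]; exact hξW, ?_⟩
  rintro y ⟨hyW, hycl⟩
  rw [← hrange] at hycl
  obtain ⟨t, rfl⟩ := hycl
  have ht : t ∈ i ⁻¹' W := hyW
  rw [hWeq] at ht
  obtain ⟨z', rfl⟩ := ht.1
  refine ⟨pullback.fst f i z', ?_⟩
  rw [← Scheme.Hom.comp_apply, pullback.condition, Scheme.Hom.comp_apply]

/-- The dimension of the image of a morphism of finite type of schemes over a field is at least
the transcendence degree of any of its points. -/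
theorem trdegNat_le_topologicalKrullDim_range {k : Type u} [Field k] {S X : Scheme.{u}}
    (pX : X ⟶ Spec (CommRingCat.of k)) [LocallyOfFiniteType pX] (f : S ⟶ X)
    [LocallyOfFiniteType f] [QuasiCompact f] (η : S) :
    ((trdegNat pX (f η) : ℕ∞) : WithBot ℕ∞) ≤ topologicalKrullDim ↥(Set.range f) := by
  obtain ⟨W, hW, hxW, hsub⟩ := exists_open_inter_closure_subset_range f η
  rw [← (isDimFun_trdegNat pX).topologicalKrullDim_inter_closure_singleton hW hxW]
  exact IsInducing.topologicalKrullDim_le (f := Set.inclusion hsub)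
    (IsInducing.of_comp (continuous_inclusion hsub) continuous_subtype_val IsInducing.subtypeVal)

end Groth.Agent.Lib.Helper73
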