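import Mathlib
import Groth.Prelude
import Groth.Agent.Lib.Helper73.DimFormula.CodimOneQF
import Groth.Agent.Lib.Helper73.DimFormula.FieldExtScheme
import Groth.Agent.Lib.Helper73.DimFormula.SchemeLocal

/-! Local rings of `Spec R`, flatness of `Spec O_{X,x} → X` (helper73). -/

set_option autoImplicit false
open CategoryTheory AlgebraicGeometry TopologicalSpace Topology Limits
universe u
namespace Groth.Agent.Lib.Helper73

/-- The local rings of `Spec R` have dimension at most that of `R`. -/
lemma ringKrullDim_stalk_Spec_le (R : CommRingCat.{u}) (p : Spec R) :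
    ringKrullDim ((Spec R).presheaf.stalk p) ≤ ringKrullDim R := by
  rw [ringKrullDim_stalk_eq_height (isAffineOpen_top (Spec R)) p trivial]
  refine le_trans (Ideal.height_le_ringKrullDim_of_ne_top (Ideal.IsPrime.ne_top inferInstance)) ?_
  exact (ringKrullDim_eq_of_ringEquiv (Scheme.ΓSpecIso R).commRingCatIsoToRingEquiv).le

/-- `Spec 𝒪_{X,x} ⟶ X` is flat (as in helper51's `StalkBC`). -/
lemma flat_fromSpecStalk' {X : Scheme.{u}} (x : X) : Flat (X.fromSpecStalk x) := by
  have hU := isAffineOpen_opensRange (X.affineCover.f (X.affineCover.idx x))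
  have hx : x ∈ (X.affineCover.f (X.affineCover.idx x)).opensRange := X.affineCover.covers x
  rw [← hU.fromSpecStalk_eq_fromSpecStalk hx]
  dsimp [IsAffineOpen.fromSpecStalk]
  have : Flat (Spec.map (X.presheaf.germ _ x hx)) := by
    rw [Flat.SpecMap_iff]
    letI : Algebra Γ(X, (X.affineCover.f (X.affineCover.idx x)).opensRange) (X.presheaf.stalk x) :=
      (X.presheaf.germ _ x hx).hom.toAlgebra
    haveI := hU.isLocalization_stalk ⟨x, hx⟩
    have h1 : Module.Flat Γ(X, (X.affineCover.f (X.affineCover.idx x)).opensRange)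
        (X.presheaf.stalk x) :=
      IsLocalization.flat _ (hU.primeIdealOf ⟨x, hx⟩).asIdeal.primeCompl
    exact h1
  infer_instance

end Groth.Agent.Lib.Helper73
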