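import Groth.Agent.Lib.Helper73.DimFormula.PairLe
import Groth.Agent.Lib.Helper73.DimFormula.SpecStalk
import Groth.Agent.Lib.Helper73.DimFormula.FiberCodim

/-!
# The dimension inequality with only the local ring of the base Noetherian (helper73)

* `resTrdegNat_eq_of_isPullback_of_isPreimmersion`: residual transcendence degrees are invariant
  under base change along a preimmersion.
* `resTrdegNat_add_one_le_of_specializes_of_ne`: for `f : X ⟶ Y` locally of finite type, a proper
  specialization `η ⤳ ξ` in `X` and `O_{Y,f ξ}` Noetherian: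
  `trdeg κ(ξ)/κ(f ξ) + 1 ≤ dim O_{Y,f ξ} + trdeg κ(η)/κ(f η)`.
-/

set_option autoImplicit false
universe u
open AlgebraicGeometry CategoryTheory TopologicalSpace Opposite Order Limits

namespace Groth.Agent.Lib.Helper73

/-- Residual transcendence degrees are invariant under base change along a preimmersion. -/
theorem resTrdeg_eq_of_isPullback_of_isPreimmersion {X Y X' Y' : Scheme.{u}} {f : X ⟶ Y}
    {j : Y' ⟶ Y} {j' : X' ⟶ X} {f' : X' ⟶ Y'} (hsq : IsPullback j' f' f j) [IsPreimmersion j]
    (ζ' : X') : resTrdeg f' ζ' = resTrdeg f (j' ζ') := by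
  haveI : IsPreimmersion j' := MorphismProperty.of_isPullback hsq.flip ‹IsPreimmersion j›
  rw [← resTrdeg_comp_of_bijective_right f' j ζ'
      (residueFieldMap_bijective_of_isPreimmersion j (f' ζ')),
    ← resTrdeg_comp_of_bijective_left j' f ζ' (residueFieldMap_bijective_of_isPreimmersion j' ζ')]
  exact resTrdeg_congr hsq.w.symm ζ'

/-- The dimension inequality for a proper specialization, with only the local ring of the base at
the image of the special point Noetherian. -/
theorem resTrdegNat_add_one_le_of_specializes_of_ne {X Y : Scheme.{u}} (f : X ⟶ Y)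
    [LocallyOfFiniteType f] (ξ η : X) (hηξ : η ⤳ ξ) (hne : η ≠ ξ) (y : Y) (hy : f ξ = y)
    [IsNoetherianRing (Y.presheaf.stalk y)] :
    ((resTrdegNat f ξ : ℕ) : WithBot ℕ∞) + 1 ≤
      ringKrullDim (Y.presheaf.stalk y) + ((resTrdegNat f η : ℕ) : WithBot ℕ∞) := by
  subst hy
  set j := Y.fromSpecStalk (f ξ) with hj
  set j' := pullback.fst f j with hj'
  set f' := pullback.snd f j with hf'
  have hsq : IsPullback j' f' f j := IsPullback.of_hasPullback f j
  haveI : IsPreimmersion j' := MorphismProperty.of_isPullback hsq.flip (inferInstance : IsPreimmersion j)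
  have hrange : Set.range j' = f ⁻¹' Set.range j := Scheme.Pullback.range_fst f j
  have hrj : Set.range j = {t | t ⤳ f ξ} := Scheme.range_fromSpecStalk
  have hξr : ξ ∈ Set.range j' := by
    rw [hrange, Set.mem_preimage, hrj]
    exact specializes_rfl
  have hηr : η ∈ Set.range j' := by
    rw [hrange, Set.mem_preimage, hrj]
    exact hηξ.map f.continuous
  obtain ⟨ξ', hξ'⟩ := hξr
  obtain ⟨η', hη'⟩ := hηr
  have hsp : η' ⤳ ξ' := by
    rw [← j'.isEmbedding.isInducing.specializes_iff]
    have := hηξ
    rw [← hξ', ← hη'] at this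
    exact this
  have hne' : η' ≠ ξ' := by
    intro h
    exact hne (hη'.symm.trans ((congrArg (fun t => j' t) h).trans hξ'))
  obtain ⟨a, b, ha, hb, hab⟩ := codim_add_resTrdeg_le f' η' ξ' hsp
  have h1 : 1 ≤ a := by
    have := one_le_codim η' ξ' hsp hne'
    rw [ha] at this
    exact_mod_cast this
  have h2 : ((b : ℕ) : WithBot ℕ∞) ≤ ringKrullDim (Y.presheaf.stalk (f ξ)) := by
    rw [← hb]
    exact (codim_le_ringKrullDim_stalk (f' η') (f' ξ')).trans (ringKrullDim_stalk_Spec_le _ _)
  rw [resTrdeg_eq_of_isPullback_of_isPreimmersion hsq, resTrdeg_eq_of_isPullback_of_isPreimmersion hsq,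
    hξ', hη', resTrdeg_eq_resTrdegNat, resTrdeg_eq_resTrdegNat] at hab
  have hab' : a + resTrdegNat f ξ ≤ b + resTrdegNat f η := by exact_mod_cast hab
  calc ((resTrdegNat f ξ : ℕ) : WithBot ℕ∞) + 1 ≤ ((b + resTrdegNat f η : ℕ) : WithBot ℕ∞) := by
        have : resTrdegNat f ξ + 1 ≤ b + resTrdegNat f η := by omega
        exact_mod_cast this
    _ = ((b : ℕ) : WithBot ℕ∞) + ((resTrdegNat f η : ℕ) : WithBot ℕ∞) := by push_cast; rfl
    _ ≤ _ := add_le_add_left h2 _

end Groth.Agent.Lib.Helper73
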