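import Mathlib
import Groth.Prelude
import Groth.Agent.Lib.Helper73.DimFormula.ProductDim

/-! Nowhere dense locally closed subsets of equidimensional schemes locally of finite type over a
field are those of smaller dimension (helper73). -/

set_option autoImplicit false
open CategoryTheory AlgebraicGeometry TopologicalSpace Topology Limits
universe u
namespace Groth.Agent.Lib.Helper73

/-- A point without proper generizations of a scheme locally of finite type over a field has an
open neighbourhood contained in its closure. -/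
theorem exists_open_subset_closure_of_maximal {k : Type u} [Field k] {Y : Scheme.{u}}
    (g : Y ⟶ Spec (CommRingCat.of k)) [LocallyOfFiniteType g] (ξ : Y)
    (hξ : ∀ t : Y, t ⤳ ξ → t = ξ) :
    ∃ W : Set Y, IsOpen W ∧ ξ ∈ W ∧ W ⊆ closure {ξ} := by
  obtain ⟨W, hW, hξW, hall⟩ := exists_open_forall_exists_generic_scheme g ξ
  refine ⟨W, hW, hξW, fun w hw => ?_⟩
  obtain ⟨η, h1, h2⟩ := hall w hw
  rw [hξ η h2] at h1
  exact specializes_iff_mem_closure.mp h1

theorem isNowhereDense_iff_topologicalKrullDim_lt {k : Type u} [Field k] {Y : Scheme.{u}} [Nonempty ↥Y]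
    (g : Y ⟶ Spec (CommRingCat.of k)) [LocallyOfFiniteType g]
    (heq : ∀ T ∈ irreducibleComponents ↥Y, topologicalKrullDim ↥T = topologicalKrullDim ↥Y)
    (Z : Set ↥Y) (hZ : IsLocallyClosed Z) :
    IsNowhereDense Z ↔ topologicalKrullDim ↥Z < topologicalKrullDim ↥Y := by
  have hδ := isDimFun_trdegNat g
  -- maximal points have the dimension of `Y`
  have hF1 : ∀ ξ : Y, (∀ t : Y, t ⤳ ξ → t = ξ) →
      topologicalKrullDim ↥Y = ((trdegNat g ξ : ℕ∞) : WithBot ℕ∞) := by
    intro ξ hξ
    rw [← heq _ (closure_singleton_mem_irreducibleComponents_of_maximal ξ hξ),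
      hδ.topologicalKrullDim_closure_singleton ξ]
  obtain ⟨y₀⟩ := ‹Nonempty ↥Y›
  obtain ⟨ξ₀, -, hξ₀max⟩ := exists_maximal_specializes y₀
  have hd := hF1 ξ₀ hξ₀max
  set d := trdegNat g ξ₀ with hd_def
  have hF3 : ∀ y : Y, (∃ t : Y, t ⤳ y ∧ t ≠ y) → trdegNat g y < d := by
    rintro y ⟨t, ht, hne⟩
    obtain ⟨ξ, hξt, hξmax⟩ := exists_maximal_specializes t
    have h1 := hF1 ξ hξmax
    rw [hd] at h1
    have h1' : d = trdegNat g ξ := by exact_mod_cast h1
    rw [h1']
    exact lt_of_lt_of_le (hδ.strictMono (hδ.lt_of_specializes_of_ne ht hne))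
      (hδ.le_of_specializes hξt)
  obtain ⟨U, C, hU, hC, rfl⟩ := hZ
  rw [hδ.topologicalKrullDim_inter_eq_iSup hU hC, hd]
  constructor
  · intro hnd
    have hlt : ∀ z : ↥(U ∩ C), trdegNat g z.1 < d := by
      intro z
      apply hF3
      by_contra hmax
      push Not at hmax
      obtain ⟨W, hW, hzW, hWsub⟩ := exists_open_subset_closure_of_maximal g z.1 hmax
      have : z.1 ∈ interior (closure (U ∩ C)) := by
        rw [mem_interior]
        exact ⟨W, hWsub.trans (closure_mono (Set.singleton_subset_iff.mpr z.2)), hW, hzW⟩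
      rw [hnd] at this
      exact this
    by_cases hemp : IsEmpty ↥(U ∩ C)
    · rw [iSup_of_empty]
      exact WithBot.bot_lt_coe _
    · rw [not_isEmpty_iff] at hemp
      obtain ⟨z₀⟩ := hemp
      have hd1 : 1 ≤ d := by have := hlt z₀; omega
      have : (⨆ t : ↥(U ∩ C), ((trdegNat g t.1 : ℕ∞) : WithBot ℕ∞)) ≤
          (((d - 1 : ℕ) : ℕ∞) : WithBot ℕ∞) := by
        refine iSup_le fun z => ?_
        have := hlt z
        exact_mod_cast (by omega : trdegNat g z.1 ≤ d - 1)
      refine lt_of_le_of_lt this ?_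
      exact_mod_cast (by omega : d - 1 < d)
  · intro hlt
    rw [IsNowhereDense]
    by_contra hne
    obtain ⟨v, hv⟩ := Set.nonempty_iff_ne_empty.mpr hne
    obtain ⟨ξ, hξv, hξmax⟩ := exists_maximal_specializes v
    have hξV : ξ ∈ interior (closure (U ∩ C)) := hξv.mem_open isOpen_interior hv
    obtain ⟨W, hW, hξW, hWsub⟩ := exists_open_subset_closure_of_maximal g ξ hξmax
    have hξcl : ξ ∈ closure (U ∩ C) := interior_subset hξV
    obtain ⟨z, hzW, hzZ⟩ := mem_closure_iff.mp hξcl W hW hξW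
    have hξz : ξ ⤳ z := specializes_iff_mem_closure.mpr (hWsub hzW)
    have hξU : ξ ∈ U := hξz.mem_open hU hzZ.1
    have hξC : ξ ∈ C := closure_minimal Set.inter_subset_right hC hξcl
    have h1 := hF1 ξ hξmax
    rw [hd] at h1
    have := le_iSup (fun t : ↥(U ∩ C) => ((trdegNat g t.1 : ℕ∞) : WithBot ℕ∞)) ⟨ξ, hξU, hξC⟩
    rw [← h1] at this
    exact absurd hlt (not_lt.mpr this)

end Groth.Agent.Lib.Helper73
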