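import Groth.Agent.Lib.Helper73.DimFormula.IrrEq
import Groth.Agent.Lib.Helper73.DimFormula.JacobsonDense

/-!
# Openness at a point and dimension (EGA IV 14.2) (helper73)

* `exists_comap_eq_coheight_le`: for a local homomorphism `A → B` of Noetherian local rings such
  that the primes of a nonempty open part of `V(p)` lift to `B`, there is a prime `q` of `B` over
  `p` with `dim B/q ≥ dim A/p`.
* `exists_generization_codim_le`, `exists_maximal_generization_resTrdegNat_eq`,
  `exists_maximal_generization_of_isOpenAt` (EGA IV 14.2.1, pointwise form).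
* `exists_specializes_of_isOpenAt`: on a locally Noetherian scheme, openness at a point lifts
  generizations.
* `krullDim_Icc_add_le`, `codim_add_le`, `codim_mono_left`, `resTrdegNat_le_codim_add`,
  `isOpenAt_of_fiber_hyp`.
-/

set_option autoImplicit false
open CategoryTheory AlgebraicGeometry TopologicalSpace
universe u

namespace Groth.Agent.Lib.Helper73

section RingLemma

variable {A : Type*} [CommRing A]

/-- `dim A/p` is the coheight of `p` in the spectrum. -/
lemma ringKrullDim_quotient_eq_coheight (p : PrimeSpectrum A) :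
    ringKrullDim (A ⧸ p.asIdeal) = (Order.coheight p : WithBot ℕ∞) := by
  rw [ringKrullDim_quotient, Order.coheight_eq_krullDim_Ici]
  have : PrimeSpectrum.zeroLocus (p.asIdeal : Set A) = Set.Ici p := by
    ext P
    simp only [PrimeSpectrum.mem_zeroLocus, SetLike.coe_subset_coe, Set.mem_Ici]
    rfl
  rw [this]

/-- Relative Krull principal ideal theorem: if `P₁` is minimal over `p + (x)`, there is no prime
strictly between `p` and `P₁`. -/
lemma eq_of_le_of_lt_of_mem_minimalPrimes [IsNoetherianRing A] (p P₁ Q : PrimeSpectrum A) (x : A)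
    (hP₁ : P₁.asIdeal ∈ (p.asIdeal ⊔ Ideal.span {x}).minimalPrimes)
    (hpQ : p ≤ Q) (hQP : Q < P₁) : Q = p := by
  have hpP : p ≤ P₁ := hpQ.trans hQP.le
  have h1 := Ideal.map_height_le_one_of_mem_minimalPrimes hP₁
  have h2 := krullDim_Icc_primeSpectrum p P₁ hpP
  by_contra hne
  have hpQ' : p < Q := lt_of_le_of_ne hpQ (Ne.symm hne)
  let a : Set.Icc p P₁ := ⟨p, le_refl _, hpP⟩
  let b : Set.Icc p P₁ := ⟨Q, hpQ, hQP.le⟩
  let c : Set.Icc p P₁ := ⟨P₁, hpP, le_refl _⟩
  have hab : a < b := hpQ'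
  have hbc : b < c := hQP
  have h3 : Order.height a + 1 ≤ Order.height b := Order.height_add_one_le hab
  have h4 : Order.height b + 1 ≤ Order.height c := Order.height_add_one_le hbc
  have h5 : (Order.height c : WithBot ℕ∞) ≤ Order.krullDim (Set.Icc p P₁) :=
    Order.height_le_krullDim c
  rw [h2] at h5
  have h6 : (Order.height c : WithBot ℕ∞) ≤ ((1 : ℕ∞) : WithBot ℕ∞) :=
    h5.trans (by exact_mod_cast h1)
  have h7 : Order.height c ≤ 1 := by exact_mod_cast h6
  have h8 : (2 : ℕ∞) ≤ Order.height c := by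
    calc (2 : ℕ∞) = 0 + 1 + 1 := by norm_num
      _ ≤ Order.height a + 1 + 1 := by gcongr; exact bot_le
      _ ≤ Order.height b + 1 := by gcongr
      _ ≤ Order.height c := h4
  have := h8.trans h7
  norm_num at this

/-- In a Noetherian ring, if `p` has coheight `d + 1 ≥ 2` and `J ⊄ p`, there is a prime `p₁ ⊋ p`
of coheight `d` with `J ⊄ p₁`. -/
lemma exists_gt_coheight_eq_not_le [IsNoetherianRing A] (p : PrimeSpectrum A) (d : ℕ) (hd : 1 ≤ d)
    (hp : Order.coheight p = ((d : ℕ) : ℕ∞) + 1) (J : Ideal A) (hJ : ¬ J ≤ p.asIdeal) :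
    ∃ p₁ : PrimeSpectrum A, p < p₁ ∧ Order.coheight p₁ = ((d : ℕ) : ℕ∞) ∧ ¬ J ≤ p₁.asIdeal := by
  classical
  obtain ⟨-, ⟨P1', hpP1', hP1'⟩, hall⟩ := Order.coheight_eq_coe_add_one_iff.mp hp
  obtain ⟨d', rfl⟩ : ∃ d', d = d' + 1 := ⟨d - 1, by omega⟩
  have hP1'' : Order.coheight P1' = ((d' : ℕ) : ℕ∞) + 1 := by rw [hP1']; push_cast; rfl
  obtain ⟨-, ⟨P2, hP1'P2, hP2⟩, -⟩ := Order.coheight_eq_coe_add_one_iff.mp hP1''
  have hpP2 : p < P2 := hpP1'.trans hP1'P2
  -- minimal primes over `p + J`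
  have hfin : (p.asIdeal ⊔ J).minimalPrimes.Finite :=
    Ideal.finite_minimalPrimes_of_isNoetherianRing A _
  let M' : Finset (Ideal A) := hfin.toFinset.filter (fun q => ¬ P2.asIdeal ≤ q)
  let s : Finset (Ideal A) := insert p.asIdeal M'
  have hsprime : ∀ i ∈ s, i ≠ p.asIdeal → i ≠ p.asIdeal → (id i : Ideal A).IsPrime := by
    intro i hi hne _
    rw [Finset.mem_insert] at hi
    rcases hi with rfl | hi
    · exact absurd rfl hne
    · rw [Finset.mem_filter, Set.Finite.mem_toFinset] at hi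
      exact hi.1.isPrime
  have havoid : ¬ ((P2.asIdeal : Set A) ⊆ ⋃ i ∈ (↑s : Set (Ideal A)), (id i : Ideal A)) := by
    rw [Ideal.subset_union_prime p.asIdeal p.asIdeal hsprime]
    rintro ⟨i, hi, hle⟩
    rw [Finset.mem_insert] at hi
    rcases hi with rfl | hi
    · exact absurd (show P2 ≤ p from hle) (not_le_of_gt hpP2)
    · rw [Finset.mem_filter] at hi
      exact hi.2 hle
  rw [Set.not_subset] at havoid
  obtain ⟨x, hxP2, hxs⟩ := havoid
  have hxs' : ∀ i ∈ s, x ∉ i := by
    intro i hi hxi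
    apply hxs
    simp only [Set.mem_iUnion]
    exact ⟨i, hi, hxi⟩
  have hxp : x ∉ p.asIdeal := hxs' _ (Finset.mem_insert_self _ _)
  have hle2 : p.asIdeal ⊔ Ideal.span {x} ≤ P2.asIdeal := by
    rw [sup_le_iff]
    refine ⟨hpP2.le, ?_⟩
    rw [Ideal.span_le, Set.singleton_subset_iff]
    exact hxP2
  obtain ⟨P1i, hP1i, hP1iP2⟩ := Ideal.exists_minimalPrimes_le hle2
  have hP1prime : P1i.IsPrime := hP1i.1.1
  let P1 : PrimeSpectrum A := ⟨P1i, hP1prime⟩
  have hpP1le : p ≤ P1 := le_sup_left.trans hP1i.1.2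
  have hxP1 : x ∈ P1i := hP1i.1.2 (Ideal.mem_sup_right (Ideal.mem_span_singleton_self x))
  have hpP1 : p < P1 := by
    refine lt_of_le_of_ne hpP1le ?_
    intro heq
    apply hxp
    rw [heq]
    exact hxP1
  have hP1P2 : P1 < P2 := by
    refine lt_of_le_of_ne hP1iP2 ?_
    intro heq
    have := eq_of_le_of_lt_of_mem_minimalPrimes p P1 P1' x hP1i hpP1'.le (by rw [heq]; exact hP1'P2)
    exact absurd this (ne_of_gt hpP1')
  refine ⟨P1, hpP1, ?_, ?_⟩
  · apply le_antisymm (hall P1 hpP1)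
    have := Order.coheight_add_one_le hP1P2
    rw [hP2] at this
    push_cast
    exact this
  · intro hJP1
    have hle3 : p.asIdeal ⊔ J ≤ P1i := sup_le hpP1le hJP1
    obtain ⟨q, hq, hqP1⟩ := Ideal.exists_minimalPrimes_le hle3
    have hqprime : q.IsPrime := hq.1.1
    let Q : PrimeSpectrum A := ⟨q, hqprime⟩
    have hpQ : p ≤ Q := le_sup_left.trans hq.1.2
    have hQne : Q ≠ p := by
      intro heq
      apply hJ
      have : J ≤ q := le_sup_right.trans hq.1.2
      rw [← heq]
      exact this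
    have hQP1 : Q = P1 := by
      by_contra hne
      exact hQne (eq_of_le_of_lt_of_mem_minimalPrimes p P1 Q x hP1i hpQ
        (lt_of_le_of_ne hqP1 hne))
    have hqM' : q ∈ M' := by
      rw [Finset.mem_filter, Set.Finite.mem_toFinset]
      refine ⟨hq, ?_⟩
      intro hP2q
      have : P2 ≤ P1 := by rw [← hQP1]; exact hP2q
      exact absurd this (not_le_of_gt hP1P2)
    have hxq : x ∈ q := by
      have : q = P1i := congrArg PrimeSpectrum.asIdeal hQP1
      rw [this]
      exact hxP1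
    exact hxs' q (Finset.mem_insert_of_mem hqM') hxq


/-- Let `φ : A → B` be a local homomorphism of Noetherian local rings and `p` a prime of `A` such
that all primes of `V(p)` in a nonempty open subset `D(I)` are contractions of primes of `B`. Then
there is a prime `q` of `B` over `p` with `dim B/q ≥ dim A/p`. -/
theorem exists_comap_eq_coheight_le {B : Type*} [CommRing B] [IsNoetherianRing A] [IsLocalRing A]
    [IsNoetherianRing B] [IsLocalRing B] (φ : A →+* B) [IsLocalHom φ] (d : ℕ) :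
    ∀ (p : PrimeSpectrum A) (I : Ideal A), ¬ I ≤ p.asIdeal → Order.coheight p = ((d : ℕ) : ℕ∞) →
      (∀ p' : PrimeSpectrum A, p ≤ p' → ¬ I ≤ p'.asIdeal →
        ∃ q' : PrimeSpectrum B, PrimeSpectrum.comap φ q' = p') →
      ∃ q : PrimeSpectrum B, PrimeSpectrum.comap φ q = p ∧ ((d : ℕ) : ℕ∞) ≤ Order.coheight q := by
  classical
  induction d with
  | zero =>
    intro p I _ hp _
    refine ⟨IsLocalRing.closedPoint B, ?_, by simp⟩
    rw [IsLocalRing.comap_closedPoint]
    have hmax : IsMax p := Order.coheight_eq_zero.mp (by simpa using hp)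
    have hle : p ≤ IsLocalRing.closedPoint A := IsLocalRing.le_maximalIdeal p.2.ne_top
    exact le_antisymm (hmax hle) hle
  | succ d ih =>
    intro p I hI hp hlift
    rcases Nat.eq_zero_or_pos d with rfl | hd
    · -- `d + 1 = 1`
      obtain ⟨q', hq'⟩ := hlift p le_rfl hI
      refine ⟨q', hq', ?_⟩
      have hle : q' ≤ IsLocalRing.closedPoint B := IsLocalRing.le_maximalIdeal q'.2.ne_top
      have hne : q' ≠ IsLocalRing.closedPoint B := by
        intro heq
        rw [heq, IsLocalRing.comap_closedPoint] at hq'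
        have h0 : Order.coheight (IsLocalRing.closedPoint A) = 0 := by
          rw [Order.coheight_eq_zero]
          intro t ht
          exact (IsLocalRing.le_maximalIdeal t.2.ne_top : t ≤ IsLocalRing.closedPoint A)
        rw [← hq', h0] at hp
        norm_num at hp
      have := Order.coheight_add_one_le (lt_of_le_of_ne hle hne)
      calc ((0 + 1 : ℕ) : ℕ∞) = 0 + 1 := by norm_num
        _ ≤ Order.coheight (IsLocalRing.closedPoint B) + 1 := by gcongr; exact bot_le
        _ ≤ Order.coheight q' := this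
    · -- `d + 1 ≥ 2`
      have hfin : (p.asIdeal.map φ).minimalPrimes.Finite :=
        Ideal.finite_minimalPrimes_of_isNoetherianRing B _
      let N : Finset (Ideal B) := hfin.toFinset.filter (fun q => q.comap φ ≠ p.asIdeal)
      let I' : Ideal A := I ⊓ N.inf (fun q => q.comap φ)
      have hI'I : I' ≤ I := inf_le_left
      have hI'N : ∀ q ∈ N, I' ≤ q.comap φ := fun q hq => inf_le_right.trans (Finset.inf_le hq)
      have hI'p : ¬ I' ≤ p.asIdeal := by
        intro hle
        rcases p.2.inf_le.mp hle with h | h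
        · exact hI h
        · obtain ⟨q, hqN, hqp⟩ := p.2.inf_le'.mp h
          rw [Finset.mem_filter, Set.Finite.mem_toFinset] at hqN
          apply hqN.2
          apply le_antisymm hqp
          rw [← Ideal.map_le_iff_le_comap]
          exact hqN.1.1.2
      have hp' : Order.coheight p = ((d : ℕ) : ℕ∞) + 1 := by rw [hp]; push_cast; rfl
      obtain ⟨p₁, hpp₁, hp₁, hI'p₁⟩ := exists_gt_coheight_eq_not_le p d hd hp' I' hI'p
      obtain ⟨q₁, hq₁, hdq₁⟩ := ih p₁ I' hI'p₁ hp₁ (by
        intro p' hp₁p' hI'p'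
        exact hlift p' (hpp₁.le.trans hp₁p') (fun h => hI'p' (hI'I.trans h)))
      have hmap : p.asIdeal.map φ ≤ q₁.asIdeal := by
        rw [Ideal.map_le_iff_le_comap]
        have : p ≤ PrimeSpectrum.comap φ q₁ := by rw [hq₁]; exact hpp₁.le
        exact this
      obtain ⟨qi, hqi, hqiq₁⟩ := Ideal.exists_minimalPrimes_le hmap
      have hqiprime : qi.IsPrime := hqi.1.1
      let q : PrimeSpectrum B := ⟨qi, hqiprime⟩
      have hcomap : qi.comap φ = p.asIdeal := by
        by_contra hne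
        have hqN : qi ∈ N := by
          rw [Finset.mem_filter, Set.Finite.mem_toFinset]
          exact ⟨hqi, hne⟩
        apply hI'p₁
        refine (hI'N qi hqN).trans ?_
        have h1 : qi.comap φ ≤ q₁.asIdeal.comap φ := Ideal.comap_mono hqiq₁
        have h2 : q₁.asIdeal.comap φ = p₁.asIdeal := congrArg PrimeSpectrum.asIdeal hq₁
        rw [h2] at h1
        exact h1
      have hcomap' : PrimeSpectrum.comap φ q = p := PrimeSpectrum.ext hcomap
      refine ⟨q, hcomap', ?_⟩
      have hlt : q < q₁ := by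
        refine lt_of_le_of_ne hqiq₁ ?_
        intro heq
        rw [heq, hq₁] at hcomap'
        exact absurd hcomap' (ne_of_gt hpp₁)
      have := Order.coheight_add_one_le hlt
      calc ((d + 1 : ℕ) : ℕ∞) = (d : ℕ∞) + 1 := by push_cast; rfl
        _ ≤ Order.coheight q₁ + 1 := by gcongr
        _ ≤ Order.coheight q := this


end RingLemma

set_option backward.isDefEq.respectTransparency.types false in
/-- Key lemma (EGA IV 14.2.1): let `f : X ⟶ Y` be locally of finite type with `Y` locally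
Noetherian, `ζ ∈ X`, and `η` a generization of `f ζ` such that every point between `η` and `f ζ`
lifts to a generization of `ζ` (e.g. if `f` is open at `ζ`). Then there is a generization `ξ` of
`ζ` over `η` with `codim(η, f ζ) ≤ codim(ξ, ζ)`. -/
theorem exists_generization_codim_le {X Y : Scheme.{u}} [IsLocallyNoetherian Y] (f : X ⟶ Y)
    [LocallyOfFiniteType f] (ζ : X) (η : Y) (hη : η ⤳ f ζ)
    (hlift : ∀ y' : Y, η ⤳ y' → y' ⤳ f ζ → ∃ x' : X, x' ⤳ ζ ∧ f x' = y') :
    ∃ ξ : X, ξ ⤳ ζ ∧ f ξ = η ∧ codim η (f ζ) ≤ codim ξ ζ := by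
  have hLN : IsLocallyNoetherian X := LocallyOfFiniteType.isLocallyNoetherian f
  have hηr : η ∈ Set.range (Y.fromSpecStalk (f ζ)) := by
    rw [Scheme.range_fromSpecStalk]; exact hη
  obtain ⟨p, hp⟩ := hηr
  let p' : PrimeSpectrum (Y.presheaf.stalk (f ζ)) := p
  obtain ⟨d, hd⟩ := exists_codim_eq_natCast η (f ζ) hη
  have hcoh : Order.coheight p' = ((d : ℕ) : ℕ∞) := by
    have h1 := ringKrullDim_stalk_quotient_eq_codim (f ζ) p'
    rw [ringKrullDim_quotient_eq_coheight] at h1
    have h2 : (Y.fromSpecStalk (f ζ)) p' = η := hp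
    rw [h2, hd] at h1
    exact_mod_cast h1
  have hnat : ∀ q : PrimeSpectrum (X.presheaf.stalk ζ),
      (Y.fromSpecStalk (f ζ)) (PrimeSpectrum.comap (f.stalkMap ζ).hom q) =
        f ((X.fromSpecStalk ζ) q) := by
    intro q
    have := Scheme.SpecMap_stalkMap_fromSpecStalk f (x := ζ)
    have h2 := congrArg (fun g => g.base q) this
    exact h2
  obtain ⟨q, hq, hdq⟩ := exists_comap_eq_coheight_le (f.stalkMap ζ).hom d p' ⊤
    (fun h => p'.2.ne_top (top_le_iff.mp h)) hcoh (by
      intro p'' hp'' _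
      have h1 : η ⤳ (Y.fromSpecStalk (f ζ)) p'' := by
        have := (fromSpecStalk_le_iff (f ζ) p'' p').mpr hp''
        have h2 : (Y.fromSpecStalk (f ζ)) p' = η := hp
        rw [h2] at this
        exact this
      have h2 : (Y.fromSpecStalk (f ζ)) p'' ⤳ f ζ := by
        have : (Y.fromSpecStalk (f ζ)) p'' ∈ Set.range (Y.fromSpecStalk (f ζ)) := ⟨p'', rfl⟩
        rw [Scheme.range_fromSpecStalk] at this
        exact this
      obtain ⟨x', hx'ζ, hfx'⟩ := hlift _ h1 h2
      have hx'r : x' ∈ Set.range (X.fromSpecStalk ζ) := by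
        rw [Scheme.range_fromSpecStalk]; exact hx'ζ
      obtain ⟨q', hq'⟩ := hx'r
      refine ⟨q', ?_⟩
      apply (Y.fromSpecStalk (f ζ)).isEmbedding.injective
      rw [hnat q', hq', hfx'])
  refine ⟨(X.fromSpecStalk ζ) q, ?_, ?_, ?_⟩
  · have : (X.fromSpecStalk ζ) q ∈ Set.range (X.fromSpecStalk ζ) := ⟨q, rfl⟩
    rw [Scheme.range_fromSpecStalk] at this
    exact this
  · rw [← hnat q, hq]
    exact hp
  · rw [hd, ← ringKrullDim_stalk_quotient_eq_codim ζ q, ringKrullDim_quotient_eq_coheight]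
    exact_mod_cast hdq


/-- Codimension is monotone in the generic point. -/
lemma codim_mono_left {X : Scheme.{u}} (x x₀ x' : X) (h : x ⤳ x₀) : codim x₀ x' ≤ codim x x' := by
  unfold codim
  have h' : x₀ ≤ x := h
  exact Order.krullDim_le_of_strictMono
    (fun t : Set.Icc x' x₀ => (⟨t.1, t.2.1, t.2.2.trans h'⟩ : Set.Icc x' x))
    (fun a b hab => hab)

/-- EGA IV 14.2.1, pointwise form: if `ζ` is a maximal point of its fibre, `η` is a maximal point
of `Y` generizing `f ζ`, and all points between `η` and `f ζ` lift to generizations of `ζ`, then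
there is a maximal point `ξ` of `X` over `η` specializing to `ζ` with the same residual
transcendence degree and `codim(ξ, ζ) = codim(η, f ζ)`. -/
theorem exists_maximal_generization_resTrdegNat_eq {X Y : Scheme.{u}} [IsLocallyNoetherian Y]
    (f : X ⟶ Y) [LocallyOfFiniteType f] (ζ : X)
    (hζmax : ∀ t : X, t ⤳ ζ → f t = f ζ → t = ζ) (η : Y) (hη : η ⤳ f ζ)
    (hηmax : ∀ t : Y, t ⤳ η → t = η)
    (hlift : ∀ y' : Y, η ⤳ y' → y' ⤳ f ζ → ∃ x' : X, x' ⤳ ζ ∧ f x' = y') :
    ∃ ξ : X, ξ ⤳ ζ ∧ f ξ = η ∧ (∀ t : X, t ⤳ ξ → t = ξ) ∧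
      resTrdegNat f ξ = resTrdegNat f ζ ∧ codim ξ ζ = codim η (f ζ) := by
  obtain ⟨ξ₀, hξ₀ζ, hfξ₀, hcod⟩ := exists_generization_codim_le f ζ η hη hlift
  obtain ⟨ξ, hξξ₀, hξmax⟩ := exists_maximal_specializes ξ₀
  have hξζ : ξ ⤳ ζ := hξξ₀.trans hξ₀ζ
  have hfξ : f ξ = η := hηmax _ (by rw [← hfξ₀]; exact hξξ₀.map f.continuous)
  have hcod2 : codim η (f ζ) ≤ codim ξ ζ := hcod.trans (codim_mono_left ξ ξ₀ ζ hξξ₀)
  obtain ⟨a, b, ha, hb, hab⟩ := codim_add_resTrdeg_le f ξ ζ hξζ
  rw [resTrdeg_eq_resTrdegNat, resTrdeg_eq_resTrdegNat] at hab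
  have hab' : a + resTrdegNat f ζ ≤ b + resTrdegNat f ξ := by exact_mod_cast hab
  rw [hfξ] at hb
  rw [ha, hb] at hcod2
  have hba : b ≤ a := by exact_mod_cast hcod2
  have hchev := resTrdegNat_le_of_specializes_of_maximal f ξ ζ hξζ hζmax
  refine ⟨ξ, hξζ, hfξ, hξmax, by omega, ?_⟩
  rw [ha, hb]
  have : a = b := by omega
  rw [this]


end Groth.Agent.Lib.Helper73

namespace Groth.Agent.Lib.Helper73

/-- In a Noetherian quasi-sober space, a map which is open at `ζ` lifts generizations of `f ζ` to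
generizations of `ζ`. -/
lemma exists_specializes_of_isOpenAt_of_noetherianSpace {W V : Type*} [TopologicalSpace W]
    [TopologicalSpace V] [NoetherianSpace W] [QuasiSober W] [T0Space V] (f : W → V)
    (hf : Continuous f) (ζ : W) (h : EGA43.IsOpenAt f ζ) (y' : V) (hy' : y' ⤳ f ζ) :
    ∃ x' : W, x' ⤳ ζ ∧ f x' = y' := by
  let T : Set W := f ⁻¹' {y'}
  have h1 : ζ ∈ closure T := by
    rw [mem_closure_iff]
    intro U hU hζU
    have h2 : f '' U ∈ nhds (f ζ) := h U (hU.mem_nhds hζU)
    have h3 : f '' U ∈ nhds y' := hy' h2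
    obtain ⟨x, hxU, hx⟩ := mem_of_mem_nhds h3
    exact ⟨x, hxU, hx⟩
  let S : Set (Closeds W) := {Z | ζ ∈ closure (T ∩ (Z : Set W))}
  have hSne : S.Nonempty := ⟨⊤, by
    change ζ ∈ closure (T ∩ Set.univ)
    rw [Set.inter_univ]; exact h1⟩
  obtain ⟨Z, hZS, hZmin⟩ := WellFounded.has_min (wellFounded_lt (α := Closeds W)) S hSne
  have hZmin' : ∀ Z' : Closeds W, Z' ∈ S → Z' ≤ Z → Z' = Z := by
    intro Z' hZ'S hle
    by_contra hne
    exact hZmin Z' hZ'S (lt_of_le_of_ne hle hne)
  have hZζ : ζ ∈ closure (T ∩ (Z : Set W)) := hZS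
  have hTZne : (T ∩ (Z : Set W)).Nonempty := by
    by_contra hem
    rw [Set.not_nonempty_iff_eq_empty] at hem
    rw [hem, closure_empty] at hZζ
    exact hZζ
  -- `Z` is irreducible
  have hZirr : IsIrreducible (Z : Set W) := by
    refine ⟨hTZne.mono Set.inter_subset_right, ?_⟩
    rw [isPreirreducible_iff_isClosed_union_isClosed]
    intro Z₁ Z₂ hZ₁ hZ₂ hsub
    have hcov : T ∩ (Z : Set W) = (T ∩ (Z ∩ Z₁ : Set W)) ∪ (T ∩ (Z ∩ Z₂ : Set W)) := by
      ext t
      simp only [Set.mem_inter_iff, Set.mem_union]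
      constructor
      · rintro ⟨ht, htZ⟩
        rcases hsub htZ with h | h
        · exact Or.inl ⟨ht, htZ, h⟩
        · exact Or.inr ⟨ht, htZ, h⟩
      · rintro (⟨ht, htZ, -⟩ | ⟨ht, htZ, -⟩) <;> exact ⟨ht, htZ⟩
    rw [hcov, closure_union] at hZζ
    rcases hZζ with h | h
    · left
      have := hZmin' ⟨Z ∩ Z₁, Z.isClosed.inter hZ₁⟩ h Set.inter_subset_left
      intro t ht
      have h2 : t ∈ ((⟨Z ∩ Z₁, Z.isClosed.inter hZ₁⟩ : Closeds W) : Set W) := by rw [this]; exact ht
      exact h2.2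
    · right
      have := hZmin' ⟨Z ∩ Z₂, Z.isClosed.inter hZ₂⟩ h Set.inter_subset_left
      intro t ht
      have h2 : t ∈ ((⟨Z ∩ Z₂, Z.isClosed.inter hZ₂⟩ : Closeds W) : Set W) := by rw [this]; exact ht
      exact h2.2
  obtain ⟨g, hg⟩ := QuasiSober.sober hZirr Z.isClosed
  have hgZ : closure ({g} : Set W) = Z := hg.def
  -- `closure (T ∩ Z) = Z`
  have hcl : closure (T ∩ (Z : Set W)) = Z := by
    have hsub : closure (T ∩ (Z : Set W)) ⊆ Z :=
      closure_minimal Set.inter_subset_right Z.isClosed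
    have hmem : (⟨closure (T ∩ (Z : Set W)), isClosed_closure⟩ : Closeds W) ∈ S := by
      change ζ ∈ closure (T ∩ closure (T ∩ (Z : Set W)))
      refine closure_mono ?_ hZζ
      intro t ht
      exact ⟨ht.1, subset_closure ht⟩
    have := hZmin' _ hmem hsub
    exact congrArg (fun C : Closeds W => (C : Set W)) this
  refine ⟨g, ?_, ?_⟩
  · rw [specializes_iff_mem_closure, hgZ, ← hcl]
    exact hZζ
  · have hgmem : g ∈ closure (T ∩ (Z : Set W)) := by
      rw [hcl, ← hgZ]; exact subset_closure rfl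
    have h2 : g ∈ f ⁻¹' closure {y'} := by
      have hclosed : IsClosed (f ⁻¹' closure {y'}) := isClosed_closure.preimage hf
      refine closure_minimal ?_ hclosed hgmem
      intro t ht
      have : f t = y' := ht.1
      change f t ∈ closure {y'}
      rw [this]; exact subset_closure rfl
    have h3 : y' ⤳ f g := specializes_iff_mem_closure.mpr h2
    obtain ⟨t, htT, htZ⟩ := hTZne
    have h4 : g ⤳ t := by
      rw [specializes_iff_mem_closure, hgZ]; exact htZ
    have h5 : f g ⤳ y' := by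
      have := h4.map hf
      rwa [show f t = y' from htT] at this
    exact (h5.antisymm h3).eq

/-- On a locally Noetherian scheme, a morphism which is open at `ζ` lifts generizations of `f ζ` to
generizations of `ζ`. -/
theorem exists_specializes_of_isOpenAt {X Y : Scheme.{u}} [IsLocallyNoetherian X] (f : X ⟶ Y)
    (ζ : X) (h : EGA43.IsOpenAt f.base ζ) (y' : Y) (hy' : y' ⤳ f ζ) :
    ∃ x' : X, x' ⤳ ζ ∧ f x' = y' := by
  obtain ⟨N, hN, hζN, hNoeth⟩ := exists_open_noetherianSpace_of_isLocallyNoetherian X ζ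
  have hqs : QuasiSober ↥N := hN.isOpenEmbedding_subtypeVal.quasiSober
  let f' : ↥N → Y := fun t => f t.1
  have hf' : Continuous f' := f.continuous.comp continuous_subtype_val
  have hopen : EGA43.IsOpenAt f' ⟨ζ, hζN⟩ := by
    intro U hU
    have h1 : Subtype.val '' U ∈ nhds ζ :=
      (hN.isOpenEmbedding_subtypeVal.image_mem_nhds (x := (⟨ζ, hζN⟩ : ↥N))).mpr hU
    have h2 := h _ h1
    rw [Set.image_image] at h2
    exact h2
  obtain ⟨x', hx'ζ, hfx'⟩ :=
    exists_specializes_of_isOpenAt_of_noetherianSpace f' hf' ⟨ζ, hζN⟩ hopen y' hy'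
  exact ⟨x'.1, hx'ζ.map continuous_subtype_val, hfx'⟩

/-- EGA IV 14.2.1, pointwise form, for a morphism open at `ζ`. -/
theorem exists_maximal_generization_of_isOpenAt {X Y : Scheme.{u}} [IsLocallyNoetherian Y]
    (f : X ⟶ Y) [LocallyOfFiniteType f] (ζ : X)
    (hζmax : ∀ t : X, t ⤳ ζ → f t = f ζ → t = ζ) (hopen : EGA43.IsOpenAt f.base ζ)
    (η : Y) (hη : η ⤳ f ζ) (hηmax : ∀ t : Y, t ⤳ η → t = η) :
    ∃ ξ : X, ξ ⤳ ζ ∧ f ξ = η ∧ (∀ t : X, t ⤳ ξ → t = ξ) ∧
      resTrdegNat f ξ = resTrdegNat f ζ ∧ codim ξ ζ = codim η (f ζ) := by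
  have hLN : IsLocallyNoetherian X := LocallyOfFiniteType.isLocallyNoetherian f
  exact exists_maximal_generization_resTrdegNat_eq f ζ hζmax η hη hηmax
    (fun y' _ hy' => exists_specializes_of_isOpenAt f ζ hopen y' hy')


end Groth.Agent.Lib.Helper73

namespace Groth.Agent.Lib.Helper73

/-- Superadditivity of the Krull dimension of intervals. -/
lemma krullDim_Icc_add_le {α : Type*} [Preorder α] {a b c : α} (hab : a ≤ b) (hbc : b ≤ c) :
    Order.krullDim (Set.Icc a b) + Order.krullDim (Set.Icc b c) ≤ Order.krullDim (Set.Icc a c) := by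
  let b' : Set.Icc a c := ⟨b, hab, hbc⟩
  have : Nonempty (Set.Icc a c) := ⟨b'⟩
  have h1 : Order.krullDim (Set.Icc a b) ≤ (Order.height b' : WithBot ℕ∞) := by
    rw [Order.height_eq_krullDim_Iic]
    refine Order.krullDim_le_of_strictMono
      (fun t : Set.Icc a b => (⟨⟨t.1, t.2.1, t.2.2.trans hbc⟩, t.2.2⟩ : Set.Iic b')) ?_
    intro t t' htt'
    exact htt'
  have h2 : Order.krullDim (Set.Icc b c) ≤ (Order.coheight b' : WithBot ℕ∞) := by
    rw [Order.coheight_eq_krullDim_Ici]
    refine Order.krullDim_le_of_strictMono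
      (fun t : Set.Icc b c => (⟨⟨t.1, hab.trans t.2.1, t.2.2⟩, t.2.1⟩ : Set.Ici b')) ?_
    intro t t' htt'
    exact htt'
  have h3 : ((Order.height b' + Order.coheight b' : ℕ∞) : WithBot ℕ∞) ≤
      Order.krullDim (Set.Icc a c) := by
    rw [Order.krullDim_eq_iSup_height_add_coheight_of_nonempty]
    exact_mod_cast le_iSup (fun t : Set.Icc a c => Order.height t + Order.coheight t) b'
  refine le_trans ?_ h3
  push_cast
  exact add_le_add h1 h2

/-- Superadditivity of codimension. -/
lemma codim_add_le {X : Scheme.{u}} (x x' x'' : X) (h : x ⤳ x') (h' : x' ⤳ x'') :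
    codim x x' + codim x' x'' ≤ codim x x'' := by
  unfold codim
  rw [add_comm]
  exact krullDim_Icc_add_le (a := x'') (b := x') (c := x) h' h

/-- Inside a fibre, the difference of residual transcendence degrees is bounded by the
codimension. -/
theorem resTrdegNat_le_codim_add {X Y : Scheme.{u}} (f : X ⟶ Y) [LocallyOfFiniteType f]
    (ζ x : X) (h : ζ ⤳ x) (hf : f ζ = f x) :
    ((resTrdegNat f ζ : ℕ) : WithBot ℕ∞) ≤ codim ζ x + ((resTrdegNat f x : ℕ) : WithBot ℕ∞) := by
  have hδ := isDimFun_trdegNat (k := Y.residueField (f x)) (f.fiberToSpecResidueField (f x))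
  let ζb : f.fiber (f x) := (f.fiberHomeo (f x)).symm ⟨ζ, hf⟩
  have hζb : f.fiberι (f x) ζb = ζ := f.fiberι_fiberHomeo_symm (f x) ⟨ζ, hf⟩
  have hemb := (f.fiberι (f x)).isEmbedding
  have hsp : ζb ⤳ f.asFiber x := by
    rw [← hemb.isInducing.specializes_iff, hζb, f.fiberι_asFiber x]
    exact h
  obtain ⟨p, hp1, hp2, hp3⟩ := hδ.exists_ltSeries hsp
  rw [trdegNat_fiber_eq_resTrdegNat, trdegNat_fiber_eq_resTrdegNat, hζb, f.fiberι_asFiber x] at hp3
  have hmono : ∀ a b : f.fiber (f x), a ≤ b → f.fiberι (f x) a ≤ f.fiberι (f x) b := by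
    intro a b hab
    exact (show b ⤳ a from hab).map (f.fiberι (f x)).continuous
  have hsmono : ∀ a b : f.fiber (f x), a < b → f.fiberι (f x) a < f.fiberι (f x) b := by
    intro a b hab
    rw [lt_iff_le_not_ge] at hab ⊢
    refine ⟨hmono a b hab.1, fun h2 => hab.2 ?_⟩
    exact hemb.isInducing.specializes_iff.mp h2
  let q : LTSeries (Set.Icc x ζ) :=
    { length := p.length
      toFun := fun i => ⟨f.fiberι (f x) (p i), by
        constructor
        · have := hmono _ _ (p.head_le i)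
          rwa [hp1, f.fiberι_asFiber x] at this
        · have := hmono _ _ (p.monotone (Fin.le_last i))
          change _ ≤ f.fiberι (f x) p.last at this
          rwa [hp2, hζb] at this⟩
      step := fun i => hsmono _ _ (p.step i) }
  have hlen : ((p.length : ℕ) : WithBot ℕ∞) ≤ codim ζ x := by
    unfold codim
    have := Order.LTSeries.length_le_krullDim q
    exact this
  calc ((resTrdegNat f ζ : ℕ) : WithBot ℕ∞)
      = ((p.length : ℕ) : WithBot ℕ∞) + ((resTrdegNat f x : ℕ) : WithBot ℕ∞) := by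
        rw [← hp3]; push_cast; rfl
    _ ≤ codim ζ x + ((resTrdegNat f x : ℕ) : WithBot ℕ∞) := by gcongr

end Groth.Agent.Lib.Helper73

namespace Groth.Agent.Lib.Helper73

/-- Translating a hypothesis on maximal points of the scheme-theoretic fibre to points of `X`. -/
lemma isOpenAt_of_fiber_hyp {X Y : Scheme.{u}} (f : X ⟶ Y) (x : X)
    (h : ∀ z : ↥(f.fiber (f.base x)), f.asFiber x ∈ closure {z} →
      (∀ z' : ↥(f.fiber (f.base x)), z ∈ closure {z'} → z' = z) →
      EGA43.IsOpenAt f.base ((f.fiberι (f.base x)).base z))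
    (ζ : X) (hζx : ζ ⤳ x) (hfζ : f ζ = f x)
    (hζmax : ∀ t : X, t ⤳ ζ → f t = f ζ → t = ζ) : EGA43.IsOpenAt f.base ζ := by
  let z : f.fiber (f x) := (f.fiberHomeo (f x)).symm ⟨ζ, hfζ⟩
  have hz : f.fiberι (f x) z = ζ := f.fiberι_fiberHomeo_symm (f x) ⟨ζ, hfζ⟩
  have hemb := (f.fiberι (f x)).isEmbedding
  have h1 : f.asFiber x ∈ closure {z} := by
    rw [← specializes_iff_mem_closure, ← hemb.isInducing.specializes_iff, hz, f.fiberι_asFiber x]
    exact hζx
  have h2 : ∀ z' : ↥(f.fiber (f.base x)), z ∈ closure {z'} → z' = z := by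
    intro z' hz'
    apply hemb.injective
    rw [hz]
    apply hζmax
    · rw [← hz]
      exact (specializes_iff_mem_closure.mpr hz').map (f.fiberι (f x)).continuous
    · have : f.fiberι (f x) z' ∈ Set.range (f.fiberι (f x)) := ⟨z', rfl⟩
      rw [f.range_fiberι (f x)] at this
      exact this.trans hfζ.symm
  have := h z h1 h2
  have key : ∀ y : X, f.fiberι (f x) z = y → EGA43.IsOpenAt f.base y := by
    rintro _ rfl; exact this
  exact key ζ hz

end Groth.Agent.Lib.Helper73
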