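import Mathlib
import Groth.Prelude
import Groth.Agent.Lib.Helper73.DimFormula.ProductDim

/-! Local dimension of a product of schemes locally of finite type over a field (helper73). -/

set_option autoImplicit false
open CategoryTheory AlgebraicGeometry TopologicalSpace Topology Limits
universe u
namespace Groth.Agent.Lib.Helper73

section Product

variable {k : Type u} [Field k] {X Y : Scheme.{u}}
    (f : X ⟶ Spec (CommRingCat.of k)) (g : Y ⟶ Spec (CommRingCat.of k))

/-- In a product over a field, generizations of the second coordinate lift to generizations with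
the same first coordinate. -/
theorem exists_specializes_of_isPullback_over_field {Z : Scheme.{u}} (p : Z ⟶ X) (q : Z ⟶ Y)
    (hsq : IsPullback p q f g) (z : Z) (η : Y) (hη : η ⤳ q z) :
    ∃ z₁ : Z, z₁ ⤳ z ∧ q z₁ = η ∧ p z₁ = p z := by
  have hsub : Subsingleton ↥(Spec (CommRingCat.of k)) :=
    inferInstanceAs (Subsingleton (PrimeSpectrum k))
  let I := Scheme.IdealSheafData.vanishingIdeal ⟨closure {p z}, isClosed_closure⟩
  let i : I.subscheme ⟶ X := I.subschemeι
  have hrange : Set.range i = closure {p z} := by
    rw [Scheme.IdealSheafData.range_subschemeι]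
    exact Scheme.IdealSheafData.coe_support_vanishingIdeal _
  have hsq₀ : IsPullback (pullback.fst i p) (pullback.snd i p) i p := IsPullback.of_hasPullback i p
  have hpaste := hsq₀.paste_vert hsq
  have hflat : Flat (pullback.snd i p ≫ q) :=
    MorphismProperty.of_isPullback hpaste (inferInstance : Flat (i ≫ f))
  have hzr : z ∈ Set.range (pullback.snd i p) := by
    rw [Scheme.Pullback.range_snd, hrange]
    exact subset_closure rfl
  obtain ⟨w, hw⟩ := hzr
  have hη' : η ⤳ (pullback.snd i p ≫ q) w := by
    rw [Scheme.Hom.comp_apply, hw]; exact hη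
  obtain ⟨w₁, hw₁, hw₁η⟩ := Flat.generalizingMap (pullback.snd i p ≫ q) hη'
  have hsp : pullback.snd i p w₁ ⤳ z := by
    rw [← hw]; exact hw₁.map (pullback.snd i p).continuous
  refine ⟨pullback.snd i p w₁, hsp, hw₁η, ?_⟩
  have h1 : p (pullback.snd i p w₁) ⤳ p z := hsp.map p.continuous
  have h2 : p z ⤳ p (pullback.snd i p w₁) := by
    rw [specializes_iff_mem_closure, ← hrange]
    refine ⟨pullback.fst i p w₁, ?_⟩
    rw [← Scheme.Hom.comp_apply, pullback.condition, Scheme.Hom.comp_apply]
  exact (h1.antisymm h2).eq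

variable [LocallyOfFiniteType f] [LocallyOfFiniteType g]

/-- Generizations of the two coordinates of a point of a product lift to a generization whose
transcendence degree is at least the sum. -/
theorem exists_specializes_trdegNat_add_le (z : ↥(pullback f g)) (ξ : X) (η : Y)
    (hξ : ξ ⤳ pullback.fst f g z) (hη : η ⤳ pullback.snd f g z) :
    ∃ ζ : ↥(pullback f g), ζ ⤳ z ∧
      trdegNat g η + trdegNat f ξ ≤ trdegNat (pullback.snd f g ≫ g) ζ := by
  have hsq : IsPullback (pullback.fst f g) (pullback.snd f g) f g := IsPullback.of_hasPullback f g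
  obtain ⟨z₁, hz₁, hqz₁, hpz₁⟩ := exists_specializes_of_isPullback_over_field f g
    (pullback.fst f g) (pullback.snd f g) hsq z η hη
  obtain ⟨ζ₁, hζ₁, hpζ₁, hqζ₁⟩ := exists_specializes_of_isPullback_over_field g f
    (pullback.snd f g) (pullback.fst f g) hsq.flip z₁ ξ (by rw [hpz₁]; exact hξ)
  obtain ⟨ζ, hζζ₁, hqζ, hζmax⟩ := exists_maximal_fiber_specializes (pullback.snd f g) ζ₁
  refine ⟨ζ, hζζ₁.trans (hζ₁.trans hz₁), ?_⟩
  rw [trdegNat_pullback_eq_of_maximal f g ζ hζmax, hqζ, hqζ₁, hqz₁]
  have : pullback.fst f g ζ ⤳ ξ := by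
    rw [← hpζ₁]; exact hζζ₁.map (pullback.fst f g).continuous
  exact Nat.add_le_add_left ((isDimFun_trdegNat f).le_of_specializes this) _

attribute [local instance] specializationPreorder in
/-- The local dimension of a product of schemes locally of finite type over a field is the sum of
the local dimensions. -/
theorem localDim_pullback_eq_add (z : ↥(pullback f g)) :
    FlatMor.localDim ↥(pullback f g) z =
      FlatMor.localDim ↥X (pullback.fst f g z) + FlatMor.localDim ↥Y (pullback.snd f g z) := by
  have hδX := isDimFun_trdegNat f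
  have hδY := isDimFun_trdegNat g
  have hδZ := isDimFun_trdegNat (pullback.snd f g ≫ g)
  obtain ⟨W₁, hW₁, hxW₁, hLN₁⟩ := exists_open_forall_exists_generic_scheme (pullback.snd f g ≫ g) z
  obtain ⟨W₂, hW₂, hxW₂, hLN₂⟩ := exists_open_forall_exists_generic_scheme f (pullback.fst f g z)
  obtain ⟨W₃, hW₃, hxW₃, hLN₃⟩ := exists_open_forall_exists_generic_scheme g (pullback.snd f g z)
  have h1 := hδZ.iInf_topologicalKrullDim_eq z W₁ hW₁ hxW₁ hLN₁
  have h2 := hδX.iInf_topologicalKrullDim_eq _ W₂ hW₂ hxW₂ hLN₂
  have h3 := hδY.iInf_topologicalKrullDim_eq _ W₃ hW₃ hxW₃ hLN₃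
  change FlatMor.localDim ↥(pullback f g) z = _ at h1
  change FlatMor.localDim ↥X (pullback.fst f g z) = _ at h2
  change FlatMor.localDim ↥Y (pullback.snd f g z) = _ at h3
  rw [h1, h2, h3, ← WithBot.coe_add, WithBot.coe_inj]
  apply le_antisymm
  · apply hδZ.coheight_add_le
    intro ζ hζ
    calc (trdegNat (pullback.snd f g ≫ g) ζ : ℕ∞)
        ≤ (trdegNat g (pullback.snd f g ζ) : ℕ∞) + (trdegNat f (pullback.fst f g ζ) : ℕ∞) := by
          exact_mod_cast trdegNat_pullback_le f g ζ
      _ ≤ (Order.coheight (pullback.snd f g z) + trdegNat g (pullback.snd f g z)) +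
          (Order.coheight (pullback.fst f g z) + trdegNat f (pullback.fst f g z)) :=
          add_le_add (hδY.le_coheight_add (hζ.map (pullback.snd f g).continuous))
            (hδX.le_coheight_add (hζ.map (pullback.fst f g).continuous))
      _ = _ := add_comm _ _
  · set N : ℕ∞ := Order.coheight z + trdegNat (pullback.snd f g ≫ g) z with hN
    have key : ∀ ξ : X, ξ ⤳ pullback.fst f g z → ∀ η : Y, η ⤳ pullback.snd f g z →
        (trdegNat f ξ : ℕ∞) + trdegNat g η ≤ N := by
      intro ξ hξ η hη
      obtain ⟨ζ, hζz, hle⟩ := exists_specializes_trdegNat_add_le f g z ξ η hξ hη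
      calc (trdegNat f ξ : ℕ∞) + trdegNat g η = ((trdegNat g η + trdegNat f ξ : ℕ) : ℕ∞) := by
            push_cast; ring
        _ ≤ (trdegNat (pullback.snd f g ≫ g) ζ : ℕ∞) := by exact_mod_cast hle
        _ ≤ N := hδZ.le_coheight_add hζz
    clear_value N
    induction N with
    | top => exact le_top
    | coe n =>
      -- first bound the `X` part
      have hX : Order.coheight (pullback.fst f g z) + (trdegNat f (pullback.fst f g z) : ℕ∞) ≤
          ((n - trdegNat g (pullback.snd f g z) : ℕ) : ℕ∞) := by
        apply hδX.coheight_add_le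
        intro ξ hξ
        have := key ξ hξ _ specializes_rfl
        have h' : trdegNat f ξ + trdegNat g (pullback.snd f g z) ≤ n := by exact_mod_cast this
        exact_mod_cast (by omega : trdegNat f ξ ≤ n - trdegNat g (pullback.snd f g z))
      obtain ⟨a, ha⟩ : ∃ a : ℕ, Order.coheight (pullback.fst f g z) +
          (trdegNat f (pullback.fst f g z) : ℕ∞) = a := by
        have hne : Order.coheight (pullback.fst f g z) +
            (trdegNat f (pullback.fst f g z) : ℕ∞) ≠ ⊤ :=
          ne_top_of_le_ne_top (ENat.coe_ne_top _) hX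
        exact (ENat.ne_top_iff_exists.mp hne).imp fun a h => h.symm
      -- there is a generization attaining `a`
      have hXa : ∃ ξ : X, ξ ⤳ pullback.fst f g z ∧ a ≤ trdegNat f ξ := by
        by_contra hcon
        push Not at hcon
        have hlt : Order.coheight (pullback.fst f g z) +
            (trdegNat f (pullback.fst f g z) : ℕ∞) ≤ ((a - 1 : ℕ) : ℕ∞) := by
          apply hδX.coheight_add_le
          intro ξ hξ
          have := hcon ξ hξ
          exact_mod_cast (by omega : trdegNat f ξ ≤ a - 1)
        rw [ha] at hlt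
        have h1 : a ≤ a - 1 := by exact_mod_cast hlt
        have h2 := hcon _ specializes_rfl
        omega
      obtain ⟨ξ₀, hξ₀, haξ₀⟩ := hXa
      have hY : Order.coheight (pullback.snd f g z) + (trdegNat g (pullback.snd f g z) : ℕ∞) ≤
          ((n - a : ℕ) : ℕ∞) := by
        apply hδY.coheight_add_le
        intro η hη
        have := key ξ₀ hξ₀ η hη
        have h' : trdegNat f ξ₀ + trdegNat g η ≤ n := by exact_mod_cast this
        exact_mod_cast (by omega : trdegNat g η ≤ n - a)
      have han : a ≤ n := by
        have := key ξ₀ hξ₀ _ specializes_rfl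
        have h' : trdegNat f ξ₀ + trdegNat g (pullback.snd f g z) ≤ n := by exact_mod_cast this
        omega
      rw [ha]
      calc (a : ℕ∞) + (Order.coheight (pullback.snd f g z) + (trdegNat g (pullback.snd f g z) : ℕ∞))
          ≤ (a : ℕ∞) + ((n - a : ℕ) : ℕ∞) := by gcongr
        _ = (n : ℕ∞) := by exact_mod_cast (by omega : a + (n - a) = n)

end Product

end Groth.Agent.Lib.Helper73
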