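import Groth.Agent.Lib.Helper73.DimFormula.AffineSpaceQF
import Mathlib.RingTheory.ZariskisMainTheorem
import Mathlib.RingTheory.LocalRing.ResidueField.Fiber

/-!
# Quasi-finiteness: algebraic dictionary (helper73)

* `localDim_eq_of_homeomorph`: the local dimension is a topological invariant.
* `fibreDimAt_SpecMap_eq_localDim`: the fibre dimension of `Spec S ⟶ Spec R` at a prime is the local
  dimension of `Spec (κ(p) ⊗ S)` at the corresponding point.
* `algebra_quasiFiniteAt_of_SpecMap`: `(Spec.map (algebraMap R S)).QuasiFiniteAt x` implies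
  `Algebra.QuasiFiniteAt R x.asIdeal`.
* `exists_quasiFinite_away_of_quasiFiniteAt`: quasi-finite at `q` implies quasi-finite on a basic
  open neighbourhood of `q` (ZMT).
-/

set_option autoImplicit false
open CategoryTheory AlgebraicGeometry TopologicalSpace Topology Limits
universe u

namespace Groth.Agent.Lib.Helper73

lemma localDim_le_of_homeomorph' {X Y : Type*} [TopologicalSpace X] [TopologicalSpace Y]
    (φ : X ≃ₜ Y) (x : X) : FlatMor.localDim X x ≤ FlatMor.localDim Y (φ x) := by
  unfold FlatMor.localDim
  refine le_iInf fun V => ?_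
  let U : {U : TopologicalSpace.Opens X // x ∈ U} :=
    ⟨⟨φ ⁻¹' V.1, V.1.isOpen.preimage φ.continuous⟩, V.2⟩
  refine (iInf_le _ U).trans (le_of_eq ?_)
  exact IsHomeomorph.topologicalKrullDim_eq _
    (φ.subtype (p := fun a => a ∈ φ ⁻¹' (V.1 : Set Y)) (q := fun b => b ∈ (V.1 : Set Y))
      (fun _ => Iff.rfl)).isHomeomorph

/-- The local dimension is a topological invariant. -/
lemma localDim_eq_of_homeomorph {X Y : Type*} [TopologicalSpace X] [TopologicalSpace Y]
    (φ : X ≃ₜ Y) (x : X) : FlatMor.localDim X x = FlatMor.localDim Y (φ x) := by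
  apply le_antisymm (localDim_le_of_homeomorph' φ x)
  have := localDim_le_of_homeomorph' φ.symm (φ x)
  rwa [φ.symm_apply_apply] at this

/-- The fibre dimension of a morphism of affine schemes in terms of the fibre ring. -/
theorem fibreDimAt_SpecMap_eq_localDim (R S : Type u) [CommRing R] [CommRing S] [Algebra R S]
    (P : PrimeSpectrum R) (Q : PrimeSpectrum (P.asIdeal.Fiber S)) :
    FlatMor.fibreDimAt (Spec.map (CommRingCat.ofHom (algebraMap R S)))
      ((PrimeSpectrum.preimageHomeomorphFiber R S P).symm Q).1 =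
      FlatMor.localDim (PrimeSpectrum (P.asIdeal.Fiber S)) Q := by
  set f := Spec.map (CommRingCat.ofHom (algebraMap R S)) with hf
  set x : Spec (CommRingCat.of S) := ((PrimeSpectrum.preimageHomeomorphFiber R S P).symm Q).1
    with hxdef
  have hx : f x = P := ((PrimeSpectrum.preimageHomeomorphFiber R S P).symm Q).2
  let z : f.fiber P := (f.fiberHomeo P).symm ⟨x, hx⟩
  have hz : f.fiberι P z = x := f.fiberι_fiberHomeo_symm P ⟨x, hx⟩
  rw [← localDim_fiber_eq_fibreDimAt f x P hx z hz]
  let h : ↥(f.fiber P) ≃ₜ PrimeSpectrum (P.asIdeal.Fiber S) :=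
    (f.fiberHomeo P).trans (PrimeSpectrum.preimageHomeomorphFiber R S P)
  rw [localDim_eq_of_homeomorph h z]
  congr 1
  change (PrimeSpectrum.preimageHomeomorphFiber R S P) ((f.fiberHomeo P) ((f.fiberHomeo P).symm ⟨x, hx⟩)) = Q
  rw [Homeomorph.apply_symm_apply]
  have : (⟨x, hx⟩ : ↥(PrimeSpectrum.comap (algebraMap R S) ⁻¹' {P})) =
      (PrimeSpectrum.preimageHomeomorphFiber R S P).symm Q := rfl
  exact (congrArg (PrimeSpectrum.preimageHomeomorphFiber R S P) this).trans
    (Homeomorph.apply_symm_apply _ _)

end Groth.Agent.Lib.Helper73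

namespace Groth.Agent.Lib.Helper73

set_option backward.isDefEq.respectTransparency.types false in
/-- Quasi-finiteness at a point of a morphism of affine schemes, in terms of algebra. -/
theorem algebra_quasiFiniteAt_of_SpecMap {R S : Type u} [CommRing R] [CommRing S] [Algebra R S]
    (x : Spec (CommRingCat.of S))
    (h : (Spec.map (CommRingCat.ofHom (algebraMap R S))).QuasiFiniteAt x) :
    Algebra.QuasiFiniteAt R x.asIdeal := by
  let _ := Localization.AtPrime.algebraOfLiesOver (x.asIdeal.under R) x.asIdeal
  have h1 : Algebra.QuasiFinite (Localization.AtPrime (x.asIdeal.under R))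
      (Localization.AtPrime x.asIdeal) := by
    rw [← RingHom.quasiFinite_algebraMap]
    exact (RingHom.QuasiFinite.respectsIso.arrow_mk_iso_iff
      (Scheme.arrowStalkMapSpecIso (CommRingCat.ofHom (algebraMap R S)) x)).mp h
  exact .trans _ (Localization.AtPrime (x.asIdeal.under R)) _

/-- The algebraic openness of the quasi-finite locus (Zariski's main theorem). -/
theorem exists_quasiFinite_away_of_quasiFiniteAt {R S : Type u} [CommRing R] [CommRing S]
    [Algebra R S] [Algebra.FiniteType R S] (q : Ideal S) [q.IsPrime]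
    [Algebra.QuasiFiniteAt R q] :
    ∃ g : S, g ∉ q ∧ Algebra.QuasiFinite R (Localization.Away g) := by
  obtain ⟨S', hS', r, hrp, H⟩ :=
    Algebra.QuasiFiniteAt.exists_fg_and_exists_notMem_and_awayMap_bijective (R := R) q
  have : Module.Finite R S' := ⟨(Submodule.fg_top _).mpr hS'⟩
  have : Algebra.QuasiFinite R (Localization.Away r) := .trans _ S' _
  have : Algebra.QuasiFinite R (Localization.Away r.1) :=
    .of_surjective_algHom (Localization.awayMapₐ S'.val r) H.2
  exact ⟨r.1, hrp, this⟩

end Groth.Agent.Lib.Helper73
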