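import Mathlib
import Groth.Prelude
import Groth.Agent.Lib.Helper73.DimFormula.Chevalley
import Groth.Agent.Lib.Helper73.DimFormula.GenericLocus
import Groth.Agent.Lib.Helper73.DimFormula.Hypersurface

/-! Morphisms locally of finite type with algebraic residue field extensions are locally
quasi-finite. -/

set_option autoImplicit false
open CategoryTheory AlgebraicGeometry TopologicalSpace Topology Limits
universe u
namespace Groth.Agent.Lib.Helper73

/-- A morphism locally of finite type all of whose residue field extensions are algebraic is
locally quasi-finite. -/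
theorem locallyQuasiFinite_of_forall_resTrdegNat_eq_zero {X Y : Scheme.{u}} (f : X ⟶ Y)
    [LocallyOfFiniteType f] (h : ∀ x : X, resTrdegNat f x = 0) : LocallyQuasiFinite f := by
  rw [← Scheme.Hom.quasiFiniteLocus_eq_top_iff]
  refine top_le_iff.mp fun x _ => ?_
  rw [Scheme.Hom.mem_quasiFiniteLocus, quasiFiniteAt_iff_fibreDimAt_le_zero]
  exact_mod_cast fibreDimAt_le_of_forall_generization f x 0 fun η _ _ => (h η).le

end Groth.Agent.Lib.Helper73
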