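import Groth.Agent.Lib.Helper73.DimFormula.QuasiSection

/-!
# Quasi-sections over a base of dimension at most one (EGA IV 14.5.6)

* `isEquidimAt_of_generic_of_dim_le_one`: over an irreducible locally Noetherian base all of whose
  local rings have dimension at most one, a morphism locally of finite type from a scheme with a
  generic point over the generic point of the base is equidimensional at every point.
* `exists_closed_in_fiber_of_isClosed`: a closed subset meeting a fibre contains a point closed in
  that fibre.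
-/

set_option autoImplicit false
open CategoryTheory AlgebraicGeometry TopologicalSpace Topology
universe u

namespace Groth.Agent.Lib.Helper73

/-- Over an irreducible locally Noetherian base of dimension at most one, a morphism locally of
finite type from a scheme with a generic point lying over the generic point of the base is
equidimensional at every point. -/
theorem isEquidimAt_of_generic_of_dim_le_one {Z Y : Scheme.{u}} [IrreducibleSpace Y]
    [IsLocallyNoetherian Y] (hY : ∀ y : Y, ringKrullDim (Y.presheaf.stalk y) ≤ 1)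
    (g : Z ⟶ Y) [LocallyOfFiniteType g] (ξ : Z) (hgen : ∀ t : Z, ξ ⤳ t)
    (hgξ : g ξ = genericPoint Y) (w : Z) : EGA43.IsEquidimAt g w := by
  rw [isEquidimAt_iff_of_generic g ξ hgen w]
  refine ⟨?_, ?_⟩
  · intro t ht
    rw [hgξ] at ht ⊢
    exact (ht.antisymm (genericPoint_specializes t)).eq
  · apply fibreDimAt_le_of_forall_generization
    intro ζ _ _
    by_cases hζ : g ζ = g ξ
    · exact resTrdegNat_le_of_specializes_fiber g ζ ξ (hgen ζ) hζ.symm
    · have hne : ξ ≠ ζ := fun e => hζ (by rw [e])
      obtain ⟨a, b, ha, hb, hab⟩ := codim_add_resTrdeg_le g ξ ζ (hgen ζ)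
      rw [resTrdeg_eq_resTrdegNat, resTrdeg_eq_resTrdegNat] at hab
      have hab' : a + resTrdegNat g ζ ≤ b + resTrdegNat g ξ := by exact_mod_cast hab
      have h1 : 1 ≤ a := by
        have := one_le_codim ξ ζ (hgen ζ) hne
        rw [ha] at this
        exact_mod_cast this
      have h2 : b ≤ 1 := by
        have := (codim_le_ringKrullDim_stalk (g ξ) (g ζ)).trans (hY (g ζ))
        rw [hb] at this
        exact_mod_cast this
      omega

/-- A nonempty closed subset of a fibre contains a point closed in the fibre. -/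
theorem exists_closed_in_fiber_of_isClosed {X Y : Scheme.{u}} (f : X ⟶ Y) [LocallyOfFiniteType f]
    (y : Y) (Z : Set X) (hZ : IsClosed Z) (hne : (Z ∩ f ⁻¹' {y}).Nonempty) :
    ∃ x ∈ Z, f x = y ∧ ∀ x' : X, f x' = y → x ⤳ x' → x' = x := by
  obtain ⟨x₀, hx₀Z, hx₀y⟩ := hne
  have hx₀r : x₀ ∈ Set.range (f.fiberι y) := by rw [f.range_fiberι y]; exact hx₀y
  obtain ⟨c₀, hc₀⟩ := hx₀r
  have hZ' : IsClosed ((f.fiberι y) ⁻¹' Z) := hZ.preimage (f.fiberι y).continuous
  obtain ⟨c, hcZ, hcc⟩ := nonempty_inter_closedPoints (X := f.fiber y) (Z := (f.fiberι y) ⁻¹' Z)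
    ⟨c₀, by change f.fiberι y c₀ ∈ Z; rw [hc₀]; exact hx₀Z⟩ hZ'.isLocallyClosed
  have hcc' : IsClosed ({c} : Set (f.fiber y)) := hcc
  refine ⟨f.fiberι y c, hcZ, ?_, ?_⟩
  · have : f.fiberι y c ∈ Set.range (f.fiberι y) := ⟨c, rfl⟩
    rw [f.range_fiberι y] at this
    exact this
  · intro x' hx' hsp
    have hx'r : x' ∈ Set.range (f.fiberι y) := by rw [f.range_fiberι y]; exact hx'
    obtain ⟨c', rfl⟩ := hx'r
    have h1 : c ⤳ c' := (f.fiberι y).isEmbedding.isInducing.specializes_iff.mp hsp
    have h2 : c' ∈ ({c} : Set (f.fiber y)) := h1.mem_closed hcc' rfl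
    rw [h2]

end Groth.Agent.Lib.Helper73
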