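import Groth.Agent.Lib.Helper73.DimFormula.ProductDim
import Groth.Agent.Lib.Helper73.DimFormula.Hypersurface

/-!
# Relatively maximal points in a base change (helper73)

For a pullback square `X' = X ×_S S'` (`p : X' ⟶ X`, `f' : X' ⟶ S'`) with `f` locally of finite
type, a point `ζ'` of `X'` is *relatively maximal* if it has no proper generization `t` with
`f' t = f' ζ'` and `p t = p ζ'` (i.e. it is a maximal point of `Spec (κ(p ζ') ⊗_{κ(s)} κ(s'))`).

* `exists_relMaximal_specializes`: every point has a relatively maximal generization with the same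
  images in `S'` and `X`.
* `resTrdegNat_eq_of_isPullback_of_relMaximal`: at a relatively maximal point,
  `trdeg κ(ζ')/κ(f' ζ') = trdeg κ(p ζ')/κ(f (p ζ'))`.
* `relMaximal_of_resTrdegNat_eq`: the converse.
-/

set_option autoImplicit false
universe u
open AlgebraicGeometry CategoryTheory TopologicalSpace Opposite Order Limits

namespace Groth.Agent.Lib.Helper73

section

variable {X S X' S' : Scheme.{u}} (f : X ⟶ S) [LocallyOfFiniteType f] (g : S' ⟶ S)
    (p : X' ⟶ X) (f' : X' ⟶ S') (hsq : IsPullback p f' f g)

omit [LocallyOfFiniteType f] in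
include hsq in
/-- Every point of a base change has a relatively maximal generization over the same points. -/
theorem exists_relMaximal_specializes (ζ : X') :
    ∃ ζ' : X', ζ' ⤳ ζ ∧ f' ζ' = f' ζ ∧ p ζ' = p ζ ∧
      ∀ t : X', t ⤳ ζ' → f' t = f' ζ' → p t = p ζ' → t = ζ' := by
  set π := fiberMapOfIsPullback f g p f' hsq (f' ζ) with hπ
  have hcomm : ∀ w, f.fiberι (g (f' ζ)) (π w) = p (f'.fiberι (f' ζ) w) := by
    intro w
    have := congrArg (fun φ => φ w) (fiberMapOfIsPullback_fiberι f g p f' hsq (f' ζ))
    simpa only [Scheme.Hom.comp_apply] using this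
  obtain ⟨ζb, hζb, hπζb, hmax⟩ := exists_maximal_fiber_specializes π (f'.asFiber ζ)
  have hf'ζ' : f' (f'.fiberι (f' ζ) ζb) = f' ζ := by
    have : f'.fiberι (f' ζ) ζb ∈ Set.range (f'.fiberι (f' ζ)) := ⟨_, rfl⟩
    rw [f'.range_fiberι (f' ζ)] at this
    exact this
  have hpζ' : p (f'.fiberι (f' ζ) ζb) = p ζ := by
    rw [← hcomm, hπζb, hcomm, f'.fiberι_asFiber ζ]
  refine ⟨f'.fiberι (f' ζ) ζb, ?_, hf'ζ', hpζ', ?_⟩
  · have := hζb.map (f'.fiberι (f' ζ)).continuous
    rwa [f'.fiberι_asFiber ζ] at this
  · intro t ht hft hpt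
    have htr : t ∈ Set.range (f'.fiberι (f' ζ)) := by
      rw [f'.range_fiberι (f' ζ)]
      exact hft.trans hf'ζ'
    obtain ⟨τ, rfl⟩ := htr
    rw [(f'.fiberι (f' ζ)).isEmbedding.isInducing.specializes_iff] at ht
    have hπτ : π τ = π ζb := by
      apply (f.fiberι (g (f' ζ))).isEmbedding.injective
      rw [hcomm, hcomm, hpt]
    rw [hmax τ ht hπτ]

include hsq in
/-- At a relatively maximal point of a base change the residual transcendence degree is that of
the image point. -/
theorem resTrdegNat_eq_of_isPullback_of_relMaximal (ζ' : X')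
    (hmax : ∀ t : X', t ⤳ ζ' → f' t = f' ζ' → p t = p ζ' → t = ζ') :
    resTrdegNat f' ζ' = resTrdegNat f (p ζ') := by
  set w := p ζ' with hw
  -- the reduced closed subscheme `Z = closure {w}`
  let K : Closeds X := ⟨closure {w}, isClosed_closure⟩
  let I := Scheme.IdealSheafData.vanishingIdeal K
  set ι := I.subschemeι with hι
  have hrange : Set.range ι = closure {w} := by
    rw [Scheme.IdealSheafData.range_subschemeι]
    exact Scheme.IdealSheafData.coe_support_vanishingIdeal _
  set a' := pullback.fst ι p with ha'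
  set ι' := pullback.snd ι p with hι'
  have hZ : IsPullback a' ι' ι p := IsPullback.of_hasPullback ι p
  have hbig : IsPullback a' (ι' ≫ f') (ι ≫ f) g := (hZ.flip.paste_horiz hsq.flip).flip
  have hrange' : Set.range ι' = p ⁻¹' Set.range ι := Scheme.Pullback.range_snd ι p
  have hζ'r : ζ' ∈ Set.range ι' := by
    rw [hrange', Set.mem_preimage, hrange]
    exact subset_closure rfl
  obtain ⟨z', hz'⟩ := hζ'r
  have hz'max : ∀ t, t ⤳ z' → (ι' ≫ f') t = (ι' ≫ f') z' → t = z' := by
    intro t ht hft
    apply ι'.isEmbedding.injective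
    rw [hz']
    apply hmax
    · rw [← hz']
      exact ht.map ι'.continuous
    · rw [← hz']
      exact hft
    · have h1 : p (ι' t) ⤳ w := by
        have := (ht.map ι'.continuous).map p.continuous
        rwa [hz'] at this
      have h2 : w ⤳ p (ι' t) := by
        rw [specializes_iff_mem_closure, ← hrange]
        have := congrArg (fun φ => φ t) hZ.w
        simp only [Scheme.Hom.comp_apply] at this
        exact ⟨a' t, this⟩
      exact (h1.antisymm h2).eq
  have h1 := (resTrdegNat_eq_of_isPullback_of_maximal (ι ≫ f) g a' (ι' ≫ f') hbig z' hz'max).1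
  rw [resTrdegNat_comp_of_isPreimmersion, resTrdegNat_comp_of_isPreimmersion, hz'] at h1
  rw [h1]
  have := congrArg (fun φ => φ z') hZ.w
  simp only [Scheme.Hom.comp_apply] at this
  rw [this, hz']

include hsq in
/-- A point of a base change at which the residual transcendence degree is that of the image
point is relatively maximal. -/
theorem relMaximal_of_resTrdegNat_eq (ζ' : X') (h : resTrdegNat f' ζ' = resTrdegNat f (p ζ')) :
    ∀ t : X', t ⤳ ζ' → f' t = f' ζ' → p t = p ζ' → t = ζ' := by
  intro t ht hft hpt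
  by_contra hne
  have hlft : LocallyOfFiniteType f' := locallyOfFiniteType_of_isPullback' f g p f' hsq
  have h1 := resTrdegNat_lt_of_specializes_fiber f' ζ' t ht hft hne
  have h2 := resTrdegNat_le_of_isPullback f g p f' hsq t
  rw [hpt] at h2
  omega

end

end Groth.Agent.Lib.Helper73
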