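import Groth.Agent.Lib.Helper73.DimFormula.Hypersurface
import Groth.Agent.Lib.Helper73.DimFormula.FiberDim
import Groth.Agent.Lib.Helper73.DimFormula.GenericFibre
import Groth.Agent.Lib.Helper67.FiberStalk2
import Groth.Agent.Lib.Helper22.SmoothDim
import Groth.Prelude.Def_CInt

/-!
# Codimension of a smooth closed subscheme of a smooth scheme, relative to the base

For `f : X ⟶ S` smooth, `i : Y ⟶ X` a closed immersion with `i ≫ f` smooth (all locally
Noetherian): `dim O_{X_s,y} ≤ dim O_{X,y}` for all `y`, and for every `y0 : Y` and every maximal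
generization `y0'` of `y0` in `Y`, `dim O_{X,i y0'} ≤ dim O_{X_s, i y0}`.
-/

set_option autoImplicit false
universe u
open CategoryTheory CategoryTheory.Limits AlgebraicGeometry Opposite TopologicalSpace

namespace Groth.Agent.Lib.Helper73

/-- Cancellation in `WithBot ℕ∞`. -/
lemma withBot_enat_le_of_add_eq {a a' : WithBot ℕ∞} {m r n : ℕ} (h1 : a' + (m : WithBot ℕ∞) = n)
    (h2 : a + (r : WithBot ℕ∞) = n) (hrm : r ≤ m) : a' ≤ a := by
  induction a with
  | bot => simp at h2
  | coe a =>
    induction a' with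
    | bot => simp
    | coe a' =>
      have h1' : a' + (m : ℕ∞) = n := by exact_mod_cast h1
      have h2' : a + (r : ℕ∞) = n := by exact_mod_cast h2
      have ha' : a' ≠ ⊤ := by
        rintro rfl
        simp at h1'
      have ha : a ≠ ⊤ := by
        rintro rfl
        simp at h2'
      lift a to ℕ using ha
      lift a' to ℕ using ha'
      have h1'' : a' + m = n := by exact_mod_cast h1'
      have h2'' : a + r = n := by exact_mod_cast h2'
      have : a' ≤ a := by omega
      exact_mod_cast this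

/-- For a flat morphism of locally Noetherian schemes, the local ring of the fibre has dimension at
most that of the local ring of the total space. -/
theorem ringKrullDim_fiberStalk_le_stalk {X S : Scheme.{u}} [IsLocallyNoetherian X]
    [IsLocallyNoetherian S] (f : X ⟶ S) [Flat f] (x : X) :
    ringKrullDim (CInt.fiberStalk f x) ≤ ringKrullDim (X.presheaf.stalk x) := by
  rw [Helper67.FiberStalk.ringKrullDim_stalk_eq_add f x (Flat.stalkMap f x)]
  have h0 : (0 : WithBot ℕ∞) ≤ ringKrullDim (S.presheaf.stalk (f x)) :=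
    ringKrullDim_nonneg_of_nontrivial
  calc ringKrullDim (CInt.fiberStalk f x) = 0 + ringKrullDim (CInt.fiberStalk f x) := by
        rw [zero_add]
    _ ≤ _ := add_le_add_left h0 _

/-- For `f` smooth, `i` a closed immersion with `i ≫ f` smooth, and `y0'` a maximal point of `Y`
generizing `y0`: `dim O_{X,i y0'} ≤ dim O_{X_s,i y0}`. -/
theorem ringKrullDim_stalk_le_fiberStalk_of_smooth {X Y S : Scheme.{u}} [IsLocallyNoetherian X]
    [IsLocallyNoetherian S] (f : X ⟶ S) [Smooth f] (i : Y ⟶ X) [IsClosedImmersion i]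
    [Smooth (i ≫ f)] (y0 y0' : Y) (hy0'y0 : y0' ⤳ y0) (hmax : ∀ t : Y, t ⤳ y0' → t = y0') :
    ringKrullDim (X.presheaf.stalk (i y0')) ≤ ringKrullDim (CInt.fiberStalk f (i y0)) := by
  haveI : IsLocallyNoetherian Y := LocallyOfFiniteType.isLocallyNoetherian (i ≫ f)
  have hflat : ∀ x : X, (f.stalkMap x).hom.Flat := fun x => Flat.stalkMap f x
  have hflat' : ∀ y : Y, ((i ≫ f).stalkMap y).hom.Flat := fun y => Flat.stalkMap (i ≫ f) y
  -- the local ring of `Y` at `y0'` has dimension zero
  have hY0 : ringKrullDim (Y.presheaf.stalk y0') = 0 := by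
    rw [ringKrullDim_stalk_eq_coheight, WithBot.coe_eq_zero, Order.coheight_eq_zero]
    intro t ht
    have : t = y0' := hmax t (Scheme.le_iff_specializes.mp ht)
    exact this ▸ le_rfl
  have hsum := Helper67.FiberStalk.ringKrullDim_stalk_eq_add (i ≫ f) y0' (hflat' y0')
  rw [hY0] at hsum
  have hS0 : ringKrullDim (S.presheaf.stalk ((i ≫ f) y0')) = 0 := by
    have h0 : (0 : WithBot ℕ∞) ≤ ringKrullDim (S.presheaf.stalk ((i ≫ f) y0')) :=
      ringKrullDim_nonneg_of_nontrivial
    have h0' : (0 : WithBot ℕ∞) ≤ ringKrullDim (CInt.fiberStalk (i ≫ f) y0') :=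
      ringKrullDim_nonneg_of_nontrivial
    refine le_antisymm ?_ h0
    calc _ = ringKrullDim (S.presheaf.stalk ((i ≫ f) y0')) + 0 := by rw [add_zero]
      _ ≤ _ := add_le_add_right h0' _
      _ = 0 := hsum.symm
  have hF0 : ringKrullDim (CInt.fiberStalk (i ≫ f) y0') = 0 := by
    rw [hS0, zero_add] at hsum
    exact hsum.symm
  -- `dim O_{X,y'} = dim` of the fibre local ring
  have hX := Helper67.FiberStalk.ringKrullDim_stalk_eq_add f (i y0') (hflat (i y0'))
  have hfi : f (i y0') = (i ≫ f) y0' := rfl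
  rw [hfi, hS0, zero_add] at hX
  rw [hX]
  -- local constancy of the fibre dimensions
  obtain ⟨n, V, hyV, hV⟩ := Helper22.SmoothDim.exists_open_forall_fibreDimAt_eq_of_smooth f (i y0)
  obtain ⟨m, W, hyW, hW⟩ :=
    Helper22.SmoothDim.exists_open_forall_fibreDimAt_eq_of_smooth (i ≫ f) y0
  have hy'V : i y0' ∈ V := (hy0'y0.map i.continuous).mem_open V.2 hyV
  have hy'W : y0' ∈ W := hy0'y0.mem_open W.2 hyW
  have e1 := hV _ hy'V
  have e2 := hV _ hyV
  have e3 := hW _ hy'W
  have e4 := hW _ hyW
  rw [fibreDimAt_eq] at e1 e2 e3 e4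
  rw [resTrdegNat_comp_of_isPreimmersion] at e3 e4
  change ringKrullDim (CInt.fiberStalk (i ≫ f) y0') + _ = _ at e3
  rw [hF0, zero_add] at e3
  have e3' : resTrdegNat f (i y0') = m := by exact_mod_cast e3
  rw [e3'] at e1
  have hr : resTrdegNat f (i y0) ≤ m := by
    have h0' : (0 : WithBot ℕ∞) ≤ ringKrullDim (CInt.fiberStalk (i ≫ f) y0) :=
      ringKrullDim_nonneg_of_nontrivial
    have : ((resTrdegNat f (i y0) : ℕ) : WithBot ℕ∞) ≤ m := by
      rw [← e4]
      calc _ = 0 + ((resTrdegNat f (i y0) : ℕ) : WithBot ℕ∞) := by rw [zero_add]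
        _ ≤ _ := add_le_add_left h0' _
    exact_mod_cast this
  exact withBot_enat_le_of_add_eq e1 e2 hr

end Groth.Agent.Lib.Helper73
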